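import Mathlib.Algebra.Homology.DerivedCategory.KProjective
import Mathlib.Algebra.Homology.DerivedCategory.HomologySequence
import Mathlib.Algebra.Homology.DerivedCategory.Ext.EnoughProjectives
import Mathlib.Algebra.Homology.HomotopyCategory.HomComplexSingle
import Mathlib.Algebra.Homology.SingleHomology

/-!
Morphisms in the derived category from a projective object placed in degree zero.
-/

set_option autoImplicit false
set_option linter.style.haveILetI false

universe w v u

open CategoryTheory Limits HomologicalComplex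

namespace Groth.Agent.Lib.ProEtDC.SingleProj

set_option backward.isDefEq.respectTransparency false

variable {A : Type u} [Category.{v} A] [Abelian A]

/-- The degree zero homology component of a map out of a single complex. -/
noncomputable def h₀ {P : A} {M : CochainComplex A ℤ}
    (φ : (single A (ComplexShape.up ℤ) 0).obj P ⟶ M) : P ⟶ M.homology 0 :=
  (singleObjHomologySelfIso (ComplexShape.up ℤ) 0 P).inv ≫ homologyMap φ 0

lemma h₀_eq {P : A} {M : CochainComplex A ℤ}
    (φ : (single A (ComplexShape.up ℤ) 0).obj P ⟶ M) :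
    h₀ φ = (singleObjCyclesSelfIso (ComplexShape.up ℤ) 0 P).inv ≫ cyclesMap φ 0 ≫ M.homologyπ 0 := by
  rw [← homologyπ_naturality, ← Category.assoc, h₀]
  congr 1

theorem exists_h₀_eq {P : A} [Projective P] {M : CochainComplex A ℤ} (h : P ⟶ M.homology 0) :
    ∃ φ : (single A (ComplexShape.up ℤ) 0).obj P ⟶ M, h₀ φ = h := by
  let z := Projective.factorThru h (M.homologyπ 0)
  refine ⟨mkHomFromSingle (z ≫ M.iCycles 0) (fun j _ => by simp), ?_⟩
  rw [h₀_eq, ← Category.assoc]
  refine (congrArg (· ≫ M.homologyπ 0) ?_).trans (Projective.factorThru_comp h (M.homologyπ 0))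
  rw [← cancel_mono (M.iCycles 0), Category.assoc, cyclesMap_i,
    singleObjCyclesSelfIso_inv_iCycles_assoc, mkHomFromSingle_f, Iso.inv_hom_id_assoc]

theorem homotopy_zero_of_h₀ {P : A} [Projective P] {M : CochainComplex A ℤ}
    (φ : (single A (ComplexShape.up ℤ) 0).obj P ⟶ M) (h : h₀ φ = 0) :
    Nonempty (Homotopy φ 0) := by
  rw [h₀_eq, ← Category.assoc] at h
  let z := (singleObjCyclesSelfIso (ComplexShape.up ℤ) 0 P).inv ≫ cyclesMap φ 0
  let S := ShortComplex.mk (M.toCycles (-1) 0) (M.homologyπ 0) (M.toCycles_comp_homologyπ _ _)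
  have hS : S.Exact := S.exact_of_g_is_cokernel (M.homologyIsCokernel (-1) 0 (by simp))
  let w : P ⟶ M.X (-1) := hS.liftFromProjective z h
  have hw : w ≫ M.toCycles (-1) 0 = z := hS.liftFromProjective_comp z h
  refine ⟨(CochainComplex.HomComplex.Cochain.equivHomotopy _ _).symm
    ⟨CochainComplex.HomComplex.Cochain.fromSingleMk w (show (0 : ℤ) + -1 = -1 by simp), ?_⟩⟩
  rw [CochainComplex.HomComplex.Cochain.ofHom_zero, add_zero,
    CochainComplex.HomComplex.Cochain.δ_fromSingleMk _ _ 0 0 (by simp)]
  apply (CochainComplex.HomComplex.Cochain.fromSingleEquiv (show (0 : ℤ) + 0 = 0 by simp)).injective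
  rw [CochainComplex.HomComplex.Cochain.fromSingleEquiv_fromSingleMk]
  change (singleObjXSelf (ComplexShape.up ℤ) 0 P).inv ≫
    (CochainComplex.HomComplex.Cochain.ofHom φ).v 0 0 _ = _
  rw [CochainComplex.HomComplex.Cochain.ofHom_v, ← toCycles_i, ← Category.assoc, hw]
  simp only [z, Category.assoc, cyclesMap_i, singleObjCyclesSelfIso_inv_iCycles_assoc]

section Derived

variable [HasDerivedCategory.{w} A]

/-- The single object in the derived category, as a localised complex. -/
noncomputable def sQ (P : A) : (DerivedCategory.singleFunctor A 0).obj P ≅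
    DerivedCategory.Q.obj ((CochainComplex.singleFunctor A 0).obj P) :=
  ((SingleFunctors.evaluation _ _ 0).mapIso (DerivedCategory.singleFunctorsPostcompQIso A)).app P

lemma sQ_naturality {P P' : A} (a : P ⟶ P') :
    (DerivedCategory.singleFunctor A 0).map a ≫ (sQ P').hom =
      (sQ P).hom ≫ DerivedCategory.Q.map ((CochainComplex.singleFunctor A 0).map a) :=
  ((SingleFunctors.evaluation _ _ 0).mapIso (DerivedCategory.singleFunctorsPostcompQIso A)).hom.naturality a

/-- The degree zero homology of the single object. -/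
noncomputable def H₀ (P : A) : P ⟶ (DerivedCategory.homologyFunctor A 0).obj
    ((DerivedCategory.singleFunctor A 0).obj P) :=
  (singleObjHomologySelfIso (ComplexShape.up ℤ) 0 P).inv ≫
    (DerivedCategory.homologyFunctorFactors A 0).inv.app _ ≫
      (DerivedCategory.homologyFunctor A 0).map (sQ P).inv

lemma H₀_naturality {P P' : A} (a : P ⟶ P') :
    H₀ P ≫ (DerivedCategory.homologyFunctor A 0).map ((DerivedCategory.singleFunctor A 0).map a) =
      a ≫ H₀ P' := by
  have e1 : (sQ P).inv ≫ (DerivedCategory.singleFunctor A 0).map a =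
      DerivedCategory.Q.map ((CochainComplex.singleFunctor A 0).map a) ≫ (sQ P').inv := by
    rw [Iso.inv_comp_eq, ← Category.assoc, Iso.eq_comp_inv, sQ_naturality]
  have e2 := (DerivedCategory.homologyFunctorFactors A 0).inv.naturality
    ((CochainComplex.singleFunctor A 0).map a)
  simp only [H₀, Category.assoc, ← Functor.map_comp, e1]
  rw [Functor.map_comp]
  erw [← reassoc_of% e2]
  rw [← Category.assoc, ← Category.assoc (f := a)]
  congr 1
  rw [Iso.inv_comp_eq, ← Category.assoc, Iso.eq_comp_inv]
  exact singleObjHomologySelfIso_hom_naturality (c := ComplexShape.up ℤ) (j := 0) a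

/-- Morphisms from a projective in degree zero are maps to the degree zero homology. -/
theorem bijective_H₀ (P : A) [Projective P] (Z : DerivedCategory A) :
    Function.Bijective (fun x : (DerivedCategory.singleFunctor A 0).obj P ⟶ Z =>
      H₀ P ≫ (DerivedCategory.homologyFunctor A 0).map x) := by
  let M := DerivedCategory.Q.objPreimage Z
  let eM : DerivedCategory.Q.obj M ≅ Z := DerivedCategory.Q.objObjPreimageIso Z
  let H := DerivedCategory.homologyFunctor A 0
  let eH : M.homology 0 ≅ H.obj Z :=
    (DerivedCategory.homologyFunctorFactors A 0).symm.app M ≪≫ H.mapIso eM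
  have hθ : ∀ φ : (CochainComplex.singleFunctor A 0).obj P ⟶ M,
      H₀ P ≫ H.map ((sQ P).hom ≫ DerivedCategory.Q.map φ ≫ eM.hom) = h₀ φ ≫ eH.hom := fun φ => by
    have e2 := (DerivedCategory.homologyFunctorFactors A 0).inv.naturality φ
    simp only [H₀, h₀, eH, Category.assoc, Functor.map_comp, Iso.trans_hom, Iso.app_hom,
      Iso.symm_hom, Functor.mapIso_hom]
    erw [← Functor.map_comp_assoc H (sQ P).inv, Iso.inv_hom_id, CategoryTheory.Functor.map_id, Category.id_comp]
    erw [← reassoc_of% e2]
    rfl
  haveI hproj : ∀ n : ℤ, Projective (((CochainComplex.singleFunctor A 0).obj P).X n) := fun n => by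
    by_cases hn : n = 0
    · subst hn
      exact Projective.of_iso (singleObjXSelf (ComplexShape.up ℤ) 0 P).symm inferInstance
    · exact (isZero_single_obj_X (ComplexShape.up ℤ) 0 P n hn).projective
  haveI : ((CochainComplex.singleFunctor A 0).obj P).IsKProjective :=
    CochainComplex.isKProjective_of_projective _ 0
  let q := DerivedCategory.quotientCompQhIso A
  let S := (CochainComplex.singleFunctor A 0).obj P
  have hsurj : ∀ x : (DerivedCategory.singleFunctor A 0).obj P ⟶ Z,
      ∃ φ, x = (sQ P).hom ≫ DerivedCategory.Q.map φ ≫ eM.hom := fun x => by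
    obtain ⟨g, hg⟩ := (CochainComplex.IsKProjective.Qh_map_bijective S
      ((HomotopyCategory.quotient A _).obj M)).2
        (q.hom.app S ≫ (sQ P).inv ≫ x ≫ eM.inv ≫ q.inv.app M)
    obtain ⟨φ, rfl⟩ := (HomotopyCategory.quotient A _).map_surjective g
    refine ⟨φ, ?_⟩
    have hn : DerivedCategory.Qh.map ((HomotopyCategory.quotient A _).map φ) ≫ q.hom.app M =
        q.hom.app S ≫ DerivedCategory.Q.map φ := q.hom.naturality φ
    rw [hg] at hn
    simp only [Category.assoc, Iso.inv_hom_id_app] at hn
    have hn' := (cancel_epi (q.hom.app S)).1 hn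
    erw [Category.comp_id] at hn'
    rw [← hn']
    simp
  refine ⟨fun x y hxy => ?_, fun h => ?_⟩
  · obtain ⟨φ, rfl⟩ := hsurj x
    obtain ⟨ψ, rfl⟩ := hsurj y
    change H₀ P ≫ H.map _ = H₀ P ≫ H.map _ at hxy
    rw [hθ, hθ, cancel_mono] at hxy
    obtain ⟨ht⟩ := homotopy_zero_of_h₀ (φ - ψ) (by
      simp only [h₀] at hxy ⊢
      rw [homologyMap_sub, Preadditive.comp_sub, hxy, sub_self])
    congr 2
    exact DerivedCategory.Q_map_eq_of_homotopy _ (Homotopy.equivSubZero.symm ht)
  · obtain ⟨φ, hφ⟩ := exists_h₀_eq (h ≫ eH.inv)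
    exact ⟨(sQ P).hom ≫ DerivedCategory.Q.map φ ≫ eM.hom, by
      change H₀ P ≫ H.map _ = h
      rw [hθ, hφ, Category.assoc, Iso.inv_hom_id, Category.comp_id]⟩

end Derived

end Groth.Agent.Lib.ProEtDC.SingleProj
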