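import Groth.Agent.Lib.AR.Category

/-!
Chains of subsystems adic up to translation stabilize up to translation.
-/

set_option autoImplicit false
set_option linter.style.haveILetI false

universe w v u

open CategoryTheory CategoryTheory.Limits Opposite ARSys

noncomputable section

namespace Groth.Agent.Lib.ProEtDC.ARChain

open AR

variable {C : Type u} [Category.{v} C] [Abelian C]

lemma isStrict_biprod {X Y : PS C} (hX : IsStrict X) (hY : IsStrict Y) : IsStrict (X ⊞ Y) :=
  fun n m h => by
    have := hX n m h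
    have := hY n m h
    refine Preadditive.epi_of_cancel_zero _ fun {P} φ hφ => ?_
    have h1 : (biprod.inl : X ⟶ X ⊞ Y).app (op n) ≫ φ = 0 := by
      rw [← cancel_epi (tr X h), comp_zero, ← tr_app_assoc, hφ, comp_zero]
    have h2 : (biprod.inr : Y ⟶ X ⊞ Y).app (op n) ≫ φ = 0 := by
      rw [← cancel_epi (tr Y h), comp_zero, ← tr_app_assoc, hφ, comp_zero]
    have ht := congrArg (fun t : X ⊞ Y ⟶ X ⊞ Y => t.app (op n)) (biprod.total (X := X) (Y := Y))
    simp only [NatTrans.app_add, NatTrans.comp_app, NatTrans.id_app] at ht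
    rw [← Category.id_comp φ, ← ht, Preadditive.add_comp, Category.assoc, Category.assoc, h1, h2,
      comp_zero, comp_zero, add_zero]

variable {A : Type w} [CommRing A] [IsNoetherianRing A] [Linear A C] {J : Ideal A}

theorem exists_isARIso_ofLE {F : PS C} (hF : IsAdicNoeth J F) (Z : ℕ →o Subobject F)
    (hZ : ∀ k, ∃ (Y : PS C) (v : Y ⟶ (Z k : PS C)), IsStrict Y ∧ IsARNull (cokernel v)) :
    ∃ k₀ : ℕ, ∀ k : ℕ, k₀ ≤ k →
      IsARIso (Subobject.ofLE (Z k) (Z (k + 1)) (Z.monotone (Nat.le_succ k))) := by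
  choose Y v hY hv using hZ
  let T : ℕ → Σ P : PS C, (P ⟶ F) := fun k =>
    Nat.rec ⟨Y 0, v 0 ≫ (Z 0).arrow⟩
      (fun j p => ⟨p.1 ⊞ Y (j + 1), biprod.desc p.2 (v (j + 1) ≫ (Z (j + 1)).arrow)⟩) k
  have hT : ∀ k, IsStrict (T k).1 := fun k => by
    induction k with
    | zero => exact hY 0
    | succ k ih => exact isStrict_biprod ih (hY (k + 1))
  have hle : ∀ k, imageSubobject (T k).2 ≤ Z k := fun k => by
    induction k with
    | zero => exact imageSubobject_le _ (v 0) rfl
    | succ k ih =>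
      refine imageSubobject_le _ (biprod.desc (factorThruImageSubobject (T k).2 ≫
        Subobject.ofLE _ _ (ih.trans (Z.monotone k.le_succ))) (v (k + 1))) ?_
      refine biprod.hom_ext' _ _ ?_ ?_
      · rw [biprod.inl_desc_assoc, Category.assoc, Subobject.ofLE_arrow, imageSubobject_arrow_comp]
        exact (biprod.inl_desc _ _).symm
      · rw [biprod.inr_desc_assoc]
        exact (biprod.inr_desc _ _).symm
  let S : ℕ →o Subobject F := ⟨fun k => imageSubobject (T k).2, monotone_nat_of_le_succ fun k =>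
    imageSubobject_le _ (biprod.inl ≫ factorThruImageSubobject (T (k + 1)).2) (by
      rw [Category.assoc, imageSubobject_arrow_comp]
      exact biprod.inl_desc _ _)⟩
  obtain ⟨k₀, hk₀⟩ := strictSub_chain_stationary hF S fun k =>
    isStrict_of_epi (factorThruImageSubobject (T k).2)
      (fun n => epi_app (factorThruImageSubobject (T k).2) (op n)) (hT k)
  refine ⟨k₀, fun k hk => ?_⟩
  let ι := Subobject.ofLE (Z k) (Z (k + 1)) (Z.monotone (Nat.le_succ k))
  have heq : imageSubobject (T (k + 1)).2 = imageSubobject (T k).2 :=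
    (hk₀ (k + 1) (by omega)).trans (hk₀ k hk).symm
  let l : Y (k + 1) ⟶ (Z k : PS C) := biprod.inr ≫ factorThruImageSubobject (T (k + 1)).2 ≫
    Subobject.ofLE _ _ (heq.le.trans (hle k))
  have hl : l ≫ ι = v (k + 1) := by
    rw [← cancel_mono (Z (k + 1)).arrow]
    simp only [l, ι, Category.assoc, Subobject.ofLE_arrow, imageSubobject_arrow_comp]
    exact biprod.inr_desc _ _
  let q : cokernel (v (k + 1)) ⟶ cokernel ι :=
    cokernel.desc _ (cokernel.π ι) (by rw [← hl, Category.assoc, cokernel.condition, comp_zero])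
  have : Epi (cokernel.π (v (k + 1)) ≫ q) := by rw [cokernel.π_desc]; infer_instance
  have : Epi q := epi_of_epi (cokernel.π (v (k + 1))) q
  obtain ⟨r, hr⟩ := isARNull_iff.1 (hv (k + 1))
  refine ⟨⟨0, fun n => ?_⟩, isARNull_iff.2 ⟨r, hr.of_epi q⟩⟩
  have h0 : IsZero (kernel ι) := isZero_kernel_of_mono ι
  refine IsZero.eq_of_tgt ?_ _ _
  rw [IsZero.iff_id_eq_zero, ← NatTrans.id_app, (IsZero.iff_id_eq_zero _).1 h0]
  rfl

end Groth.Agent.Lib.ProEtDC.ARChain
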