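import Groth.Agent.H88.EtMod.ChainCondition
import Groth.Agent.Lib.AR.Category
import Mathlib.CategoryTheory.Linear.FunctorCategory

/-!
Constructible sheaves of modules on a Noetherian scheme are the Noetherian objects; kernels and cokernels of
morphisms of adic systems of constructible sheaves.
-/

set_option autoImplicit false
set_option linter.style.haveILetI false

universe u

open CategoryTheory CategoryTheory.Limits AlgebraicGeometry Opposite

noncomputable section

namespace Groth.Agent.Lib.ProEtDC.NoethConstr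

open H88.EtMod

variable {Λ : Type (u + 1)} [CommRing Λ] [IsNoetherianRing Λ] {X : Scheme.{u}} [IsNoetherian X]

theorem isNoetherianObject_of_isConstructible {F : EtModW.Mod Λ X} (hF : EtModW.IsConstructible Λ F) :
    IsNoetherianObject F := by
  rw [isNoetherianObject_iff_monotone_chain_condition]
  intro f
  obtain ⟨N, hN⟩ := ChainCondition.exists_isIso hF (fun k => (f k : EtModW.Mod Λ X))
    (fun k => (f k).arrow) (fun k l h => Subobject.ofLE _ _ (f.monotone h))
    (fun k l h => Subobject.ofLE_arrow _)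
  refine ⟨N, fun m hm => le_antisymm (f.monotone hm) ?_⟩
  haveI := hN m hm
  exact Subobject.le_of_comm (inv (Subobject.ofLE _ _ (f.monotone hm))) (by simp)

theorem isConstructible_of_isNoetherianObject (F : EtModW.Mod Λ X) (h : IsNoetherianObject F) :
    EtModW.IsConstructible Λ F := by
  haveI := h
  obtain ⟨L, q, hL, hq⟩ := ChainCondition.exists_freeSum_epi F
  exact Quotient.isConstructible_of_epi q (FreeResolve.isConstructible_of_freeSum hL)

theorem isAdicNoeth {I : Ideal Λ} {F : ARSys.PS (EtModW.Mod Λ X)} (hF : ARSys.IsAdic I F)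
    (hc : ∀ n : ℕ, EtModW.IsConstructible Λ (F.obj (op n))) : ARSys.IsAdicNoeth I F :=
  ⟨hF, fun n => isNoetherianObject_of_isConstructible (hc n)⟩

theorem exists_cover {I : Ideal Λ} {K : ARSys.PS (EtModW.Mod Λ X)} (h : ARSys.IsARAdicNoeth I K) :
    ARSys.TermKilled I K ∧ ∃ (Y : ARSys.PS (EtModW.Mod Λ X)) (v : Y ⟶ K), ARSys.IsAdic I Y ∧
      (∀ n : ℕ, EtModW.IsConstructible Λ (Y.obj (op n))) ∧ ARSys.IsARIso v := by
  obtain ⟨Y, v, hY, hv⟩ := AR.exists_isAdicNoeth_isARIso h
  exact ⟨h.1.1, Y, v, hY.1, fun n => isConstructible_of_isNoetherianObject _ (hY.2 n), hv⟩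

theorem kernel_cokernel {I : Ideal Λ} {F G : ARSys.PS (EtModW.Mod Λ X)} (hF : ARSys.IsAdic I F)
    (hG : ARSys.IsAdic I G) (hFc : ∀ n : ℕ, EtModW.IsConstructible Λ (F.obj (op n)))
    (hGc : ∀ n : ℕ, EtModW.IsConstructible Λ (G.obj (op n))) (w : F ⟶ G) :
    ARSys.IsARAdicNoeth I (kernel w) ∧ ARSys.IsARAdicNoeth I (cokernel w) :=
  AR.isARAdicNoeth_kernel_cokernel w
    (AR.isARAdicNoeth_of_isAdicNoeth (isAdicNoeth hF hFc))
    (AR.isARAdicNoeth_of_isAdicNoeth (isAdicNoeth hG hGc))

end Groth.Agent.Lib.ProEtDC.NoethConstr
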