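import Groth.Agent.Lib.AR.Detect
import Groth.Agent.Lib.ProEtDC.NoethConstr
import Groth.Agent.H88.EtMod.ARTransport
import Groth.Agent.H88.EtMod.TensorCxStalk

/-!
Adicity up to translation of systems of constructible sheaves is detected by stalks and by surjective families
of morphisms.
-/

set_option autoImplicit false
set_option linter.style.haveILetI false

universe u

open CategoryTheory CategoryTheory.Limits AlgebraicGeometry Opposite

noncomputable section

namespace Groth.Agent.Lib.ProEtDC.ARPoints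

open Groth.Agent.Lib.EtSite Groth.Agent.Lib.EtSite.Basic H88.EtMod

variable {Λ : Type (u + 1)} [CommRing Λ] {X : Scheme.{u}}

section Stalk

variable {Ω : Type u} [Field Ω] [IsSepClosed Ω] (ξ : Spec (CommRingCat.of Ω) ⟶ X)

instance additive_stalk : (EtModW.stalk Λ ξ).Additive := TensorCxStalk.additive_S ξ

instance preservesColimits_stalk : PreservesFiniteColimits (EtModW.stalk Λ ξ) :=
  haveI := LCOps.hasColimits_small (Λ := Λ)
  haveI : PreservesColimitsOfSize.{0, 0} (EtModW.stalk Λ ξ) :=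
    TensorCxStalk.preservesColimitsOfSize_zero ξ
  PreservesColimitsOfSize.preservesFiniteColimits _

/-- The stalk at a point of the source is the stalk of the inverse image. -/
def stalkPull {Y : Scheme.{u}} (f : X ⟶ Y) :
    EtModW.stalk Λ (ξ ≫ f) ≅ EtModW.pull Λ f ⋙ EtModW.stalk Λ ξ :=
  haveI := LCOps.hasLimits_small (Λ := Λ)
  haveI := LCOps.hasColimits_small (Λ := Λ)
  (Pull.stalkPullIso f ξ (ModuleCat.{u + 1} Λ)).symm

theorem isZero_stalk_image {F G : EtModW.Mod Λ X} (φ : F ⟶ G) (h : (EtModW.stalk Λ ξ).map φ = 0) :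
    IsZero ((EtModW.stalk Λ ξ).obj (Abelian.image φ)) := by
  haveI := LCOps.hasLimits_small (Λ := Λ)
  haveI := LCOps.hasColimits_small (Λ := Λ)
  rw [← Abelian.image.fac φ, Functor.map_comp] at h
  haveI : Mono ((EtModW.stalk Λ ξ).map (Abelian.image.ι φ)) := inferInstance
  haveI : Epi ((EtModW.stalk Λ ξ).map (Abelian.factorThruImage φ)) := inferInstance
  have h0 := zero_of_comp_mono _ h
  exact IsZero.of_epi_eq_zero _ h0

end Stalk

/-- A family of geometric points over all points detects zero objects. -/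
theorem isZero_of_enoughPts (F : EtModW.Mod Λ X)
    (h : Stalk.EnoughPts X fun Ω _ _ ξ => IsZero ((EtModW.stalk Λ ξ).obj F)) : IsZero F := by
  haveI := LCOps.hasLimits_small (Λ := Λ)
  haveI := LCOps.hasColimits_small (Λ := Λ)
  rw [IsZero.iff_id_eq_zero]
  haveI : IsIso (0 : F ⟶ F) := Stalk.isIso_of_stalks _ fun x => by
    obtain ⟨Ω, hΩ, hΩ', ξ, hξ, hz⟩ := h x
    have hs : Subsingleton ↥((EtModW.stalk Λ ξ).obj F) := ModuleCat.subsingleton_of_isZero hz
    exact ⟨Ω, hΩ, hΩ', ξ, hξ, fun a b _ => @Subsingleton.elim _ hs a b,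
      fun b => ⟨b, @Subsingleton.elim _ hs _ _⟩⟩
  exact (IsIso.hom_inv_id (0 : F ⟶ F)).symm.trans zero_comp

/-- A family of geometric points over all points detects zero morphisms. -/
theorem eq_zero_of_enoughPts {F G : EtModW.Mod Λ X} (φ : F ⟶ G)
    (h : Stalk.EnoughPts X fun Ω _ _ ξ => (EtModW.stalk Λ ξ).map φ = 0) : φ = 0 := by
  have hz : IsZero (Abelian.image φ) := isZero_of_enoughPts _ fun x => by
    obtain ⟨Ω, hΩ, hΩ', ξ, hξ, h0⟩ := h x
    exact ⟨Ω, hΩ, hΩ', ξ, hξ, isZero_stalk_image ξ φ h0⟩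
  rw [← Abelian.image.fac φ, hz.eq_of_tgt (Abelian.factorThruImage φ) 0, zero_comp]

/-- Jointly surjective inverse images detect zero morphisms. -/
theorem eq_zero_of_pull {ι : Type*} {U : ι → Scheme.{u}} (g : ∀ i, U i ⟶ X)
    (hsurj : ∀ x : X, ∃ (i : ι) (t : U i), (g i).base t = x) {F G : EtModW.Mod Λ X} (φ : F ⟶ G)
    (h : ∀ i, (EtModW.pull Λ (g i)).map φ = 0) : φ = 0 := by
  refine eq_zero_of_enoughPts φ fun x => ?_
  obtain ⟨i, t, ht⟩ := hsurj x
  refine ⟨_, inferInstance, inferInstance, geomPoint (U i) t ≫ g i,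
    (congrArg (g i).base (geomPoint_apply t default)).trans ht, ?_⟩
  change (EtModW.stalk Λ (geomPoint (U i) t ≫ g i)).map φ = 0
  rw [← cancel_mono ((stalkPull (geomPoint (U i) t) (g i)).hom.app G), NatTrans.naturality]
  change _ ≫ (EtModW.stalk Λ (geomPoint (U i) t)).map ((EtModW.pull Λ (g i)).map φ) = _
  rw [h i, Functor.map_zero, comp_zero, zero_comp]

section Pull

variable [IsNoetherianRing Λ] [IsNoetherian X] {I : Ideal Λ}

/-- Adicity up to translation is transported by inverse images. -/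
theorem arAdic_pull {Y : Scheme.{u}} (f : Y ⟶ X) {F : ARSys.PS (EtModW.Mod Λ X)}
    (h : ARSys.TermKilled I F ∧ ∃ (Z : ARSys.PS (EtModW.Mod Λ X)) (v : Z ⟶ F), ARSys.IsAdic I Z ∧
      (∀ n : ℕ, EtModW.IsConstructible Λ (Z.obj (op n))) ∧ ARSys.IsARIso v) :
    ARSys.TermKilled I (F ⋙ EtModW.pull Λ f) ∧ ∃ (Z : ARSys.PS (EtModW.Mod Λ Y))
      (v : Z ⟶ F ⋙ EtModW.pull Λ f), ARSys.IsAdic I Z ∧
      (∀ n : ℕ, EtModW.IsConstructible Λ (Z.obj (op n))) ∧ ARSys.IsARIso v :=
  ARTransport.arAdic_map (EtModW.pull Λ f) (EtSix.pullPushModAdj Λ f)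
    (fun hZ => Constr.isConstructible_pull f hZ) h

/-- Adicity up to translation is detected by finite jointly surjective families. -/
theorem arAdic_of_pull {ι : Type*} [Finite ι] {U : ι → Scheme.{u}} (g : ∀ i, U i ⟶ X)
    (hsurj : ∀ x : X, ∃ (i : ι) (t : U i), (g i).base t = x) {F : ARSys.PS (EtModW.Mod Λ X)}
    (hc : ∀ n : ℕ, EtModW.IsConstructible Λ (F.obj (op n))) (hk : ARSys.TermKilled I F)
    (h : ∀ i, ARSys.IsARAdic I (F ⋙ EtModW.pull Λ (g i))) :
    ARSys.TermKilled I F ∧ ∃ (Z : ARSys.PS (EtModW.Mod Λ X)) (v : Z ⟶ F), ARSys.IsAdic I Z ∧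
      (∀ n : ℕ, EtModW.IsConstructible Λ (Z.obj (op n))) ∧ ARSys.IsARIso v := by
  refine NoethConstr.exists_cover
    ⟨?_, fun n => NoethConstr.isNoetherianObject_of_isConstructible (hc n)⟩
  exact AR.isARAdic_of_detect_finite (fun i => EtModW.pull Λ (g i))
    (Or.inl (IsNoetherian.noetherian I)) (fun φ hφ => eq_zero_of_pull g hsurj φ hφ) hk h

end Pull

end Groth.Agent.Lib.ProEtDC.ARPoints
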