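import Groth.Agent.Lib.ProEtDC.AdicKer

/-!
Chains of adic pro-etale subsheaves of an adic pro-etale sheaf are stationary.
-/

set_option autoImplicit false
set_option linter.style.haveILetI false

universe u

open CategoryTheory CategoryTheory.Limits AlgebraicGeometry Opposite

noncomputable section

namespace Groth.Agent.Lib.ProEtDC.AdicChain

set_option backward.isDefEq.respectTransparency.types false

open AdicP AdicKer

variable {Λ : Type (u + 1)} [CommRing Λ] [IsNoetherianRing Λ] {X : Scheme.{u}} [IsNoetherian X]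
  [ProEtS.EpsCont X] {I : Ideal Λ}

/-- The map onto the image induces an epimorphism of limits. -/
theorem epi_map_factorThruImage {A B : ARSys.PS (EtModW.Mod Λ X)} (hA : ARSys.IsAdic I A)
    (hB : ARSys.IsAdic I B) (hAc : ∀ n : ℕ, EtModW.IsConstructible Λ (A.obj (op n)))
    (hBc : ∀ n : ℕ, EtModW.IsConstructible Λ (B.obj (op n))) (g : A ⟶ B) :
    Epi ((Φ Λ X).map (Abelian.factorThruImage g)) := by
  obtain ⟨-, Y, v, hY, -, hv⟩ :=
    NoethConstr.exists_cover (NoethConstr.kernel_cokernel hA hB hAc hBc g).1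
  exact AdicEpi.epi_limMap (AR.shortExact_kernel (Abelian.factorThruImage g))
    (v ≫ (kernelIsoOfEq (Abelian.image.fac g).symm ≪≫
      kernelCompMono (Abelian.factorThruImage g) (Abelian.image.ι g)).hom)
    (AR.isStrict_of_isAdic hY) (isARNull_comp hv.2)

/-- Increasing sequences of adic pro-etale subsheaves are stationary. -/
theorem chain_stationary {F : EtModW.ModP Λ X} (hF : IsP I F) (Z : ℕ →o Subobject F)
    (hZ : ∀ k : ℕ, IsP I (Subobject.underlying.obj (Z k))) :
    ∃ k₀ : ℕ, ∀ k : ℕ, k₀ ≤ k → Z k = Z k₀ := by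
  have hI : I.FG := IsNoetherian.noetherian I
  have hiso : ∀ {A B : EtModW.Mod Λ X}, (A ≅ B) → EtModW.IsConstructible Λ A →
      EtModW.IsConstructible Λ B := fun e h => H88.EtMod.Constructible.isConstructible_of_iso e h
  haveI := preservesFiniteLimits_Φ (Λ := Λ) (X := X)
  obtain ⟨A, hA, hAc, ⟨eA⟩⟩ := exists_adic_of_isP hiso hF
  choose B hB hBc eB using fun k => exists_adic_of_isP hiso (hZ k)
  let α : ∀ k, (Φ Λ X).obj (B k) ≅ (Z k : EtModW.ModP Λ X) := fun k => (eB k).some
  choose g hg _ using fun k => existsUnique_hom hI (hB k) hA ((α k).hom ≫ (Z k).arrow ≫ eA.inv)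
  have hg' : ∀ k, (Φ Λ X).map (g k) = (α k).hom ≫ (Z k).arrow ≫ eA.inv := hg
  choose h hh _ using fun k => existsUnique_hom hI (hB k) (hB (k + 1))
    ((α k).hom ≫ Subobject.ofLE _ _ (Z.monotone k.le_succ) ≫ (α (k + 1)).inv)
  have hh' : ∀ k, (Φ Λ X).map (h k) =
      (α k).hom ≫ Subobject.ofLE _ _ (Z.monotone k.le_succ) ≫ (α (k + 1)).inv := hh
  have hcomp : ∀ k, h k ≫ g (k + 1) = g k := fun k => by
    refine (existsUnique_hom hI (hB k) hA _).unique rfl ?_
    change (Φ Λ X).map (g k) = (Φ Λ X).map (h k ≫ g (k + 1))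
    rw [Functor.map_comp, hh', hg', hg']
    simp
  let S : ℕ →o Subobject A := ⟨fun k => imageSubobject (g k), monotone_nat_of_le_succ fun k => by
    rw [← hcomp k]
    exact imageSubobject_comp_le _ _⟩
  obtain ⟨k₀, hk₀⟩ := AR.strictSub_chain_stationary (NoethConstr.isAdicNoeth hA hAc) S fun k =>
    AR.isStrict_of_epi (factorThruImageSubobject (g k))
      (fun n => AR.epi_app (factorThruImageSubobject (g k)) (op n)) (AR.isStrict_of_isAdic (hB k))
  refine ⟨k₀, fun k hk => ?_⟩
  haveI : ∀ S : Subobject A, Mono ((Φ Λ X).map S.arrow ≫ eA.hom) := fun S => inferInstance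
  have key : ∀ k, Z k = Subobject.mk ((Φ Λ X).map (S k).arrow ≫ eA.hom) := fun k => by
    let e := factorThruImageSubobject (g k)
    have he : e = Abelian.factorThruImage (g k) ≫ ((Abelian.imageIsoImage (g k)).hom ≫
        (imageSubobjectIso (g k)).inv) := by
      rw [← cancel_mono (imageSubobject (g k)).arrow]
      rw [Category.assoc, Category.assoc, imageSubobject_arrow_comp, imageSubobject_arrow']
      exact ((congrArg (Abelian.factorThruImage (g k) ≫ ·)
        (Abelian.imageIsoImage_hom_comp_image_ι (f := g k))).trans (Abelian.image.fac (g k))).symm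
    haveI : Epi ((Φ Λ X).map e) := by
      haveI := epi_map_factorThruImage (hB k) hA (hBc k) hAc (g k)
      rw [he, Functor.map_comp]
      infer_instance
    have hfac : (Φ Λ X).map e ≫ (Φ Λ X).map (S k).arrow = (α k).hom ≫ (Z k).arrow ≫ eA.inv := by
      rw [← Functor.map_comp, ← hg']
      exact congrArg _ (imageSubobject_arrow_comp (g k))
    haveI : Mono ((Φ Λ X).map e) := by
      haveI : Mono ((Φ Λ X).map e ≫ (Φ Λ X).map (S k).arrow) := by rw [hfac]; infer_instance
      exact mono_of_mono _ ((Φ Λ X).map (S k).arrow)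
    haveI := isIso_of_mono_of_epi ((Φ Λ X).map e)
    refine Subobject.eq_mk_of_comm _ ((α k).symm ≪≫ asIso ((Φ Λ X).map e)) ?_
    change ((α k).inv ≫ (Φ Λ X).map e) ≫ (Φ Λ X).map (S k).arrow ≫ eA.hom = _
    rw [Category.assoc, ← Category.assoc ((Φ Λ X).map e) _ eA.hom]
    refine (congrArg (fun t => (α k).inv ≫ t ≫ eA.hom) hfac).trans ?_
    simp
  rw [key k, key k₀, hk₀ k hk]

end Groth.Agent.Lib.ProEtDC.AdicChain
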