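import Groth.Agent.Lib.ProEtDC.AdicP

/-!
Epimorphisms of limits of systems on the pro-etale site.
-/

set_option autoImplicit false
set_option linter.style.haveILetI false

universe u

open CategoryTheory CategoryTheory.Limits AlgebraicGeometry Opposite

noncomputable section

namespace Groth.Agent.Lib.ProEtDC.AdicEpi

set_option backward.isDefEq.respectTransparency.types false

open Sections Crit LimSect ProEt.EpsMod AdicP

variable {Λ : Type (u + 1)} [CommRing Λ] {X : Scheme.{u}} [ProEtS.EpsCont X]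

/-- The pullback is exact. -/
theorem preservesFiniteLimits_pull : PreservesFiniteLimits (EtModW.epsPullMod Λ X) := by
  haveI : (EtModW.epsPullMod Λ X).IsLeftAdjoint := (adjM Λ).isLeftAdjoint
  have h : PreservesFiniteLimits (EtModW.epsPullMod Λ X) ∧
      PreservesFiniteColimits (EtModW.epsPullMod Λ X) :=
    (List.TFAE.out (Functor.exact_tfae (EtModW.epsPullMod Λ X)) 0 3
      (a := ∀ S : ShortComplex (EtModW.Mod Λ X), S.ShortExact →
        (S.map (EtModW.epsPullMod Λ X)).ShortExact)).mp fun _ hS => shortExact_map Λ hS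
  exact h.1

/-- Exact sequences of systems give exact sequences of sections. -/
theorem exact_sect {S : ShortComplex (ARSys.PS (EtModW.Mod Λ X))} (hS : S.Exact) (n : ℕ) (W : WCAff X) :
    (∀ b, ((Γ Λ W.1).map ((EtModW.epsPullMod Λ X).map (S.g.app (op n)))).hom b = 0 →
        ∃ a, ((Γ Λ W.1).map ((EtModW.epsPullMod Λ X).map (S.f.app (op n)))).hom a = b) ∧
      ∀ a, ((Γ Λ W.1).map ((EtModW.epsPullMod Λ X).map (S.g.app (op n)))).hom
        (((Γ Λ W.1).map ((EtModW.epsPullMod Λ X).map (S.f.app (op n)))).hom a) = 0 := by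
  haveI := preservesFiniteLimits_pull (Λ := Λ) (X := X)
  haveI : (EtModW.epsPullMod Λ X).IsLeftAdjoint := (adjM Λ).isLeftAdjoint
  haveI : PreservesFiniteColimits (EtModW.epsPullMod Λ X) := inferInstance
  exact Thms.exact_Γ_map ((hS.map ((evaluation ℕᵒᵖ (EtModW.Mod Λ X)).obj (op n))).map
    (EtModW.epsPullMod Λ X)) W

/-- A surjection of systems whose kernel receives a strict system with null cokernel gives an epimorphism
of limits. -/
theorem epi_limMap {S : ShortComplex (ARSys.PS (EtModW.Mod Λ X))} (hS : S.ShortExact)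
    {Y : ARSys.PS (EtModW.Mod Λ X)} (v : Y ⟶ S.X₁) (hY : ARSys.IsStrict Y)
    (hv : ARSys.IsARNull (cokernel v)) :
    Epi (limMap (Functor.whiskerRight S.g (EtModW.epsPullMod Λ X))) := by
  let L := EtModW.epsPullMod Λ X
  haveI : L.IsLeftAdjoint := (adjM Λ).isLeftAdjoint
  haveI := hS.epi_g
  obtain ⟨r, hr⟩ := hv
  refine epi_of_sections _ fun W c => ?_
  have hv' : ∀ n (a : (((S.X₁ ⋙ L) ⋙ Γ Λ W.1).obj (op (n + r)))),
      ∃ y, ((Functor.whiskerRight v (L ⋙ Γ Λ W.1)).app (op n)).hom y =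
        Tower.t ((S.X₁ ⋙ L) ⋙ Γ Λ W.1) (Nat.le_add_right n r) a := fun n a => by
    refine (exact_sect (S := ShortComplex.mk v (cokernel.π v) (cokernel.condition v))
      (ShortComplex.exact_of_g_is_cokernel _ (cokernelIsCokernel v)) n W).1 _ ?_
    have h1 : ARSys.tr S.X₁ (Nat.le_add_right n r) ≫ (cokernel.π v).app (op n) = 0 := by
      rw [← AR.tr_app, show ARSys.tr (cokernel v) (Nat.le_add_right n r) = 0 from hr n, comp_zero]
    change ((Γ Λ W.1).map (L.map ((cokernel.π v).app (op n)))).hom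
      (((Γ Λ W.1).map (L.map (ARSys.tr S.X₁ (Nat.le_add_right n r)))).hom a) = 0
    rw [← map_comp_apply, ← Functor.map_comp, h1, Functor.map_zero, Functor.map_zero]
    rfl
  obtain ⟨b, hb, hbc⟩ := Tower.exists_lift
    (Functor.whiskerRight S.f (L ⋙ Γ Λ W.1)) (Functor.whiskerRight S.g (L ⋙ Γ Λ W.1))
    (Functor.whiskerRight v (L ⋙ Γ Λ W.1))
    (fun n => by
      haveI : Epi (S.g.app (op n)) := inferInstance
      exact Thms.surjective_Γ_map (L.map (S.g.app (op n))) W)
    (fun n => (exact_sect hS.exact n W).1) (fun n => (exact_sect hS.exact n W).2)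
    (fun n m h => by
      haveI := hY n m h
      exact Thms.surjective_Γ_map (L.map (ARSys.tr Y h)) W)
    r hv' _ (compat_proj (S.X₃ ⋙ L) W c)
  obtain ⟨z, hz⟩ := exists_of_compat (S.X₂ ⋙ L) W hb
  refine ⟨z, ext_sect (D := S.X₃ ⋙ L) W _ _ fun j => ?_⟩
  obtain ⟨n⟩ := j
  refine Eq.trans ?_ (hbc n)
  rw [← map_comp_apply, limMap_π, map_comp_apply]
  exact congrArg _ (hz n)

end Groth.Agent.Lib.ProEtDC.AdicEpi
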