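import Groth.Agent.Lib.ProEtDC.AdicChain
import Groth.Agent.Lib.ProEt.ConstrP
import Mathlib.Algebra.Homology.ShortComplex.SnakeLemma
import Mathlib.Algebra.Homology.ShortComplex.Abelian

/-!
Extensions of adic pro-etale sheaves for a principal ideal.
-/

set_option autoImplicit false
set_option linter.style.haveILetI false

universe u

open CategoryTheory CategoryTheory.Limits AlgebraicGeometry Opposite

noncomputable section

namespace Groth.Agent.Lib.ProEtDC.AdicExt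

set_option backward.isDefEq.respectTransparency.types false

open Sections Crit LimSect AdicP

variable {Λ : Type (u + 1)} [CommRing Λ] {X : Scheme.{u}}

lemma smul_id_apply (b : Λ) (F : EtModW.ModP Λ X) (U : X.ProEt) (x : F.obj.obj (op U)) :
    ((Γ Λ U).map (b • 𝟙 F)).hom x = b • x := by
  rw [Functor.map_smul]
  rfl

/-- The cokernel of multiplication is the quotient modulo the principal ideal. -/
lemma isQuot_cokernel_smul (b : Λ) (G : EtModW.ModP Λ X) :
    ARSys.IsQuot (Ideal.span {b}) (cokernel.π (b • 𝟙 G)) := by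
  have hb : b • cokernel.π (b • 𝟙 G) = 0 := by
    have := cokernel.condition (b • 𝟙 G)
    rwa [Linear.smul_comp, Category.id_comp] at this
  refine ⟨fun c hc => ?_, fun Y φ hφ => ?_⟩
  · obtain ⟨d, rfl⟩ := Ideal.mem_span_singleton'.1 hc
    rw [← cancel_epi (cokernel.π (b • 𝟙 G)), Linear.comp_smul, Category.comp_id, comp_zero,
      mul_smul, hb, smul_zero]
  · have h : (b • 𝟙 G) ≫ φ = 0 := by
      rw [Linear.smul_comp, Category.id_comp]
      exact hφ b (Ideal.mem_span_singleton_self b)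
    exact ⟨cokernel.desc _ φ h, cokernel.π_desc _ _ _, fun ψ hψ => by
      rw [← cancel_epi (cokernel.π (b • 𝟙 G)), hψ, cokernel.π_desc]⟩

/-- Elements killed in the cokernel of multiplication are multiples. -/
lemma exists_smul_eq (b : Λ) (G : EtModW.ModP Λ X) (W : WCAff X) (x : G.obj.obj (op W.1))
    (hx : ((Γ Λ W.1).map (cokernel.π (b • 𝟙 G))).hom x = 0) : ∃ z, b • z = x := by
  obtain ⟨z, hz⟩ := (Thms.exact_Γ_map (S := ShortComplex.mk (b • 𝟙 G) _ (cokernel.condition _))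
    (ShortComplex.exact_of_g_is_cokernel _ (cokernelIsCokernel _)) W).1 x hx
  exact ⟨z, (smul_id_apply b G W.1 z).symm.trans hz⟩

variable (a : Λ)

/-- Sheaves complete for a principal ideal: separatedness and the telescope condition on sections. -/
theorem sect_props {F : EtModW.ModP Λ X} (Q : ℕᵒᵖ ⥤ EtModW.ModP Λ X) (p : (Functor.const ℕᵒᵖ).obj F ⟶ Q)
    (hq : ∀ n : ℕ, ARSys.IsQuot (Ideal.span {a} ^ (n + 1)) (p.app (op n)))
    (hlim : IsIso (limit.lift Q (Cone.mk F p))) (W : WCAff X) :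
    (∀ x : F.obj.obj (op W.1), (∀ n : ℕ, ∃ z, a ^ (n + 1) • z = x) → x = 0) ∧
      GoodM a (F.obj.obj (op W.1)) := by
  have hk : ∀ n : ℕ, a ^ (n + 1) • 𝟙 (Q.obj (op n)) = 0 := fun n =>
    (hq n).1 _ (by rw [Ideal.span_singleton_pow]; exact Ideal.mem_span_singleton_self _)
  let e := limit.lift Q (Cone.mk F p)
  refine ⟨fun x hx => ?_, ?_⟩
  · haveI : Mono e := inferInstance
    refine Thms.injective_Γ_map e W (ext_sect (D := Q) W _ _ fun j => ?_)
    obtain ⟨n⟩ := j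
    obtain ⟨z, rfl⟩ := hx n
    rw [map_zero, map_zero, map_smul, map_smul, ← smul_id_apply, hk n, Functor.map_zero]
    rfl
  · have hDC : _root_.ProEtDC.IsDCSheaf Λ (Ideal.span {a}) (limit Q) := by
      refine Thms.limit_tower _ Q fun j => (isDCSheaf_iff _ _).2 fun f hf W' => ?_
      refine Thms.goodM_of_pow_smul (j.unop + 1) fun m => ?_
      rw [← smul_id_apply, (hq j.unop).1 _ (Ideal.pow_mem_pow hf _), Functor.map_zero]
      rfl
    exact (goodM_congr a ((Γ Λ W.1).mapIso (asIso e))).2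
      ((isDCSheaf_iff _ _).1 hDC a (Ideal.mem_span_singleton_self a) W)

set_option linter.unusedSectionVars false

variable [IsNoetherianRing Λ] [IsNoetherian X] [ProEtS.EpsCont X]

/-- Adic pro-etale sheaves are invariant under isomorphisms. -/
lemma isP_congr {I : Ideal Λ} {F F' : EtModW.ModP Λ X} (e : F ≅ F') (hF : IsP I F) : IsP I F' := by
  obtain ⟨G, hG, hc, ⟨i⟩⟩ := exists_adic_of_isP
    (fun e h => H88.EtMod.Constructible.isConstructible_of_iso e h) hF
  exact isP_of_iso (IsNoetherian.noetherian I) hG hc (i ≪≫ e)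

lemma isP_kernel_smul {I : Ideal Λ} {H : EtModW.ModP Λ X} (hH : IsP I H) (b : Λ) :
    IsP I (kernel (b • 𝟙 H)) :=
  (AdicKer.isP_kernel_cokernel hH hH _).1

/-- Torsion in adic pro-etale sheaves is bounded. -/
theorem exists_torsion {I : Ideal Λ} {H : EtModW.ModP Λ X} (hH : IsP I H) :
    ∃ N : ℕ, ∀ (W : WCAff X) (m : ℕ) (y : H.obj.obj (op W.1)), a ^ m • y = 0 → a ^ N • y = 0 := by
  let Z : ℕ →o Subobject H := ⟨fun m => kernelSubobject (a ^ m • 𝟙 H), monotone_nat_of_le_succ fun m =>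
    le_kernelSubobject _ _ (by
      rw [pow_succ, Linear.comp_smul, mul_comm, mul_smul, ← Linear.comp_smul, kernelSubobject_arrow_comp,
        smul_zero])⟩
  obtain ⟨N, hN⟩ := AdicChain.chain_stationary hH Z fun m =>
    isP_congr (kernelSubobjectIso _).symm (isP_kernel_smul hH _)
  refine ⟨N, fun W m y hy => ?_⟩
  have h1 : kernel.ι (a ^ (m + N) • 𝟙 H) ≫ (a ^ N • 𝟙 H) = 0 := by
    rw [← cancel_epi (kernelSubobjectIso (a ^ (m + N) • 𝟙 H)).hom, kernelSubobject_arrow_assoc, comp_zero]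
    change (Z (m + N)).arrow ≫ _ = 0
    rw [← Subobject.ofLE_arrow (hN (m + N) (Nat.le_add_left N m)).le, Category.assoc]
    exact (congrArg _ (kernelSubobject_arrow_comp _)).trans comp_zero
  have h2 : a ^ (m + N) • y = 0 := by rw [pow_add, mul_comm, mul_smul, hy, smul_zero]
  obtain ⟨z, hz⟩ := (Thms.exact_Γ_map
    (S := ShortComplex.mk (kernel.ι (a ^ (m + N) • 𝟙 H)) _ (kernel.condition _))
    (ShortComplex.exact_of_f_is_kernel _ (kernelIsKernel _)) W).1 y
      ((smul_id_apply _ _ _ _).trans h2)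
  rw [← smul_id_apply, ← hz]
  refine (map_comp_apply _ _ _ _).symm.trans ?_
  rw [h1, Functor.map_zero]
  rfl

variable (Λ X) in
/-- Pullbacks of constructible sheaves. -/
abbrev CP : ObjectProperty (EtModW.ModP Λ X) := fun F =>
  ∃ E : EtModW.Mod Λ X, EtModW.IsConstructible Λ E ∧ Nonempty ((EtModW.epsPullMod Λ X).obj E ≅ F)

/-- Adic sheaves killed by a power of the ideal are constructible. -/
lemma cp_of_killed {I : Ideal Λ} {F : EtModW.ModP Λ X} (hF : IsP I F) (n : ℕ)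
    (hk : ARSys.KilledBy (I ^ (n + 1)) F) : CP Λ X F := by
  obtain ⟨Q, p, hq, hQ, -⟩ := hF
  obtain ⟨E, hE, ⟨e⟩⟩ := hQ n
  have h1 : IsIso (p.app (op n)) := by
    obtain ⟨ψ, hψ, -⟩ := (hq n).2 F (𝟙 F) (AR.killedBy_hom_to hk _)
    haveI : Mono (p.app (op n)) := SplitMono.mono ⟨ψ, hψ⟩
    haveI := AR.isQuot_epi (hq n)
    exact isIso_of_mono_of_epi _
  exact ⟨E, hE, ⟨e ≪≫ (@asIso _ _ _ _ _ h1).symm⟩⟩

/-- Quotients of an extension modulo an element. -/
lemma cp_cokernel {S : ShortComplex (EtModW.ModP Λ X)} (hS : S.ShortExact) (b : Λ)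
    (h₀ : CP Λ X (kernel (b • 𝟙 S.X₃))) (h₁ : CP Λ X (cokernel (b • 𝟙 S.X₁)))
    (h₃ : CP Λ X (cokernel (b • 𝟙 S.X₃))) : CP Λ X (cokernel (b • 𝟙 S.X₂)) := by
  haveI hP : WSerre.IsWeakSerre (CP Λ X) := ProEt.ConstrP.isWeakSerre Λ X
  haveI := hS.mono_f
  haveI := hS.epi_g
  let v : S ⟶ S :=
    { τ₁ := b • 𝟙 S.X₁
      τ₂ := b • 𝟙 S.X₂
      τ₃ := b • 𝟙 S.X₃
      comm₁₂ := by rw [Linear.smul_comp, Linear.comp_smul, Category.id_comp, Category.comp_id]
      comm₂₃ := by rw [Linear.smul_comp, Linear.comp_smul, Category.id_comp, Category.comp_id] }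
  let D : ShortComplex.SnakeInput (EtModW.ModP Λ X) :=
    { L₀ := kernel v
      L₁ := S
      L₂ := S
      L₃ := cokernel v
      v₀₁ := kernel.ι v
      v₁₂ := v
      v₂₃ := cokernel.π v
      w₀₂ := kernel.condition v
      w₁₃ := cokernel.condition v
      h₀ := kernelIsKernel v
      h₃ := cokernelIsCokernel v
      L₁_exact := hS.exact
      epi_L₁_g := hS.epi_g
      L₂_exact := hS.exact
      mono_L₂_f := hS.mono_f }
  have e₀ : kernel (b • 𝟙 S.X₃) ≅ D.L₀.X₃ := (PreservesKernel.iso ShortComplex.π₃ v).symm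
  have e₁ : cokernel (b • 𝟙 S.X₁) ≅ D.L₃.X₁ := (PreservesCokernel.iso ShortComplex.π₁ v).symm
  have e₂ : cokernel (b • 𝟙 S.X₂) ≅ D.L₃.X₂ := (PreservesCokernel.iso ShortComplex.π₂ v).symm
  have e₃ : cokernel (b • 𝟙 S.X₃) ≅ D.L₃.X₃ := (PreservesCokernel.iso ShortComplex.π₃ v).symm
  have hδ' := (CP Λ X).prop_of_isColimit_cokernelCofork
    (cokernelIsCokernel D.δ) ((CP Λ X).prop_of_iso e₀ h₀) ((CP Λ X).prop_of_iso e₁ h₁)
  have hδ : CP Λ X (cokernel D.δ) := hδ'
  let m := cokernel.desc D.δ D.L₃.f D.δ_L₃_f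
  haveI : Mono m := D.L₂'_exact.mono_cokernelDesc
  haveI : Epi D.L₃.g := D.epi_L₃_g
  let T : ShortComplex (EtModW.ModP Λ X) := ShortComplex.mk m D.L₃.g (by
    rw [← cancel_epi (cokernel.π D.δ), cokernel.π_desc_assoc, D.L₃.zero, comp_zero])
  let φ : D.L₃ ⟶ T :=
    { τ₁ := cokernel.π D.δ
      τ₂ := 𝟙 _
      τ₃ := 𝟙 _
      comm₁₂ := (cokernel.π_desc _ _ _).trans (Category.comp_id _).symm
      comm₂₃ := (Category.id_comp _).trans (Category.comp_id _).symm }
  haveI : Epi φ.τ₁ := inferInstanceAs (Epi (cokernel.π D.δ))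
  haveI : IsIso φ.τ₂ := inferInstanceAs (IsIso (𝟙 _))
  haveI : Mono φ.τ₃ := inferInstanceAs (Mono (𝟙 _))
  have hT : T.ShortExact :=
    { exact := (ShortComplex.exact_iff_of_epi_of_isIso_of_mono φ).1 D.L₃_exact }
  exact (CP Λ X).prop_of_iso e₂.symm
    ((CP Λ X).prop_X₂_of_shortExact (S := T) hT hδ ((CP Λ X).prop_of_iso e₃ h₃))

/-- Extensions of adic pro-etale sheaves for a principal ideal are adic pro-etale sheaves. -/
theorem isP_extension {S : ShortComplex (EtModW.ModP Λ X)} (hS : S.ShortExact)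
    (h₁ : IsP (Ideal.span {a}) S.X₁) (h₃ : IsP (Ideal.span {a}) S.X₃) : IsP (Ideal.span {a}) S.X₂ := by
  haveI := hS.mono_f
  haveI := hS.epi_g
  obtain ⟨N, hN⟩ := exists_torsion a h₃
  have hbI : ∀ n : ℕ, Ideal.span {a} ^ (n + 1) = Ideal.span {a ^ (n + 1)} :=
    fun n => Ideal.span_singleton_pow a (n + 1)
  have hQc : ∀ {F : EtModW.ModP Λ X}, IsP (Ideal.span {a}) F → ∀ n : ℕ,
      CP Λ X (cokernel (a ^ (n + 1) • 𝟙 F)) := fun {F} hF n => by
    obtain ⟨Q, p, hq, hQ, -⟩ := hF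
    obtain ⟨E, hE, ⟨e⟩⟩ := hQ n
    have h1 := hbI n ▸ hq n
    have h2 := isQuot_cokernel_smul (a ^ (n + 1)) F
    obtain ⟨ψ, hψ, -⟩ := h1.2 _ (cokernel.π _) (AR.isQuot_homKilledBy h2)
    obtain ⟨χ, hχ, -⟩ := h2.2 _ (p.app (op n)) (AR.isQuot_homKilledBy h1)
    haveI := AR.isQuot_epi h1
    haveI := AR.isQuot_epi h2
    exact ⟨E, hE, ⟨e ≪≫
      { hom := ψ
        inv := χ
        hom_inv_id := by
          rw [← cancel_epi (p.app (op n)), ← Category.assoc, hψ, hχ]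
          exact (Category.comp_id _).symm
        inv_hom_id := by
          rw [← cancel_epi (cokernel.π (a ^ (n + 1) • 𝟙 F)), ← Category.assoc, hχ, hψ]
          exact (Category.comp_id _).symm }⟩⟩
  let G := S.X₂
  let π : ∀ n : ℕ, G ⟶ cokernel (a ^ (n + 1) • 𝟙 G) := fun n => cokernel.π _
  let t : ∀ n : ℕ, cokernel (a ^ (n + 1 + 1) • 𝟙 G) ⟶ cokernel (a ^ (n + 1) • 𝟙 G) := fun n =>
    cokernel.desc _ (π n) (by
      rw [show a ^ (n + 1 + 1) • 𝟙 G = a • (a ^ (n + 1) • 𝟙 G) by rw [smul_smul, ← pow_succ'],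
        Linear.smul_comp, cokernel.condition, smul_zero])
  let Q' : ℕᵒᵖ ⥤ EtModW.ModP Λ X := Functor.ofOpSequence (X := fun n : ℕ => cokernel (a ^ (n + 1) • 𝟙 G)) t
  let p' : (Functor.const ℕᵒᵖ).obj G ⟶ Q' := NatTrans.ofOpSequence π fun n => by
    change 𝟙 _ ≫ π n = π (n + 1) ≫ Q'.map _
    rw [Category.id_comp, Functor.ofOpSequence_map_homOfLE_succ]
    exact (cokernel.π_desc _ _ _).symm
  refine ⟨Q', p', fun n => ?_, fun n => ?_, isIso_of_sections _ fun W => ⟨?_, ?_⟩⟩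
  · rw [hbI]
    exact isQuot_cokernel_smul _ G
  · refine cp_cokernel hS _ (cp_of_killed (isP_kernel_smul h₃ _) n fun c hc => ?_) (hQc h₁ n) (hQc h₃ n)
    rw [hbI] at hc
    obtain ⟨d, rfl⟩ := Ideal.mem_span_singleton'.1 hc
    rw [mul_smul, ← cancel_mono (kernel.ι (a ^ (n + 1) • 𝟙 S.X₃)), Linear.smul_comp, Linear.smul_comp,
      Category.id_comp, zero_comp]
    have := kernel.condition (a ^ (n + 1) • 𝟙 S.X₃)
    rw [Linear.comp_smul, Category.comp_id] at this
    rw [this, smul_zero]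
  · refine (injective_iff_map_eq_zero _).2 fun x hx => ?_
    have hx' : ∀ n : ℕ, ∃ z, a ^ (n + 1) • z = x := fun n => exists_smul_eq _ G W x (by
      have h := congrArg ((Γ Λ W.1).map (limit.π Q' (op n))).hom hx
      rw [← map_comp_apply, limit.lift_π, map_zero] at h
      exact h)
    obtain ⟨Q₁, p₁, hq₁, -, hl₁⟩ := h₁
    obtain ⟨Q₃, p₃, hq₃, -, hl₃⟩ := h₃
    obtain ⟨sep₁, -⟩ := sect_props a Q₁ p₁ hq₁ hl₁ W
    obtain ⟨sep₃, -⟩ := sect_props a Q₃ p₃ hq₃ hl₃ W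
    obtain ⟨hex, hgf⟩ := Thms.exact_Γ_map hS.exact W
    have hg : ((Γ Λ W.1).map S.g).hom x = 0 := sep₃ _ fun n => by
      obtain ⟨z, rfl⟩ := hx' n
      exact ⟨_, (map_smul _ _ _).symm⟩
    obtain ⟨y, rfl⟩ := hex x hg
    rw [sep₁ y fun m => ?_, map_zero]
    obtain ⟨z, hz⟩ := hx' (m + N)
    have h1 : a ^ N • ((Γ Λ W.1).map S.g).hom z = 0 := hN W (m + N + 1) _ (by
      rw [← map_smul, hz, hgf])
    rw [← map_smul] at h1
    obtain ⟨w, hw⟩ := hex _ h1
    refine ⟨w, Thms.injective_Γ_map S.f W ?_⟩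
    rw [map_smul, hw, ← hz, smul_smul, ← pow_add]
    congr 2
    omega
  · intro q
    obtain ⟨Q₁, p₁, hq₁, -, hl₁⟩ := h₁
    obtain ⟨Q₃, p₃, hq₃, -, hl₃⟩ := h₃
    obtain ⟨hex, hgf⟩ := Thms.exact_Γ_map hS.exact W
    have hgood : GoodM a (G.obj.obj (op W.1)) := Thms.goodM_extension _ _
      (Thms.injective_Γ_map S.f W) (Thms.surjective_Γ_map S.g W) hex hgf
      (sect_props a Q₁ p₁ hq₁ hl₁ W).2 (sect_props a Q₃ p₃ hq₃ hl₃ W).2
    have hsurj : ∀ n, ∃ gn : G.obj.obj (op W.1), ((Γ Λ W.1).map (π n)).hom gn =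
        ((Γ Λ W.1).map (limit.π Q' (op n))).hom q :=
      fun n => Thms.surjective_Γ_map (π n) W _
    choose g hg using hsurj
    choose d hd using fun n => exists_smul_eq (a ^ (n + 1)) G W (g (n + 1) - g n) (by
      rw [map_sub, sub_eq_zero]
      change ((Γ Λ W.1).map (π n)).hom (g (n + 1)) = ((Γ Λ W.1).map (π n)).hom (g n)
      rw [hg, ← limit.w Q' (homOfLE (Nat.le_add_right n 1)).op, Functor.ofOpSequence_map_homOfLE_succ,
        map_comp_apply, ← hg (n + 1)]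
      exact (congrArg (fun k : G ⟶ _ => ((Γ Λ W.1).map k).hom (g (n + 1)))
        (cokernel.π_desc (a ^ (n + 1 + 1) • 𝟙 G) (π n) _)).symm)
    obtain ⟨x, hx⟩ := hgood.2 d
    refine ⟨g 0 + a • x 0, ext_sect (D := Q') W _ _ fun j => ?_⟩
    obtain ⟨n⟩ := j
    rw [← map_comp_apply, limit.lift_π]
    change ((Γ Λ W.1).map (π n)).hom _ = _
    rw [← hg n, ← sub_eq_zero, ← map_sub]
    have key : ∀ k, g 0 + a • x 0 - g k = a ^ (k + 1) • x k := fun k => by
      induction k with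
      | zero => simp
      | succ k ih =>
        have hxk : x k - a • x (k + 1) = d k := congrFun hx k
        rw [show g 0 + a • x 0 - g (k + 1) = g 0 + a • x 0 - g k - (g (k + 1) - g k) by abel, ih,
          ← hd k, ← smul_sub, ← hxk, sub_sub_cancel, smul_smul, ← pow_succ]
    rw [key n, ← smul_id_apply, ← map_comp_apply]
    refine (congrArg (fun k : G ⟶ _ => ((Γ Λ W.1).map k).hom (x n))
      (cokernel.condition (a ^ (n + 1) • 𝟙 G))).trans ?_
    rw [Functor.map_zero]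
    rfl

end Groth.Agent.Lib.ProEtDC.AdicExt
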