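import Groth.Agent.Lib.ProEtDC.AdicP

/-!
Images of adic pro-etale sheaves under functors.
-/

set_option autoImplicit false
set_option linter.style.haveILetI false

universe u

open CategoryTheory CategoryTheory.Limits AlgebraicGeometry Opposite

noncomputable section

namespace Groth.Agent.Lib.ProEtDC.AdicFunctor

set_option backward.isDefEq.respectTransparency.types false

variable {Λ : Type (u + 1)} [CommRing Λ] {I : Ideal Λ} {U X : Scheme.{u}} [ProEtS.EpsCont U]
  [ProEtS.EpsCont X]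

/-- A functor preserving the quotients of the tower, the images of constructible sheaves and sequential
limits sends adic sheaves to adic sheaves. -/
theorem exists_tower_map (T : EtModW.ModP Λ U ⥤ EtModW.ModP Λ X) [PreservesLimitsOfShape ℕᵒᵖ T]
    {F : EtModW.ModP Λ U} (Q : ℕᵒᵖ ⥤ EtModW.ModP Λ U) (p : (Functor.const ℕᵒᵖ).obj F ⟶ Q)
    (hQ : ∀ n : ℕ, ARSys.IsQuot (I ^ (n + 1)) (T.map (p.app (op n))))
    (hc : ∀ n : ℕ, ∃ E : EtModW.Mod Λ X, EtModW.IsConstructible Λ E ∧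
      Nonempty ((EtModW.epsPullMod Λ X).obj E ≅ T.obj (Q.obj (op n))))
    (hlim : IsIso (limit.lift Q (Cone.mk F p))) :
    ∃ (Q' : ℕᵒᵖ ⥤ EtModW.ModP Λ X) (p' : (Functor.const ℕᵒᵖ).obj (T.obj F) ⟶ Q'),
      (∀ n : ℕ, ARSys.IsQuot (I ^ (n + 1)) (p'.app (op n))) ∧
      (∀ n : ℕ, ∃ E : EtModW.Mod Λ X, EtModW.IsConstructible Λ E ∧
        Nonempty ((EtModW.epsPullMod Λ X).obj E ≅ Q'.obj (op n))) ∧
      IsIso (limit.lift Q' (Cone.mk (T.obj F) p')) := by
  refine ⟨Q ⋙ T, (T.mapCone (Cone.mk F p)).π, hQ, hc, ?_⟩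
  haveI := hlim
  have h : limit.lift (Q ⋙ T) (T.mapCone (Cone.mk F p)) =
      T.map (limit.lift Q (Cone.mk F p)) ≫ limit.post Q T := by
    refine limit.hom_ext fun n => ?_
    erw [Category.assoc, limit.post_π, ← T.map_comp, limit.lift_π, limit.lift_π]
    rfl
  change IsIso (limit.lift (Q ⋙ T) (T.mapCone (Cone.mk F p)))
  rw [h]
  infer_instance

end Groth.Agent.Lib.ProEtDC.AdicFunctor
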