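import Groth.Agent.Lib.ProEtDC.AdicEpi
import Groth.Agent.Lib.ProEtDC.NoethConstr
import Groth.Agent.Lib.AR.Injective
import Groth.Agent.H88.EtMod.ARTransport
import Groth.Agent.H88.EtMod.Constructible
import Mathlib.CategoryTheory.Limits.Preserves.FunctorCategory

/-!
Kernels and cokernels of morphisms of adic pro-etale sheaves.
-/

set_option autoImplicit false
set_option linter.style.haveILetI false

universe u

open CategoryTheory CategoryTheory.Limits AlgebraicGeometry Opposite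

noncomputable section

namespace Groth.Agent.Lib.ProEtDC.AdicKer

set_option backward.isDefEq.respectTransparency.types false

open AdicP

variable {Λ : Type (u + 1)} [CommRing Λ] {X : Scheme.{u}} [ProEtS.EpsCont X]

variable (Λ X) in
/-- Pullback followed by the limit. -/
abbrev Φ : ARSys.PS (EtModW.Mod Λ X) ⥤ EtModW.ModP Λ X :=
  (Functor.whiskeringRight ℕᵒᵖ (EtModW.Mod Λ X) (EtModW.ModP Λ X)).obj (EtModW.epsPullMod Λ X) ⋙ lim

instance additive_Φ : (Φ Λ X).Additive where
  map_add {A B f g} := limit.hom_ext fun j => by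
    simp [lim, Preadditive.add_comp]

theorem preservesFiniteLimits_Φ : PreservesFiniteLimits (Φ Λ X) := by
  haveI := AdicEpi.preservesFiniteLimits_pull (Λ := Λ) (X := X)
  haveI : PreservesFiniteLimits
      ((Functor.whiskeringRight ℕᵒᵖ (EtModW.Mod Λ X) (EtModW.ModP Λ X)).obj (EtModW.epsPullMod Λ X)) :=
    ⟨fun J _ _ => inferInstance⟩
  haveI : (lim : (ℕᵒᵖ ⥤ EtModW.ModP Λ X) ⥤ EtModW.ModP Λ X).IsRightAdjoint :=
    constLimAdj.isRightAdjoint
  exact comp_preservesFiniteLimits _ _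

/-- Systems isomorphic up to translation have the same limit. -/
theorem isIso_map_of_isARIso {A B : ARSys.PS (EtModW.Mod Λ X)} (v : A ⟶ B) (hv : ARSys.IsARIso v) :
    IsIso ((Φ Λ X).map v) := by
  haveI := AdicEpi.preservesFiniteLimits_pull (Λ := Λ) (X := X)
  haveI : (EtModW.epsPullMod Λ X).IsLeftAdjoint := (ProEt.EpsMod.adjM Λ).isLeftAdjoint
  haveI : PreservesFiniteColimits (EtModW.epsPullMod Λ X) := inferInstance
  exact AR.isIso_limMap _ (H88.EtMod.ARTransport.isARIso_map (EtModW.epsPullMod Λ X) hv)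

omit [ProEtS.EpsCont X] in
lemma isARNull_comp {Y K K' : ARSys.PS (EtModW.Mod Λ X)} {v : Y ⟶ K} {s : K ⟶ K'} [IsIso s]
    (hv : ARSys.IsARNull (cokernel v)) : ARSys.IsARNull (cokernel (v ≫ s)) :=
  H88.EtMod.ARTransport.isARNull_of_iso (cokernelCompIsIso v s).symm hv

variable [IsNoetherianRing Λ] [IsNoetherian X] {I : Ideal Λ}

/-- Kernels and cokernels of morphisms of adic pro-etale sheaves are adic pro-etale sheaves. -/
theorem isP_kernel_cokernel {F G : EtModW.ModP Λ X} (hF : IsP I F) (hG : IsP I G) (w : F ⟶ G) :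
    IsP I (kernel w) ∧ IsP I (cokernel w) := by
  have hI : I.FG := IsNoetherian.noetherian I
  have hiso : ∀ {A B : EtModW.Mod Λ X}, (A ≅ B) → EtModW.IsConstructible Λ A →
      EtModW.IsConstructible Λ B := fun e h => H88.EtMod.Constructible.isConstructible_of_iso e h
  obtain ⟨A, hA, hAc, ⟨eA⟩⟩ := exists_adic_of_isP hiso hF
  obtain ⟨B, hB, hBc, ⟨eB⟩⟩ := exists_adic_of_isP hiso hG
  obtain ⟨g, hg, -⟩ := existsUnique_hom hI hA hB (eA.hom ≫ w ≫ eB.inv)
  haveI := preservesFiniteLimits_Φ (Λ := Λ) (X := X)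
  have hsq : (Φ Λ X).map g ≫ eB.hom = eA.hom ≫ w := by
    have : (Φ Λ X).map g = eA.hom ≫ w ≫ eB.inv := hg
    rw [this]
    simp
  obtain ⟨hK, hQ⟩ := NoethConstr.kernel_cokernel hA hB hAc hBc g
  obtain ⟨-, Y, v, hY, hYc, hv⟩ := NoethConstr.exists_cover hK
  refine ⟨?_, ?_⟩
  · haveI := isIso_map_of_isARIso v hv
    exact isP_of_iso hI hY hYc
      (asIso ((Φ Λ X).map v) ≪≫ PreservesKernel.iso (Φ Λ X) g ≪≫ kernel.mapIso _ w eA eB hsq)
  · let e := Abelian.factorThruImage g
    let ι : Abelian.image g ⟶ B := Abelian.image.ι g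
    have hQn := AR.isAdicNoeth_cokernel g (NoethConstr.isAdicNoeth hA hAc) (NoethConstr.isAdicNoeth hB hBc)
    have hQc : ∀ n : ℕ, EtModW.IsConstructible Λ ((cokernel g).obj (op n)) :=
      fun n => NoethConstr.isConstructible_of_isNoetherianObject _ (hQn.2 n)
    have hstrict : ARSys.IsStrict (Abelian.image g) :=
      AR.isStrict_of_epi e (fun n => AR.epi_app e (op n)) (AR.isStrict_of_isAdic hA)
    let S : ShortComplex (ARSys.PS (EtModW.Mod Λ X)) :=
      ShortComplex.mk ι (cokernel.π g) (kernel.condition _)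
    have hS : S.ShortExact :=
      { exact := ShortComplex.exact_of_f_is_kernel _ (kernelIsKernel (cokernel.π g)) }
    haveI h1 : Epi ((Φ Λ X).map (cokernel.π g)) :=
      AdicEpi.epi_limMap hS (𝟙 _) hstrict (AR.isARNull_cokernel_of_epi _)
    haveI h2 : Epi ((Φ Λ X).map e) :=
      AdicEpi.epi_limMap (AR.shortExact_kernel e)
        (v ≫ (kernelIsoOfEq (Abelian.image.fac g).symm ≪≫ kernelCompMono e ι).hom)
        (AR.isStrict_of_isAdic hY) (isARNull_comp hv.2)
    let T : ShortComplex (EtModW.ModP Λ X) := ShortComplex.mk ((Φ Λ X).map g) ((Φ Λ X).map (cokernel.π g))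
      (by rw [← Functor.map_comp, cokernel.condition, Functor.map_zero])
    let m : T ⟶ S.map (Φ Λ X) :=
      { τ₁ := (Φ Λ X).map e
        τ₂ := 𝟙 _
        τ₃ := 𝟙 _
        comm₁₂ := by
          change (Φ Λ X).map e ≫ (Φ Λ X).map ι = (Φ Λ X).map g ≫ 𝟙 _
          rw [Category.comp_id, ← Functor.map_comp, Abelian.image.fac]
        comm₂₃ := by
          change 𝟙 _ ≫ (Φ Λ X).map (cokernel.π g) = (Φ Λ X).map (cokernel.π g) ≫ 𝟙 _
          rw [Category.comp_id, Category.id_comp] }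
    haveI := hS.mono_f
    haveI : Epi m.τ₁ := h2
    haveI : IsIso m.τ₂ := inferInstanceAs (IsIso (𝟙 _))
    haveI : Mono m.τ₃ := inferInstanceAs (Mono (𝟙 _))
    have hT : T.Exact := (ShortComplex.exact_iff_of_epi_of_isIso_of_mono m).2
      (hS.exact.map_of_mono_of_preservesKernel (Φ Λ X) inferInstance inferInstance)
    haveI : Epi T.g := h1
    exact isP_of_iso hI hQn.1 hQc
      ((hT.gIsCokernel.coconePointUniqueUpToIso (colimit.isColimit _)) ≪≫ cokernel.mapIso _ w eA eB hsq)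

end Groth.Agent.Lib.ProEtDC.AdicKer
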