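import Groth.Prelude.Def_ARSys
import Mathlib.CategoryTheory.Adjunction.Additive
import Mathlib.CategoryTheory.Linear.LinearFunctor

/-!
Quotients modulo ideals and linear adjunctions.
-/

set_option autoImplicit false
set_option linter.style.haveILetI false

universe w v₁ v₂ u₁ u₂

open CategoryTheory CategoryTheory.Limits ARSys

namespace Groth.Agent.Lib.ProEtDC.QuotAdj

variable {A : Type w} [CommRing A] {C : Type u₁} [Category.{v₁} C] [Preadditive C] [Linear A C]
  {D : Type u₂} [Category.{v₂} D] [Preadditive D] [Linear A D] {L : C ⥤ D} {R : D ⥤ C}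
  (adj : L ⊣ R) [R.Additive] [R.Linear A] {I : Ideal A}

omit [R.Additive] in
include adj in
/-- A left adjoint of a linear functor is linear. -/
lemma left_adjoint_linear [L.Additive] : L.Linear A where
  map_smul {X Y} f r := (adj.homEquiv X (L.obj Y)).injective (by
    have h : adj.unit.app X ≫ R.map (L.map f) = f ≫ adj.unit.app Y := (adj.unit.naturality f).symm
    have h' : adj.unit.app X ≫ R.map (L.map (r • f)) = (r • f) ≫ adj.unit.app Y :=
      (adj.unit.naturality (r • f)).symm
    rw [adj.homEquiv_unit, adj.homEquiv_unit, h', R.map_smul, Linear.comp_smul, h, Linear.smul_comp])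

omit [R.Additive] in
lemma homEquiv_smul {X : C} {Y : D} (r : A) (φ : L.obj X ⟶ Y) :
    adj.homEquiv X Y (r • φ) = r • adj.homEquiv X Y φ := by
  rw [adj.homEquiv_unit, adj.homEquiv_unit, R.map_smul, Linear.comp_smul]

include adj in
/-- Left adjoints of linear functors preserve quotients modulo ideals. -/
lemma isQuot_map [L.Additive] {X Q : C} {p : X ⟶ Q} (hp : IsQuot I p) : IsQuot I (L.map p) := by
  haveI := left_adjoint_linear (A := A) adj
  refine ⟨fun a ha => ?_, fun Y φ hφ => ?_⟩
  · rw [← L.map_id, ← L.map_smul, hp.1 a ha, L.map_zero]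
  · have h1 : HomKilledBy I (adj.homEquiv X Y φ) := fun a ha => by
      rw [← homEquiv_smul, hφ a ha, adj.homEquiv_unit, R.map_zero, comp_zero]
    obtain ⟨ψ, hψ, hu⟩ := hp.2 _ _ h1
    refine ⟨(adj.homEquiv Q Y).symm ψ, ?_, fun χ hχ => ?_⟩
    · change L.map p ≫ _ = φ
      rw [← adj.homEquiv_naturality_left_symm, hψ, Equiv.symm_apply_apply]
    · rw [Equiv.eq_symm_apply]
      refine hu _ ?_
      change p ≫ _ = _
      change L.map p ≫ χ = φ at hχ
      rw [← adj.homEquiv_naturality_left, hχ]

/-- Fully faithful linear functors reflect quotients modulo ideals. -/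
lemma isQuot_of_map [L.Full] [L.Faithful] [L.Linear A] [L.Additive] {X Q : C} {p : X ⟶ Q}
    (hp : IsQuot I (L.map p)) : IsQuot I p := by
  refine ⟨fun a ha => L.map_injective ?_, fun Y φ hφ => ?_⟩
  · rw [L.map_smul, L.map_id, L.map_zero, hp.1 a ha]
  · obtain ⟨ψ, hψ, hu⟩ := hp.2 _ (L.map φ) fun a ha => by rw [← L.map_smul, hφ a ha, L.map_zero]
    refine ⟨L.preimage ψ, L.map_injective (by rw [L.map_comp, L.map_preimage, hψ]), fun χ hχ => ?_⟩
    refine L.map_injective ?_
    rw [L.map_preimage]
    refine hu _ ?_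
    change L.map p ≫ L.map χ = L.map φ
    rw [← L.map_comp, hχ]

end Groth.Agent.Lib.ProEtDC.QuotAdj
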