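import Groth.Agent.Lib.ProEtDC.Thms
import Groth.Prelude.Def_ARSys
import Mathlib.CategoryTheory.Linear.FunctorCategory

/-!
Quotients modulo an ideal on weakly contractible objects.
-/

set_option autoImplicit false
set_option linter.style.haveILetI false

universe u

open CategoryTheory CategoryTheory.Limits AlgebraicGeometry Opposite

noncomputable section

namespace Groth.Agent.Lib.ProEtDC.QuotWC

set_option backward.isDefEq.respectTransparency.types false

open Sections Crit

variable {Λ : Type (u + 1)} [CommRing Λ] {X : Scheme.{u}}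

lemma smulHom_eq (F : EtModW.ModP Λ X) (b : Λ) : _root_.ProEtDC.smulHom Λ F b = b • 𝟙 F := rfl

/-- Quotients modulo a finitely generated ideal commute with sections on weakly contractible objects. -/
theorem sections_isQuot {I : Ideal Λ} (hI : I.FG) {F Q : EtModW.ModP Λ X} (p : F ⟶ Q)
    (hp : ARSys.IsQuot I p) {U : X.ProEt} (hU : ProEtS.IsWC U) :
    Function.Surjective (p.hom.app (op U)).hom ∧
      LinearMap.ker (p.hom.app (op U)).hom = I • (⊤ : Submodule Λ (F.obj.obj (op U))) := by
  obtain ⟨hk, hu⟩ := hp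
  obtain ⟨r, a, ha⟩ := Submodule.fg_iff_exists_fin_generating_family.mp hI
  have hmem : ∀ k, a k ∈ I := fun k => ha ▸ Submodule.subset_span ⟨k, rfl⟩
  have hkill : ∀ b ∈ I, b • p = 0 := fun b hb => by
    rw [← Category.comp_id p, ← Linear.comp_smul, hk b hb, comp_zero]
  haveI : Epi p := ⟨fun {Z} g h e => by
    obtain ⟨ψ, -, huniq⟩ := hu Z (p ≫ g) fun b hb => by rw [← Linear.smul_comp, hkill b hb, zero_comp]
    exact (huniq g rfl).trans (huniq h e.symm).symm⟩
  refine ⟨surjective_app_of_epi p hU, le_antisymm (fun x hx => ?_) ?_⟩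
  · let c := cokernel.π (_root_.ProEtDC.gensMap Λ a F)
    have hc : ∀ b ∈ I, b • c = 0 := by
      intro b hb
      obtain ⟨z, rfl⟩ := (Submodule.mem_span_range_iff_exists_fun Λ).1 (ha.symm ▸ hb : b ∈ Submodule.span Λ _)
      rw [Finset.sum_smul]
      refine Finset.sum_eq_zero fun k _ => ?_
      rw [smul_eq_mul, ← smul_smul]
      have : a k • c = 0 := by
        have h1 := congrArg (fun m => biproduct.ι (fun _ : Fin r => F) k ≫ m)
          (cokernel.condition (_root_.ProEtDC.gensMap Λ a F))
        simp only [biproduct.ι_desc_assoc, comp_zero, smulHom_eq, Linear.smul_comp, Category.id_comp] at h1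
        exact h1
      rw [this, smul_zero]
    obtain ⟨χ, hχ, -⟩ := hu _ c hc
    have hcx : (c.hom.app (op U)).hom x = 0 := by
      rw [← hχ]
      change (χ.hom.app (op U)).hom ((p.hom.app (op U)).hom x) = 0
      rw [LinearMap.mem_ker.1 hx, map_zero]
    haveI := preservesFiniteColimits_Γ (Λ := Λ) hU
    haveI : (Γ Λ U).IsRightAdjoint := (adj Λ U).isRightAdjoint
    have hex := (ShortComplex.exact_of_g_is_cokernel
      (ShortComplex.mk (_root_.ProEtDC.gensMap Λ a F) c (cokernel.condition _))
      (cokernelIsCokernel _)).map (Γ Λ U)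
    obtain ⟨z, hz⟩ := (ShortComplex.moduleCat_exact_iff _).mp hex x hcx
    rw [← hz]
    have ht : _root_.ProEtDC.gensMap Λ a F =
        ∑ k, a k • biproduct.π (fun _ : Fin r => F) k := by
      refine biproduct.hom_ext' _ _ fun i => ?_
      rw [biproduct.ι_desc, Preadditive.comp_sum, Finset.sum_eq_single i]
      · rw [Linear.comp_smul, biproduct.ι_π_self, smulHom_eq]
      · intro j _ hj
        rw [Linear.comp_smul, biproduct.ι_π_ne _ (Ne.symm hj), smul_zero]
      · simp
    change ((Γ Λ U).map (_root_.ProEtDC.gensMap Λ a F)).hom z ∈ _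
    rw [ht, Functor.map_sum, ModuleCat.hom_sum, LinearMap.sum_apply]
    refine Submodule.sum_mem _ fun k _ => ?_
    rw [Functor.map_smul]
    exact Submodule.smul_mem_smul (hmem k) Submodule.mem_top
  · refine Submodule.smul_le.2 fun b hb x _ => ?_
    refine LinearMap.mem_ker.2 ?_
    rw [map_smul]
    exact congr((($(congrArg (fun m : F ⟶ Q => m.hom.app (op U)) (hkill b hb))).hom x))

end Groth.Agent.Lib.ProEtDC.QuotWC
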