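import Mathlib.Algebra.Category.ModuleCat.Basic
import Mathlib.RingTheory.Ideal.Operations
import Mathlib.RingTheory.Finiteness.Ideal

/-!
Compatible families in towers of modules.
-/

set_option autoImplicit false

universe w v

open CategoryTheory Opposite

namespace Groth.Agent.Lib.ProEtDC.Tower

variable {Λ : Type v} [CommRing Λ] (M : ℕᵒᵖ ⥤ ModuleCat.{w} Λ)

/-- The transition map. -/
abbrev t {n m : ℕ} (h : n ≤ m) : M.obj (op m) →ₗ[Λ] M.obj (op n) := (M.map (homOfLE h).op).hom

lemma t_t {n m k : ℕ} (h : n ≤ m) (h' : m ≤ k) (x : M.obj (op k)) :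
    t M h (t M h' x) = t M (h.trans h') x := by
  change (M.map (homOfLE h').op ≫ M.map (homOfLE h).op).hom x = _
  rw [← M.map_comp]
  rfl

lemma t_refl {n : ℕ} (x : M.obj (op n)) : t M (le_refl n) x = x := by
  change (M.map (𝟙 (op n))).hom x = x
  rw [M.map_id]
  rfl

/-- Compatible families. -/
def Compat (x : ∀ m, M.obj (op m)) : Prop := ∀ n m (h : n ≤ m), t M h (x m) = x n

lemma t_congr (d : ∀ m, M.obj (op m)) {n m m' : ℕ} (e : m = m') (h : n ≤ m) (h' : n ≤ m') :
    t M h (d m) = t M h' (d m') := by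
  subst e
  rfl

lemma compat_of_succ {x : ∀ m, M.obj (op m)} (hx : ∀ n, t M (Nat.le_add_right n 1) (x (n + 1)) = x n) :
    Compat M x := by
  intro n m h
  induction m, h using Nat.le_induction with
  | base => exact t_refl M _
  | succ k hk ih => rw [← t_t M hk (Nat.le_add_right k 1), hx k, ih]

lemma exists_sum_of_mem_smul {N : Type w} [AddCommGroup N] [Module Λ N] {s : ℕ} (b : Fin s → Λ)
    (P : Submodule Λ N) {x : N} (hx : x ∈ Ideal.span (Set.range b) • P) :
    ∃ w : Fin s → N, (∀ i, w i ∈ P) ∧ x = ∑ i, b i • w i := by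
  refine Submodule.smul_induction_on hx (fun r hr y hy => ?_) fun y z ⟨f, hf, hy⟩ ⟨g, hg, hz⟩ =>
    ⟨fun i => f i + g i, fun i => add_mem (hf i) (hg i), by
      simp only [smul_add, Finset.sum_add_distrib, hy, hz]⟩
  obtain ⟨c, rfl⟩ := Ideal.mem_span_range_iff_exists_fun.1 hr
  exact ⟨fun i => c i • y, fun i => P.smul_mem _ hy, by
    simp only [Finset.sum_smul, smul_smul, mul_comm]⟩

variable (I : Ideal Λ)
  (hs : ∀ n m (h : n ≤ m), Function.Surjective (t M h))
  (hk : ∀ n m (h : n ≤ m), LinearMap.ker (t M h) = I ^ (n + 1) • ⊤)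
  (h0 : ∀ n, ∀ b ∈ I ^ (n + 1), ∀ y : M.obj (op n), b • y = 0)

include hs in
/-- Compatible families through any given member exist. -/
theorem exists_compat (n : ℕ) (x : M.obj (op n)) : ∃ y : ∀ m, M.obj (op m), Compat M y ∧ y n = x := by
  let step : ∀ k, M.obj (op (n + k)) → M.obj (op (n + (k + 1))) := fun k z =>
    (hs (n + k) (n + (k + 1)) (by omega) z).choose
  let z : ∀ k, M.obj (op (n + k)) := fun k => Nat.rec x step k
  have hz : ∀ k, t M (by omega : n + k ≤ n + (k + 1)) (z (k + 1)) = z k := fun k =>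
    (hs (n + k) (n + (k + 1)) (by omega) (z k)).choose_spec
  refine ⟨fun m => t M (by omega : m ≤ n + m) (z m), compat_of_succ M fun m => ?_, ?_⟩
  · rw [t_t, ← hz m, t_t]
  · have key : ∀ k, t M (Nat.le_add_right n k) (z k) = x := fun k => by
      induction k with
      | zero => exact t_refl M x
      | succ k ih => rw [← ih, ← hz k, t_t]
    exact key n

include hs hk h0 in
/-- Completeness of adic towers: families vanishing at a level are combinations of the generators. -/
theorem exists_sum (n : ℕ) {s : ℕ} (b : Fin s → Λ) (hb : Ideal.span (Set.range b) = I ^ (n + 1))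
    (x : ∀ m, M.obj (op m)) (hx : Compat M x) (hxn : x n = 0) :
    ∃ y : Fin s → ∀ m, M.obj (op m), (∀ i, Compat M (y i)) ∧ ∀ m, x m = ∑ i, b i • y i m := by
  have start : ∃ z : Fin s → M.obj (op (n + 0)), x (n + 0) = ∑ i, b i • z i :=
    ⟨0, by simpa using hxn⟩
  have step : ∀ k (z : {z : Fin s → M.obj (op (n + k)) // x (n + k) = ∑ i, b i • z i}),
      ∃ z' : {z : Fin s → M.obj (op (n + (k + 1))) // x (n + (k + 1)) = ∑ i, b i • z i},
        ∀ i j (hj : j + 1 ≤ k),
          t M (by omega : j ≤ n + (k + 1)) (z'.1 i) = t M (by omega : j ≤ n + k) (z.1 i) := fun k z => by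
    choose l hl using fun i => hs (n + k) (n + (k + 1)) (by omega) (z.1 i)
    have hd : x (n + (k + 1)) - ∑ i, b i • l i ∈ LinearMap.ker (t M (by omega : n + k ≤ n + (k + 1))) := by
      rw [LinearMap.mem_ker, map_sub, hx _ _ _, map_sum, sub_eq_zero, z.2]
      exact Finset.sum_congr rfl fun i _ => by rw [map_smul, hl]
    rw [hk, show n + k + 1 = (n + 1) + k by omega, pow_add, ← smul_eq_mul, Submodule.smul_assoc,
      ← hb] at hd
    obtain ⟨w, hw, hsum⟩ := exists_sum_of_mem_smul b _ hd
    refine ⟨⟨fun i => l i + w i, by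
      simp only [smul_add, Finset.sum_add_distrib, ← hsum, add_sub_cancel]⟩, fun i j hj => ?_⟩
    have hw0 : t M (by omega : j ≤ n + (k + 1)) (w i) = 0 := by
      refine Submodule.smul_induction_on (hw i) (fun r hr y _ => ?_) fun y z hy hz => by
        rw [map_add, hy, hz, add_zero]
      rw [map_smul]
      exact h0 j r (Ideal.pow_le_pow_right hj hr) _
    rw [map_add, hw0, add_zero, ← t_t M (by omega : j ≤ n + k) (by omega : n + k ≤ n + (k + 1)), hl]
  let z : ∀ k, {z : Fin s → M.obj (op (n + k)) // x (n + k) = ∑ i, b i • z i} :=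
    fun k => Nat.rec ⟨start.choose, start.choose_spec⟩ (fun k zk => (step k zk).choose) k
  refine ⟨fun i j => t M (by omega : j ≤ n + (j + 1)) ((z (j + 1)).1 i),
    fun i => compat_of_succ M fun j => ?_, fun j => ?_⟩
  · rw [t_t]
    exact (step (j + 1) (z (j + 1))).choose_spec i j le_rfl
  · rw [← hx j (n + (j + 1)) (by omega), (z (j + 1)).2, map_sum]
    exact Finset.sum_congr rfl fun i _ => by rw [map_smul]

/-- Lifting compatible families along a surjection of towers whose kernel is dominated by a strict tower. -/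
theorem exists_lift {B C A Y : ℕᵒᵖ ⥤ ModuleCat.{w} Λ} (f : A ⟶ B) (g : B ⟶ C) (v : Y ⟶ A)
    (hg : ∀ n, Function.Surjective (g.app (op n)).hom)
    (hex : ∀ n (b : B.obj (op n)), (g.app (op n)).hom b = 0 → ∃ a, (f.app (op n)).hom a = b)
    (hgf : ∀ n a, (g.app (op n)).hom ((f.app (op n)).hom a) = 0)
    (hY : ∀ n m (h : n ≤ m), Function.Surjective (t Y h)) (r : ℕ)
    (hv : ∀ n (a : A.obj (op (n + r))), ∃ y, (v.app (op n)).hom y = t A (Nat.le_add_right n r) a)
    (c : ∀ m, C.obj (op m)) (hc : Compat C c) :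
    ∃ b : ∀ m, B.obj (op m), Compat B b ∧ ∀ m, (g.app (op m)).hom (b m) = c m := by
  have nat : ∀ {P Q : ℕᵒᵖ ⥤ ModuleCat.{w} Λ} (φ : P ⟶ Q) {n m : ℕ} (h : n ≤ m) (x : P.obj (op m)),
      (φ.app (op n)).hom (t P h x) = t Q h ((φ.app (op m)).hom x) := fun φ _ _ h x =>
    congr(($(φ.naturality (homOfLE h).op)).hom x)
  choose b hb using fun n => hg n (c n)
  choose d hd using fun n => hex n (t B (Nat.le_add_right n 1) (b (n + 1)) - b n) (by
    rw [map_sub, nat g, hb, hb, hc _ _ _, sub_self])
  choose y hy using fun n => hv n (d (n + r))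
  choose p hp using fun n => hY n (n + 1) (Nat.le_add_right n 1)
  let e : ∀ n, Y.obj (op n) := fun n => Nat.rec 0 (fun k ek => p k (ek - y k)) n
  have he : ∀ n, t Y (Nat.le_add_right n 1) (e (n + 1)) = e n - y n := fun n => hp n _
  let D : ∀ n, A.obj (op n) := fun n =>
    ∑ k ∈ Finset.range r, t A (Nat.le_add_right n k) (d (n + k))
  let a : ∀ n, A.obj (op n) := fun n => (v.app (op n)).hom (e n) + D n
  have ha : ∀ n, a n - t A (Nat.le_add_right n 1) (a (n + 1)) = d n := fun n => by
    simp only [a, map_add, ← nat v, he, map_sub, hy]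
    have h1 : t A (Nat.le_add_right n 1) (D (n + 1)) =
        ∑ k ∈ Finset.range r, t A (Nat.le_add_right n (k + 1)) (d (n + (k + 1))) := by
      rw [map_sum]
      refine Finset.sum_congr rfl fun k _ => ?_
      rw [t_t]
      exact t_congr A d (by omega) _ _
    rw [h1]
    have h2 := Finset.sum_range_sub' (fun k => t A (Nat.le_add_right n k) (d (n + k))) r
    rw [Finset.sum_sub_distrib] at h2
    have h3 : t A (Nat.le_add_right n 0) (d (n + 0)) = d n := t_refl A _
    rw [h3] at h2
    simp only [D]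
    rw [← sub_eq_zero] at h2 ⊢
    rw [← h2]
    abel
  refine ⟨fun n => b n + (f.app (op n)).hom (a n), compat_of_succ B fun n => ?_, fun n => ?_⟩
  · have h4 := congrArg (f.app (op n)).hom (ha n)
    rw [map_sub, hd, nat f] at h4
    rw [map_add]
    rw [← sub_eq_zero] at h4 ⊢
    rw [← neg_eq_zero] at h4
    rw [← h4]
    abel
  · rw [map_add, hgf, add_zero, hb]

end Groth.Agent.Lib.ProEtDC.Tower
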