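import Groth.Agent.Lib.ProEtDC.LimSect
import Groth.Agent.Lib.ProEtDC.QuotWC
import Groth.Agent.Lib.ProEtDC.QuotAdj
import Groth.Agent.Lib.ProEtDC.Tower
import Groth.Agent.Lib.ProEt.EpsMod
import Groth.Agent.Lib.AR.Quot

/-!
Limits of adic systems on the pro-etale site.
-/

set_option autoImplicit false
set_option linter.style.haveILetI false

universe u

open CategoryTheory CategoryTheory.Limits AlgebraicGeometry Opposite

noncomputable section

namespace Groth.Agent.Lib.ProEtDC.AdicP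

set_option backward.isDefEq.respectTransparency.types false

open Sections Crit LimSect ProEt.EpsMod

variable {Λ : Type (u + 1)} [CommRing Λ] {X : Scheme.{u}}

section ProEtale

variable (D : ℕᵒᵖ ⥤ EtModW.ModP Λ X)

/-- The modules of sections of a tower. -/
abbrev sect (W : WCAff X) : ℕᵒᵖ ⥤ ModuleCat.{u + 1} Λ := D ⋙ Γ Λ W.1

lemma compat_proj (W : WCAff X) (z : (limit D).obj.obj (op W.1)) :
    Tower.Compat (sect D W) fun m => ((Γ Λ W.1).map (limit.π D (op m))).hom z := fun n m h => by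
  change ((Γ Λ W.1).map (D.map (homOfLE h).op)).hom (((Γ Λ W.1).map (limit.π D (op m))).hom z) = _
  rw [← map_comp_apply, limit.w]

lemma exists_of_compat (W : WCAff X) {x : ∀ m, (D.obj (op m)).obj.obj (op W.1)}
    (hx : Tower.Compat (sect D W) x) :
    ∃ z : (limit D).obj.obj (op W.1), ∀ m, ((Γ Λ W.1).map (limit.π D (op m))).hom z = x m := by
  obtain ⟨z, hz⟩ := exists_sect (D := D) W (fun j => x j.unop) fun {i j} t => hx _ _ (leOfHom t.unop)
  exact ⟨z, fun m => hz (op m)⟩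

/-- A morphism with the right behaviour on sections is a quotient modulo the ideal. -/
theorem isQuot_of_sections {J : Ideal Λ} {F Q : EtModW.ModP Λ X} (p : F ⟶ Q)
    (hQ : ARSys.KilledBy J Q) (hs : ∀ W : WCAff X, Function.Surjective ((Γ Λ W.1).map p).hom)
    (hk : ∀ (W : WCAff X) (x : F.obj.obj (op W.1)), ((Γ Λ W.1).map p).hom x = 0 →
      x ∈ J • (⊤ : Submodule Λ (F.obj.obj (op W.1)))) : ARSys.IsQuot J p := by
  haveI : Epi p := epi_of_sections p hs
  refine ⟨hQ, fun Y φ hφ => ?_⟩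
  have h0 : kernel.ι p ≫ φ = 0 := hom_ext_sections fun W x => by
    have hx : ((Γ Λ W.1).map p).hom (((Γ Λ W.1).map (kernel.ι p)).hom x) = 0 := by
      rw [← map_comp_apply, kernel.condition, Functor.map_zero]
      rfl
    rw [map_comp_apply, Functor.map_zero]
    change ((Γ Λ W.1).map φ).hom _ = 0
    refine Submodule.smul_induction_on (p := fun v => ((Γ Λ W.1).map φ).hom v = 0) (hk W _ hx)
      (fun b hb y _ => ?_) fun y z hy hz => ?_
    · rw [map_smul]
      have h1 := congr(((Γ Λ W.1).map $(hφ b hb)).hom y)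
      rw [Functor.map_smul, Functor.map_zero] at h1
      exact h1
    · rw [map_add, hy, hz, add_zero]
  exact ⟨Abelian.epiDesc p φ h0, Abelian.comp_epiDesc p φ _,
    fun ψ hψ => by rw [← cancel_epi p, hψ, Abelian.comp_epiDesc]⟩

/-- Projections from the limit of an adic tower are quotient maps. -/
theorem isQuot_limit_π {I : Ideal Λ} (hI : I.FG) (hD : ARSys.IsAdic I D) (n : ℕ) :
    ARSys.IsQuot (I ^ (n + 1)) (limit.π D (op n)) := by
  have hfg : ∀ m, (I ^ m).FG := fun m => Ideal.FG.pow hI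
  have hsk : ∀ (W : WCAff X) n m (h : n ≤ m), Function.Surjective (Tower.t (sect D W) h) ∧
      LinearMap.ker (Tower.t (sect D W) h) =
        I ^ (n + 1) • (⊤ : Submodule Λ ((sect D W).obj (op m))) := fun W n m h =>
    QuotWC.sections_isQuot (hfg (n + 1)) _ (hD.2 n m h) (isWC W)
  refine isQuot_of_sections _ (hD.1 n) (fun W x => ?_) fun W z hz => ?_
  · obtain ⟨y, hy, hyn⟩ := Tower.exists_compat (sect D W) (fun a b h => (hsk W a b h).1) n x
    obtain ⟨z, hz⟩ := exists_of_compat D W hy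
    exact ⟨z, (hz n).trans hyn⟩
  · obtain ⟨s, b, hb⟩ := Submodule.fg_iff_exists_fin_generating_family.mp (hfg (n + 1))
    have h0 : ∀ m, ∀ c ∈ I ^ (m + 1), ∀ v : (sect D W).obj (op m), c • v = 0 := fun m c hc v => by
      have h1 := congr(((Γ Λ W.1).map $(hD.1 m c hc)).hom v)
      rw [Functor.map_smul, Functor.map_zero] at h1
      exact h1
    obtain ⟨y, hy, hsum⟩ := Tower.exists_sum (sect D W) I (fun a b h => (hsk W a b h).1)
      (fun a b h => (hsk W a b h).2) h0 n b hb _ (compat_proj D W z) hz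
    · choose z' hz' using fun i => exists_of_compat D W (hy i)
      have : z = ∑ i, b i • z' i := ext_sect (D := D) W _ _ fun j => by
        obtain ⟨m⟩ := j
        refine (hsum m).trans (Eq.trans ?_ (map_sum _ _ _).symm)
        exact Finset.sum_congr rfl fun i _ => by rw [map_smul, hz']
      rw [this]
      exact Submodule.sum_mem _ fun i _ =>
        Submodule.smul_mem_smul (hb ▸ Submodule.subset_span ⟨i, rfl⟩) Submodule.mem_top

end ProEtale

section Etale

variable [ProEtS.EpsCont X]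

instance linear_push : ((ProEtS.eps X).sheafPushforwardContinuous (ModuleCat.{u + 1} Λ)
    X.smallEtaleTopology (Scheme.ProEt.topology X)).Linear Λ where
  map_smul := fun _ _ => rfl

instance linear_pull : (EtModW.epsPullMod Λ X).Linear Λ := QuotAdj.left_adjoint_linear (adjM Λ)

lemma full_faithful : (EtModW.epsPullMod Λ X).Full ∧ (EtModW.epsPullMod Λ X).Faithful := by
  haveI := isIso_unit Λ (X := X)
  exact ⟨(adjM Λ).fullyFaithfulLOfIsIsoUnit.full, (adjM Λ).fullyFaithfulLOfIsIsoUnit.faithful⟩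

variable {I : Ideal Λ} {G G' : ARSys.PS (EtModW.Mod Λ X)}

lemma isAdic_pull (hG : ARSys.IsAdic I G) : ARSys.IsAdic I (G ⋙ EtModW.epsPullMod Λ X) := by
  refine ⟨fun n a ha => ?_, fun n m h => QuotAdj.isQuot_map (adjM Λ) (hG.2 n m h)⟩
  change a • 𝟙 ((EtModW.epsPullMod Λ X).obj (G.obj (op n))) = 0
  rw [← (EtModW.epsPullMod Λ X).map_id, ← (EtModW.epsPullMod Λ X).map_smul, hG.1 n a ha,
    Functor.map_zero]

theorem isQuot_limit_π_pull (hI : I.FG) (hG : ARSys.IsAdic I G) (n : ℕ) :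
    ARSys.IsQuot (I ^ (n + 1)) (limit.π (G ⋙ EtModW.epsPullMod Λ X) (op n)) :=
  isQuot_limit_π _ hI (isAdic_pull hG) n

/-- Morphisms of limits of adic systems come from unique morphisms of systems. -/
theorem existsUnique_hom (hI : I.FG) (hG : ARSys.IsAdic I G) (hG' : ARSys.IsAdic I G')
    (w : limit (G ⋙ EtModW.epsPullMod Λ X) ⟶ limit (G' ⋙ EtModW.epsPullMod Λ X)) :
    ∃! g : G ⟶ G', limMap (Functor.whiskerRight g (EtModW.epsPullMod Λ X)) = w := by
  obtain ⟨hfull, hfaith⟩ := full_faithful (Λ := Λ) (X := X)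
  let L := EtModW.epsPullMod Λ X
  have hq := isQuot_limit_π_pull hI hG
  have hk : ∀ n : ℕ, ARSys.HomKilledBy (I ^ (n + 1)) (w ≫ limit.π (G' ⋙ L) (op n)) := fun n a ha => by
    rw [← Category.comp_id (w ≫ limit.π (G' ⋙ L) (op n)), ← Linear.comp_smul,
      (isAdic_pull hG').1 n a ha, comp_zero]
  choose ψ hψ using fun n => ((hq n).2 _ _ (hk n)).exists
  have hnat : ∀ n m (h : n ≤ m),
      L.preimage (ψ m) ≫ ARSys.tr G' h = ARSys.tr G h ≫ L.preimage (ψ n) := fun n m h => by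
    refine L.map_injective ?_
    rw [L.map_comp, L.map_comp, L.map_preimage, L.map_preimage]
    haveI := AR.isQuot_epi (hq m)
    rw [← cancel_epi (limit.π (G ⋙ L) (op m))]
    have h1 := limit.w (G ⋙ L) (homOfLE h).op
    have h2 := limit.w (G' ⋙ L) (homOfLE h).op
    calc limit.π (G ⋙ L) (op m) ≫ ψ m ≫ (G' ⋙ L).map (homOfLE h).op
        = w ≫ limit.π (G' ⋙ L) (op n) := by rw [reassoc_of% hψ m, h2]
      _ = limit.π (G ⋙ L) (op m) ≫ (G ⋙ L).map (homOfLE h).op ≫ ψ n := by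
        rw [← hψ n, ← h1, Category.assoc]
  refine ⟨AR.natMk (fun n => L.preimage (ψ n)) hnat, limit.hom_ext fun j => ?_, fun g hg => ?_⟩
  · obtain ⟨n⟩ := j
    refine (limMap_π _ _).trans ?_
    change limit.π (G ⋙ L) (op n) ≫ L.map (L.preimage (ψ n)) = _
    rw [L.map_preimage, hψ]
  · refine NatTrans.ext (funext fun j => L.map_injective ?_)
    obtain ⟨n⟩ := j
    change L.map (g.app (op n)) = L.map (L.preimage (ψ n))
    haveI := AR.isQuot_epi (hq n)
    rw [L.map_preimage, ← cancel_epi (limit.π (G ⋙ L) (op n)), hψ, ← hg]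
    exact (limMap_π (Functor.whiskerRight g L) (op n)).symm

theorem full_faithful_lim (hI : I.FG) :
    (ObjectProperty.ι (fun G : ARSys.PS (EtModW.Mod Λ X) => ARSys.IsAdic I G) ⋙
        ((Functor.whiskeringRight ℕᵒᵖ (EtModW.Mod Λ X) (EtModW.ModP Λ X)).obj (EtModW.epsPullMod Λ X) ⋙ lim)).Full ∧
    (ObjectProperty.ι (fun G : ARSys.PS (EtModW.Mod Λ X) => ARSys.IsAdic I G) ⋙
        ((Functor.whiskeringRight ℕᵒᵖ (EtModW.Mod Λ X) (EtModW.ModP Λ X)).obj (EtModW.epsPullMod Λ X) ⋙ lim)).Faithful :=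
  ⟨⟨fun {G G'} w => by
      obtain ⟨g, hg, -⟩ := existsUnique_hom hI G.property G'.property w
      exact ⟨ObjectProperty.homMk g, hg⟩⟩,
    ⟨fun {G G'} g g' h => ObjectProperty.hom_ext _
      ((existsUnique_hom hI G.property G'.property _).unique rfl h.symm)⟩⟩

variable (I) in
/-- Adic pro-etale sheaves. -/
def IsP (F : EtModW.ModP Λ X) : Prop :=
  ∃ (Q : ℕᵒᵖ ⥤ EtModW.ModP Λ X) (p : (Functor.const ℕᵒᵖ).obj F ⟶ Q),
    (∀ n : ℕ, ARSys.IsQuot (I ^ (n + 1)) (p.app (op n))) ∧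
    (∀ n : ℕ, ∃ E : EtModW.Mod Λ X, EtModW.IsConstructible Λ E ∧
      Nonempty ((EtModW.epsPullMod Λ X).obj E ≅ Q.obj (op n))) ∧
    IsIso (limit.lift Q (Cone.mk F p))

/-- Limits of adic constructible systems are adic pro-etale sheaves. -/
theorem isP_of_iso (hI : I.FG) (hG : ARSys.IsAdic I G)
    (hc : ∀ n : ℕ, EtModW.IsConstructible Λ (G.obj (op n))) {F : EtModW.ModP Λ X}
    (e : limit (G ⋙ EtModW.epsPullMod Λ X) ≅ F) : IsP I F := by
  let L := EtModW.epsPullMod Λ X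
  let p : (Functor.const ℕᵒᵖ).obj F ⟶ G ⋙ L :=
    (Functor.const ℕᵒᵖ).map e.inv ≫ (limit.cone (G ⋙ L)).π
  refine ⟨G ⋙ L, p, fun n => ?_, fun n => ⟨_, hc n, ⟨Iso.refl _⟩⟩, ?_⟩
  · exact AR.isQuot_of_isIso_comp e.inv (isQuot_limit_π_pull hI hG n)
  · have : limit.lift (G ⋙ L) (Cone.mk F p) = e.inv := limit.hom_ext fun j => limit.lift_π _ j
    rw [this]
    infer_instance

/-- An isomorphism-invariant form of constructibility is assumed. -/
theorem exists_adic_of_isP (hiso : ∀ {A B : EtModW.Mod Λ X}, (A ≅ B) → EtModW.IsConstructible Λ A →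
    EtModW.IsConstructible Λ B) {F : EtModW.ModP Λ X} (hF : IsP I F) :
    ∃ G : ARSys.PS (EtModW.Mod Λ X), ARSys.IsAdic I G ∧
      (∀ n : ℕ, EtModW.IsConstructible Λ (G.obj (op n))) ∧
      Nonempty (limit (G ⋙ EtModW.epsPullMod Λ X) ≅ F) := by
  obtain ⟨Q, p, hq, hQ, hlift⟩ := hF
  obtain ⟨hfull, hfaith⟩ := full_faithful (Λ := Λ) (X := X)
  haveI := isIso_unit Λ (X := X)
  let L := EtModW.epsPullMod Λ X
  let R := (ProEtS.eps X).sheafPushforwardContinuous (ModuleCat.{u + 1} Λ) X.smallEtaleTopology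
    (Scheme.ProEt.topology X)
  let G : ARSys.PS (EtModW.Mod Λ X) := Q ⋙ R
  haveI : ∀ n : ℕ, IsIso ((adjM Λ (X := X)).counit.app (Q.obj (op n))) := fun n => by
    obtain ⟨E, -, ⟨e⟩⟩ := hQ n
    exact SerreSub.AdjImage.isIso_counit (adjM Λ) ⟨E, ⟨e⟩⟩
  let ε : G ⋙ L ≅ Q := NatIso.ofComponents (fun j => asIso ((adjM Λ (X := X)).counit.app (Q.obj j)))
    fun f => (adjM Λ (X := X)).counit.naturality (Q.map f)
  refine ⟨G, ⟨fun n => ?_, fun n m h => ?_⟩, fun n => ?_, ⟨HasLimit.isoOfNatIso ε ≪≫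
    (asIso (limit.lift Q (Cone.mk F p))).symm⟩⟩
  · intro a ha
    change a • 𝟙 (R.obj (Q.obj (op n))) = 0
    rw [← R.map_id, ← R.map_smul, (hq n).1 a ha, R.map_zero]
  · refine QuotAdj.isQuot_of_map (L := L) ?_
    have hQq : ARSys.IsQuot (I ^ (n + 1)) (ARSys.tr Q h) := by
      refine ⟨(hq n).1, fun Y φ hφ => ?_⟩
      haveI := AR.isQuot_epi (hq m)
      haveI := AR.isQuot_epi (hq n)
      have hw : p.app (op m) ≫ ARSys.tr Q h = p.app (op n) := by
        have := p.naturality (homOfLE h).op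
        simpa [ARSys.tr] using this.symm
      obtain ⟨ψ, hψ, hu⟩ := (hq n).2 Y (p.app (op m) ≫ φ) (AR.homKilledBy_comp_left hφ _)
      refine ⟨ψ, ?_, fun χ hχ => hu χ ?_⟩
      · change ARSys.tr Q h ≫ ψ = φ
        rw [← cancel_epi (p.app (op m)), reassoc_of% hw]
        exact hψ
      · change p.app (op n) ≫ χ = p.app (op m) ≫ φ
        change ARSys.tr Q h ≫ χ = φ at hχ
        rw [← hw, Category.assoc, hχ]
    have heq : L.map (ARSys.tr G h) = ε.hom.app (op m) ≫ ARSys.tr Q h ≫ ε.inv.app (op n) := by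
      rw [← Category.assoc, ← ε.hom.naturality (homOfLE h).op, Category.assoc, ε.hom_inv_id_app,
        Category.comp_id]
      rfl
    rw [heq]
    refine AR.isQuot_of_isIso_comp _ ⟨AR.killedBy_of_epi (ε.inv.app (op n)) (hq n).1, fun Y φ hφ => ?_⟩
    obtain ⟨ψ, hψ, hu⟩ := hQq.2 Y φ hφ
    refine ⟨ε.hom.app (op n) ≫ ψ, ?_, fun χ hχ => ?_⟩
    · change (ARSys.tr Q h ≫ ε.inv.app (op n)) ≫ ε.hom.app (op n) ≫ ψ = φ
      rw [Category.assoc, ε.inv_hom_id_app_assoc]
      exact hψ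
    · change (ARSys.tr Q h ≫ ε.inv.app (op n)) ≫ χ = φ at hχ
      rw [← hu (ε.inv.app (op n) ≫ χ) ((Category.assoc _ _ _).symm.trans hχ)]
      exact (ε.hom_inv_id_app_assoc (op n) χ).symm
  · obtain ⟨E, hE, ⟨e⟩⟩ := hQ n
    exact hiso (asIso ((adjM Λ (X := X)).unit.app E) ≪≫ R.mapIso e) hE

end Etale

end Groth.Agent.Lib.ProEtDC.AdicP
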