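import Groth.Agent.Lib.ProEtDC.Completion
import Mathlib.CategoryTheory.Functor.OfSequence
import Mathlib.Algebra.Module.Submodule.Pointwise

/-!
Extending maps out of completed constant sheaves along the adjunction of one element to the ideal.
-/

set_option autoImplicit false
set_option linter.style.haveILetI false

universe u

open CategoryTheory CategoryTheory.Limits AlgebraicGeometry Opposite

noncomputable section

namespace Groth.Agent.Lib.ProEtDC.Adjoin

set_option backward.isDefEq.respectTransparency.types false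

open Sections Crit ConstSect LimSect Completion

variable {Λ : Type (u + 1)} [CommRing Λ] {X : Scheme.{u}}

/-- A countable product of copies. -/
abbrev Pw (F : EtModW.ModP Λ X) : EtModW.ModP Λ X := ∏ᶜ fun _ : ℕ => F

/-- Components of sections of a countable product. -/
abbrev comp (W : WCAff X) {F : EtModW.ModP Λ X} (i : ℕ) :
    (Pw F).obj.obj (op W.1) →ₗ[Λ] F.obj.obj (op W.1) :=
  ((Γ Λ W.1).map (Pi.π (fun _ : ℕ => F) i)).hom

lemma exists_comp (W : WCAff X) {F : EtModW.ModP Λ X} (x : ℕ → F.obj.obj (op W.1)) :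
    ∃ c : (Pw F).obj.obj (op W.1), ∀ i, comp W i c = x i := by
  obtain ⟨c, hc⟩ := exists_sect (D := Discrete.functor fun _ : ℕ => F) W (fun i => x i.as)
    fun {i j} t => by
      obtain rfl : i = j := Discrete.ext (Discrete.eq_of_hom t)
      rw [show t = 𝟙 i from Subsingleton.elim _ _, CategoryTheory.Functor.map_id]
      rfl
  exact ⟨c, fun i => hc ⟨i⟩⟩

lemma ext_comp (W : WCAff X) {F : EtModW.ModP Λ X} {c c' : (Pw F).obj.obj (op W.1)}
    (h : ∀ i, comp W i c = comp W i c') : c = c' :=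
  ext_sect (D := Discrete.functor fun _ : ℕ => F) W _ _ fun i => h i.as

lemma map_smul_apply {F G : EtModW.ModP Λ X} (r : Λ) (f : F ⟶ G) (U : X.ProEt)
    (x : F.obj.obj (op U)) :
    ((Γ Λ U).map (r • f)).hom x = r • ((Γ Λ U).map f).hom x := by
  rw [Functor.map_smul]
  rfl

section Telescope

variable (a : Λ) (F : EtModW.ModP Λ X)

/-- The telescope endomorphism. -/
def tele : Pw F ⟶ Pw F :=
  Pi.lift fun k => Pi.π (fun _ : ℕ => F) k - a • Pi.π (fun _ : ℕ => F) (k + 1)

lemma comp_tele (W : WCAff X) (k : ℕ) (x : (Pw F).obj.obj (op W.1)) :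
    comp W k (((Γ Λ W.1).map (tele a F)).hom x) = comp W k x - a • comp W (k + 1) x := by
  change ((Γ Λ W.1).map (Pi.π (fun _ : ℕ => F) k)).hom _ = _
  rw [← map_comp_apply, tele, Pi.lift_π, Functor.map_sub, ← map_smul_apply]
  rfl

lemma isIso_tele (hF : ∀ W : WCAff X, GoodM a (F.obj.obj (op W.1))) : IsIso (tele a F) :=
  isIso_of_sections _ fun W => by
    refine ⟨fun x y hxy => ext_comp W (congrFun ((hF W).1 (a₁ := fun i => comp W i x)
      (a₂ := fun i => comp W i y) (funext fun k => ?_))), fun y => ?_⟩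
    · change comp W k x - a • comp W (k + 1) x = comp W k y - a • comp W (k + 1) y
      rw [← comp_tele, ← comp_tele, hxy]
    · obtain ⟨x, hx⟩ := (hF W).2 fun i => comp W i y
      obtain ⟨c, hc⟩ := exists_comp W x
      exact ⟨c, ext_comp W fun i => by rw [comp_tele, hc, hc]; exact congrFun hx i⟩

end Telescope

variable {J J' : Ideal Λ} (h : J ≤ J') (a : Λ) (ha : a ∈ J')

/-- The components of the expansion map. -/
def eAt (n : ℕ) : Pw (G (X := X) J) ⟶ (T (X := X) J').obj (op n) :=
  ∑ i ∈ Finset.range n, a ^ i • (Pi.π (fun _ : ℕ => G (X := X) J) i ≫ lev J n ≫ constF.map (fac h n))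

include ha in
lemma smul_fac_eq_zero (n : ℕ) : a ^ n • fac h n = 0 :=
  ModuleCat.hom_ext (LinearMap.ext fun x => by
    obtain ⟨x, rfl⟩ := Submodule.mkQ_surjective _ x
    exact (Submodule.Quotient.mk_eq_zero _).2
      (Submodule.smul_mem_smul (Ideal.pow_mem_pow ha n) Submodule.mem_top))

include ha in
lemma eAt_succ (n : ℕ) :
    eAt (X := X) h a (n + 1) ≫ (T (X := X) J').map (homOfLE (Nat.le_add_right n 1)).op =
      eAt h a n := by
  let t : op (n + 1) ⟶ op n := (homOfLE (Nat.le_add_right n 1)).op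
  have key : ∀ i : ℕ, (Pi.π (fun _ : ℕ => G (X := X) J) i ≫ lev J (n + 1) ≫
        constF.map (fac h (n + 1))) ≫ (T (X := X) J').map t =
      Pi.π (fun _ : ℕ => G (X := X) J) i ≫ lev J n ≫ constF.map (fac h n) := fun i => by
    have h1 : (constF (X := X)).map (fac h (n + 1)) ≫ (T (X := X) J').map t =
        (T (X := X) J).map t ≫ constF.map (fac h n) := by
      change constF.map _ ≫ constF.map _ = constF.map _ ≫ constF.map _
      rw [← Functor.map_comp, ← Functor.map_comp]
      exact congrArg _ (fac_naturality h t).symm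
    simp only [Category.assoc]
    rw [h1, limit.w_assoc]
  unfold eAt
  rw [Preadditive.sum_comp]
  simp only [Linear.smul_comp]
  change ∑ i ∈ Finset.range (n + 1), a ^ i • (_ ≫ (T (X := X) J').map t) = _
  rw [Finset.sum_range_succ, key n, ← Linear.comp_smul, ← Linear.comp_smul, ← Functor.map_smul,
    smul_fac_eq_zero h a ha n, Functor.map_zero, comp_zero, comp_zero, add_zero]
  exact Finset.sum_congr rfl fun i _ => by rw [key i]

/-- The expansion map. -/
def e : Pw (G (X := X) J) ⟶ G (X := X) J' :=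
  limit.lift (T (X := X) J')
    { pt := Pw (G (X := X) J)
      π := NatTrans.ofOpSequence (eAt h a) fun n => by
        change 𝟙 _ ≫ _ = _
        rw [Category.id_comp, eAt_succ h a ha] }

@[reassoc]
lemma e_lev (n : ℕ) : e (X := X) h a ha ≫ lev J' n = eAt h a n :=
  limit.lift_π _ (op n)

/-- The inclusion of the initial component. -/
def δ (G : EtModW.ModP Λ X) : G ⟶ Pw G := Pi.lift fun i => if i = 0 then 𝟙 G else 0

lemma δ_e : δ (G (X := X) J) ≫ e h a ha = incl h :=
  limit.hom_ext fun n => by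
    obtain ⟨n⟩ := n
    refine (Category.assoc _ _ _).trans
      ((congrArg (fun k => δ (G (X := X) J) ≫ k) (e_lev h a ha n)).trans
        (Eq.trans ?_ (incl_lev h n).symm))
    unfold eAt
    rw [Preadditive.comp_sum]
    cases n with
    | zero =>
      have h0 : fac h 0 = 0 :=
        (one_smul Λ (fac h 0)).symm.trans (by simpa using smul_fac_eq_zero (J := J) h a ha 0)
      rw [Finset.range_zero, Finset.sum_empty, h0, Functor.map_zero, comp_zero]
    | succ m =>
      rw [Finset.sum_eq_single 0]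
      · rw [Linear.comp_smul, pow_zero, one_smul, δ, Pi.lift_π_assoc, if_pos rfl, Category.id_comp]
      · intro i _ hi
        rw [Linear.comp_smul, δ, Pi.lift_π_assoc, if_neg hi, zero_comp, smul_zero]
      · simp

lemma pr_e (W : WCAff X) (n : ℕ) (c : (Pw (G (X := X) J)).obj.obj (op W.1)) :
    pr W J' n (((Γ Λ W.1).map (e h a ha)).hom c) =
      ∑ i ∈ Finset.range n, a ^ i • ((E W).map (fac h n)).hom (pr W J n (comp W i c)) := by
  change ((Γ Λ W.1).map (lev J' n)).hom _ = _
  rw [← map_comp_apply, e_lev]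
  unfold eAt
  rw [Functor.map_sum, ModuleCat.hom_sum, LinearMap.sum_apply]
  exact Finset.sum_congr rfl fun i _ => map_smul_apply _ _ _ _

variable [IsNoetherianRing Λ]

omit [IsNoetherianRing Λ] in
lemma pr_e_seq (W : WCAff X) (n : ℕ) (c : (Pw (G (X := X) J)).obj.obj (op W.1))
    (y : ℕ → C (Λ := Λ) W) (hy : ∀ i, pr W J n (comp W i c) = red W J n (y i)) :
    pr W J' n (((Γ Λ W.1).map (e h a ha)).hom c) =
      red W J' n (∑ i ∈ Finset.range n, a ^ i • y i) := by
  rw [pr_e, map_sum]
  exact Finset.sum_congr rfl fun i _ => by rw [hy, fac_red, map_smul]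

variable (hJ' : J' ≤ J ⊔ Ideal.span {a})

include hJ' in
omit [IsNoetherianRing Λ] in
lemma exists_split {M : Type (u + 1)} [AddCommGroup M] [Module Λ M] (n m : ℕ) {x : M}
    (hx : x ∈ J' ^ (n + m) • (⊤ : Submodule Λ M)) :
    ∃ v : M, x - a ^ m • v ∈ J ^ n • (⊤ : Submodule Λ M) := by
  have h1 : J' ^ (n + m) ≤ J ^ n ⊔ Ideal.span {a ^ m} := by
    rw [← Ideal.span_singleton_pow]
    exact (Ideal.pow_right_mono hJ' _).trans Ideal.sup_pow_add_le_pow_sup_pow
  have h2 := Submodule.smul_mono h1 le_rfl hx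
  rw [Submodule.sup_smul, Submodule.ideal_span_singleton_smul, Submodule.mem_sup] at h2
  obtain ⟨p, hp, q, hq, rfl⟩ := h2
  obtain ⟨v, -, rfl⟩ := (Submodule.mem_smul_pointwise_iff_exists _ _ _).1 hq
  exact ⟨v, by simpa using hp⟩

include hJ' in
theorem surjective_e (W : WCAff X) :
    Function.Surjective ((Γ Λ W.1).map (e h a ha)).hom := by
  intro z
  obtain ⟨Y, hY, hz⟩ := exists_seq W J' z
  have hstep : ∀ k, ∃ v : C (Λ := Λ) W,
      Y (k + 1 + (k + 1)) - Y (k + k) - a ^ k • v ∈ J ^ k • (⊤ : Submodule Λ (C (Λ := Λ) W)) :=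
    fun k => exists_split a hJ' k k (sub_mem_of_succ hY (by omega))
  choose v hv using hstep
  let w : ℕ → C (Λ := Λ) W := fun n =>
    Y 0 + ∑ k ∈ Finset.range n, (Y (k + 1 + (k + 1)) - Y (k + k) - a ^ k • v k)
  let y : ℕ → ℕ → C (Λ := Λ) W := fun i n => v i + if i = 0 then w n else 0
  have hy : ∀ i n, y i (n + 1) - y i n ∈ J ^ n • (⊤ : Submodule Λ (C (Λ := Λ) W)) := fun i n => by
    by_cases hi : i = 0
    · have : y i (n + 1) - y i n = Y (n + 1 + (n + 1)) - Y (n + n) - a ^ n • v n := by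
        simp only [y, w, hi, if_true, Finset.sum_range_succ]
        abel
      exact this ▸ hv n
    · simp [y, hi]
  choose g hg using fun i => exists_of_seq W J (y i) (hy i)
  obtain ⟨c, hc⟩ := exists_comp W g
  refine ⟨c, ext_sect (D := Completion.T (X := X) J') W _ _ fun n => ?_⟩
  obtain ⟨n⟩ := n
  change pr W J' n _ = pr W J' n z
  rw [pr_e_seq h a ha W n c (fun i => y i n) fun i => by rw [hc, hg], hz, red_eq_iff]
  rcases n with _ | m
  · simp
  · have hsum : ∑ i ∈ Finset.range (m + 1), a ^ i • y i (m + 1) = Y (m + 1 + (m + 1)) := by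
      have h1 : ∑ i ∈ Finset.range (m + 1), a ^ i • y i (m + 1) =
          (∑ i ∈ Finset.range (m + 1), a ^ i • v i) + w (m + 1) := by
        simp only [y, smul_add, Finset.sum_add_distrib]
        congr 1
        rw [Finset.sum_eq_single 0] <;> simp +contextual
      rw [h1]
      simp only [w, Finset.sum_sub_distrib]
      have h2 := Finset.sum_range_sub (fun k => Y (k + k)) (m + 1)
      simp only [Finset.sum_sub_distrib] at h2
      rw [h2]
      simp only [Nat.add_zero]
      abel
    rw [hsum]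
    exact sub_mem_of_succ hY (by omega)

variable {F : EtModW.ModP Λ X} (φ : G (X := X) J ⟶ F)

/-- The auxiliary sum map. -/
def S [IsIso (tele a F)] : Pw (G (X := X) J) ⟶ F :=
  Limits.Pi.map (fun _ => φ) ≫ inv (tele a F) ≫ Pi.π (fun _ : ℕ => F) 0

omit [IsNoetherianRing Λ] in
lemma S_apply [IsIso (tele a F)] (W : WCAff X) (c : (Pw (G (X := X) J)).obj.obj (op W.1)) :
    ∃ x : ℕ → F.obj.obj (op W.1),
      (∀ k, x k - a • x (k + 1) = ((Γ Λ W.1).map φ).hom (comp W k c)) ∧
        ((Γ Λ W.1).map (S a φ)).hom c = x 0 := by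
  let x := ((Γ Λ W.1).map (Limits.Pi.map (fun _ : ℕ => φ) ≫ inv (tele a F))).hom c
  refine ⟨fun i => comp W i x, fun k => ?_, ?_⟩
  · rw [← comp_tele]
    change ((Γ Λ W.1).map (Pi.π (fun _ : ℕ => F) k)).hom _ = _
    simp only [x, ← map_comp_apply]
    have hh : (Limits.Pi.map (fun _ : ℕ => φ) ≫ inv (tele a F)) ≫ tele a F ≫
        Pi.π (fun _ : ℕ => F) k = Pi.π (fun _ : ℕ => G (X := X) J) k ≫ φ := by
      rw [Category.assoc, IsIso.inv_hom_id_assoc, Limits.Pi.map_π]
    exact congr(((Γ Λ W.1).map $hh).hom c)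
  · change _ = ((Γ Λ W.1).map (Pi.π (fun _ : ℕ => F) 0)).hom x
    simp only [x, ← map_comp_apply]
    rw [S, Category.assoc]

include h ha hJ' in
theorem S_eq_zero [IsIso (tele a F)] (hF : ∀ W : WCAff X, GoodM a (F.obj.obj (op W.1))) (W : WCAff X)
    (c : (Pw (G (X := X) J)).obj.obj (op W.1)) (hc : ((Γ Λ W.1).map (e h a ha)).hom c = 0) :
    ((Γ Λ W.1).map (S a φ)).hom c = 0 := by
  have hdiv : ∀ n, ∃ d : (G (X := X) J).obj.obj (op W.1),
      ∑ i ∈ Finset.range n, a ^ i • comp W i c = a ^ n • d := fun n => by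
    choose Y hY hYc using fun i => exists_seq W J (comp W i c)
    refine exists_div W J (a ^ n) _ fun m => ?_
    have h0 : red W J' (m + n) (∑ i ∈ Finset.range (m + n), a ^ i • Y i (m + n)) = 0 := by
      rw [← pr_e_seq h a ha W (m + n) c (fun i => Y i (m + n)) (fun i => hYc i _), hc, map_zero]
    obtain ⟨v, hv⟩ := exists_split a hJ' m n ((quot_eq_zero_iff W _ _).1 h0)
    refine ⟨v - ∑ i ∈ Finset.range m, a ^ i • Y (n + i) (m + n), ?_⟩
    rw [map_sum]
    simp_rw [map_smul (pr W J m), hYc, ← map_smul (red W J m)]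
    rw [← map_sum, red_eq_iff]
    have hsplit : ∑ i ∈ Finset.range (m + n), a ^ i • Y i (m + n) =
        ∑ i ∈ Finset.range n, a ^ i • Y i (m + n) +
          a ^ n • ∑ i ∈ Finset.range m, a ^ i • Y (n + i) (m + n) := by
      rw [Nat.add_comm m n, Finset.sum_range_add, Finset.smul_sum]
      simp only [smul_smul, pow_add]
    have : ∑ i ∈ Finset.range n, a ^ i • Y i m -
          a ^ n • (v - ∑ i ∈ Finset.range m, a ^ i • Y (n + i) (m + n)) =
        (∑ i ∈ Finset.range (m + n), a ^ i • Y i (m + n) - a ^ n • v) -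
          ∑ i ∈ Finset.range n, a ^ i • (Y i (m + n) - Y i m) := by
      simp only [smul_sub, hsplit, Finset.sum_sub_distrib]
      abel
    rw [this]
    exact sub_mem hv (Submodule.sum_mem _ fun i _ =>
      Submodule.smul_mem _ _ (sub_mem_of_succ (hY i) (Nat.le_add_right m n)))
  choose d' hd' using hdiv
  let d : ℕ → (G (X := X) J).obj.obj (op W.1) := fun n => if n = 0 then 0 else d' n
  have hd : ∀ n, ∑ i ∈ Finset.range n, a ^ i • comp W i c = a ^ n • d n := fun n => by
    by_cases hn : n = 0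
    · simp [d, hn]
    · simpa [d, hn] using hd' n
  let t : ℕ → (G (X := X) J).obj.obj (op W.1) := fun n => comp W n c + d n - a • d (n + 1)
  obtain ⟨N, hN⟩ := exists_torsion_bound_G W J a
  have ht : ∀ n, a ^ N • t n = 0 := fun n => hN n _ (by
    have h1 := hd (n + 1)
    rw [Finset.sum_range_succ, hd n, pow_succ, ← smul_smul] at h1
    simp only [t, smul_sub, smul_add]
    rw [← h1]
    abel)
  have hsum : ∑ k ∈ Finset.range N, a ^ k • t k = 0 := by
    have h2 : ∀ k, a ^ k • t k = a ^ k • comp W k c -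
        (a ^ (k + 1) • d (k + 1) - a ^ k • d k) := fun k => by
      simp only [t, smul_sub, smul_add, pow_succ, ← smul_smul]
      abel
    rw [Finset.sum_congr rfl fun k _ => h2 k, Finset.sum_sub_distrib,
      Finset.sum_range_sub (fun k => a ^ k • d k), hd]
    simp [d]
  obtain ⟨x, hx, hx0⟩ := S_apply a φ W c
  let ph : (G (X := X) J).obj.obj (op W.1) →ₗ[Λ] F.obj.obj (op W.1) := ((Γ Λ W.1).map φ).hom
  let w : ℕ → F.obj.obj (op W.1) := fun n => ∑ k ∈ Finset.range N, a ^ k • ph (t (n + k))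
  have hxw : (fun n => x n + ph (d n)) = w := (hF W).1 (funext fun n => by
    have hw : w n - a • w (n + 1) = ph (t n) := by
      have h3 := Finset.sum_range_sub' (fun k => a ^ k • ph (t (n + k))) N
      have h4 : a ^ N • ph (t (n + N)) = 0 := by rw [← map_smul, ht, map_zero]
      simp only [h4, sub_zero, pow_zero, one_smul, Nat.add_zero, Finset.sum_sub_distrib] at h3
      rw [← h3]
      simp only [w, Finset.smul_sum, smul_smul, ← pow_succ', Nat.add_assoc, Nat.add_comm 1]
    change x n + ph (d n) - a • (x (n + 1) + ph (d (n + 1))) = w n - a • w (n + 1)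
    rw [hw, smul_add, add_sub_add_comm, hx, ← map_smul, ← map_sub, ← map_add]
    simp only [t]
    congr 1
    abel)
  have h5 := congrFun hxw 0
  simp only [w, Nat.zero_add, ← map_smul, ← map_sum, hsum, map_zero] at h5
  rw [hx0]
  simpa [d] using h5

include ha hJ' in
/-- Maps out of the completion extend. -/
theorem exists_extend (hF : ∀ W : WCAff X, GoodM a (F.obj.obj (op W.1))) :
    ∃ ψ : G (X := X) J' ⟶ F, incl h ≫ ψ = φ := by
  haveI := isIso_tele a F hF
  haveI : Epi (e (X := X) h a ha) := epi_of_sections _ (surjective_e h a ha hJ')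
  have hk : kernel.ι (e (X := X) h a ha) ≫ S a φ = 0 := hom_ext_sections fun W x => by
    rw [map_comp_apply, Functor.map_zero]
    refine S_eq_zero h a ha hJ' φ hF W _ ?_
    rw [← map_comp_apply, kernel.condition, Functor.map_zero]
    rfl
  refine ⟨Abelian.epiDesc (e h a ha) (S a φ) hk, ?_⟩
  rw [← δ_e h a ha, Category.assoc, Abelian.comp_epiDesc]
  refine hom_ext_sections fun W g => ?_
  rw [map_comp_apply]
  obtain ⟨x, hx, hx0⟩ := S_apply a φ W (((Γ Λ W.1).map (δ (G (X := X) J))).hom g)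
  rw [hx0]
  have hδ : ∀ k, comp W k (((Γ Λ W.1).map (δ (G (X := X) J))).hom g) = if k = 0 then g else 0 :=
    fun k => by
      change ((Γ Λ W.1).map (Pi.π (fun _ : ℕ => G (X := X) J) k)).hom _ = _
      rw [← map_comp_apply, δ, Pi.lift_π]
      split_ifs with hk0
      · rfl
      · rw [Functor.map_zero]; rfl
  refine congrFun ((hF W).1 (a₁ := x) (a₂ := fun k => if k = 0 then ((Γ Λ W.1).map φ).hom g else 0)
    (funext fun k => ?_)) 0
  change x k - a • x (k + 1) = _
  rw [hx, hδ]
  by_cases hk0 : k = 0 <;> simp [hk0]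

end Groth.Agent.Lib.ProEtDC.Adjoin
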