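import Groth.Agent.Lib.ProEtDC.AdicP
import Groth.Agent.H88.EtMod.LCOps
import Groth.Agent.Lib.EtSite.Pull

/-!
The pullback from the etale to the pro-etale site commutes with inverse images.
-/

set_option autoImplicit false
set_option linter.style.haveILetI false

universe u

open CategoryTheory CategoryTheory.Limits AlgebraicGeometry Opposite

noncomputable section

namespace Groth.Agent.Lib.ProEtDC.EpsBC

variable {X Y : Scheme.{u}} (f : X ⟶ Y)

/-- Base change commutes with the inclusion of the etale site. -/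
def siteIso : ProEtS.eps Y ⋙ ProEtS.bcP f ≅ EtCoh.bc f ⋙ ProEtS.eps X :=
  NatIso.ofComponents (fun U => MorphismProperty.Over.isoMk (Iso.refl _) (Category.id_comp _))
    (fun {U V} g => MorphismProperty.Over.Hom.ext
      ((Category.comp_id _).trans (Category.id_comp _).symm))

variable (Λ : Type (u + 1)) [CommRing Λ] [ProEtS.EpsCont X] [ProEtS.EpsCont Y] [ProEtS.PCont f]

/-- The comparison of inverse images. -/
def pullIso :
    EtModW.epsPullMod Λ Y ⋙
        (ProEtS.bcP f).sheafPullback (ModuleCat.{u + 1} Λ) (Scheme.ProEt.topology Y) (Scheme.ProEt.topology X) ≅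
      EtModW.pull Λ f ⋙ EtModW.epsPullMod Λ X :=
  haveI : (ProEtS.eps Y ⋙ ProEtS.bcP f).IsContinuous Y.smallEtaleTopology (Scheme.ProEt.topology X) :=
    Functor.isContinuous_comp (ProEtS.eps Y) (ProEtS.bcP f) Y.smallEtaleTopology
      (Scheme.ProEt.topology Y) (Scheme.ProEt.topology X)
  Adjunction.leftAdjointUniq
    ((ProEt.EpsMod.adjM Λ (X := Y)).comp
      ((ProEtS.bcP f).sheafAdjunctionContinuous (ModuleCat.{u + 1} Λ) (Scheme.ProEt.topology Y)
        (Scheme.ProEt.topology X)))
    (((EtSix.pullPushModAdj Λ f).comp (ProEt.EpsMod.adjM Λ (X := X))).ofNatIsoRight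
      ((Functor.sheafPushforwardContinuousComp' (F := EtCoh.bc f) (G := ProEtS.eps X)
        (FG := ProEtS.eps Y ⋙ ProEtS.bcP f) (siteIso f).symm (ModuleCat.{u + 1} Λ) Y.smallEtaleTopology
        X.smallEtaleTopology (Scheme.ProEt.topology X)) ≪≫
      (Functor.sheafPushforwardContinuousComp' (F := ProEtS.eps Y) (G := ProEtS.bcP f)
        (FG := ProEtS.eps Y ⋙ ProEtS.bcP f) (Iso.refl _) (ModuleCat.{u + 1} Λ) Y.smallEtaleTopology
        (Scheme.ProEt.topology Y) (Scheme.ProEt.topology X)).symm))

end Groth.Agent.Lib.ProEtDC.EpsBC
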