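import Groth.Agent.Lib.ProEtDC.ModForget
import Groth.Agent.Lib.ProEtDC.EpsBC
import Groth.Agent.Lib.ProEt.RpushEps

/-!
The essential image of the pullback from the etale site is detected on underlying abelian sheaves; direct
images preserve it.
-/

set_option autoImplicit false
set_option linter.style.haveILetI false

universe u

open CategoryTheory CategoryTheory.Limits AlgebraicGeometry Opposite

noncomputable section

namespace Groth.Agent.Lib.ProEtDC.EpsImage

set_option backward.isDefEq.respectTransparency.types false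

open ProEt ProEt.EpsMod

variable {Λ : Type (u + 1)} [CommRing Λ] {X Y : Scheme.{u}} [ProEtS.EpsCont X]

/-- An object whose underlying sheaf of groups comes from the etale site has invertible counit. -/
theorem isIso_counit_of_underlying (G : EtModW.ModP Λ X) {E : EtCoh.Ab X}
    (e : (ProEtS.epsPull X).obj E ≅ (uP Λ).obj G) : IsIso ((adjM Λ).counit.app G) :=
  haveI := EpsEssImage.isIso_counit_of_iso e
  ModForget.isIso_counit_of_underlying Λ (ProEtS.eps X) X.smallEtaleTopology (Scheme.ProEt.topology X) G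

/-- Direct images along quasi-compact quasi-separated morphisms commute with the pullback from the etale
site. -/
theorem nonempty_push_iso (f : X ⟶ Y) [ProEtS.EpsCont Y] [ProEtS.PCont f] [QuasiCompact f]
    [QuasiSeparated f] (E : EtModW.Mod Λ X) :
    Nonempty ((EtModW.epsPullMod Λ Y).obj ((EtModW.push Λ f).obj E) ≅
      ((ProEtS.bcP f).sheafPushforwardContinuous (ModuleCat.{u + 1} Λ) (Scheme.ProEt.topology Y)
        (Scheme.ProEt.topology X)).obj ((EtModW.epsPullMod Λ X).obj E)) := by
  let G := ((ProEtS.bcP f).sheafPushforwardContinuous (ModuleCat.{u + 1} Λ) (Scheme.ProEt.topology Y)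
    (Scheme.ProEt.topology X)).obj ((EtModW.epsPullMod Λ X).obj E)
  have e₁ : (uP Λ).obj G ≅ (ProEtS.pushP f).obj ((uP Λ).obj ((EtModW.epsPullMod Λ X).obj E)) := Iso.refl _
  haveI := isIso_counit_of_underlying G (E := (EtCoh.push f).obj ((uE Λ).obj E))
    ((RpushEps.θIso f).app _ ≪≫ (ProEtS.pushP f).mapIso ((φ Λ).app E).symm ≪≫ e₁.symm)
  haveI := isIso_unit Λ (X := X)
  haveI : (ProEtS.eps Y ⋙ ProEtS.bcP f).IsContinuous Y.smallEtaleTopology (Scheme.ProEt.topology X) :=
    Functor.isContinuous_comp (ProEtS.eps Y) (ProEtS.bcP f) Y.smallEtaleTopology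
      (Scheme.ProEt.topology Y) (Scheme.ProEt.topology X)
  let swap := (Functor.sheafPushforwardContinuousComp' (F := EtCoh.bc f) (G := ProEtS.eps X)
        (FG := ProEtS.eps Y ⋙ ProEtS.bcP f) (EpsBC.siteIso f).symm (ModuleCat.{u + 1} Λ) Y.smallEtaleTopology
        X.smallEtaleTopology (Scheme.ProEt.topology X)) ≪≫
      (Functor.sheafPushforwardContinuousComp' (F := ProEtS.eps Y) (G := ProEtS.bcP f)
        (FG := ProEtS.eps Y ⋙ ProEtS.bcP f) (Iso.refl _) (ModuleCat.{u + 1} Λ) Y.smallEtaleTopology
        (Scheme.ProEt.topology Y) (Scheme.ProEt.topology X)).symm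
  exact ⟨(EtModW.epsPullMod Λ Y).mapIso ((EtModW.push Λ f).mapIso (asIso ((adjM Λ).unit.app E)) ≪≫
    swap.app ((EtModW.epsPullMod Λ X).obj E)) ≪≫ asIso ((adjM Λ).counit.app G)⟩

end Groth.Agent.Lib.ProEtDC.EpsImage
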