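import Groth.Agent.Lib.ProEtDC.JCont
import Groth.Agent.Lib.ProEtDC.EpsImage
import Groth.Agent.Lib.ProEtDC.QuotAdj
import Groth.Agent.Lib.ProEt.RecollementSeq
import Groth.Agent.Lib.ProEt.ClosedPullback
import Groth.Agent.Lib.ProEt.FinitePush
import Mathlib.CategoryTheory.Abelian.Exact

/-!
Direct images of pro-etale sheaves of modules along closed immersions with retrocompact complement.
-/

set_option autoImplicit false
set_option linter.style.haveILetI false

universe w v₁ v₂ u u₁ u₂

open CategoryTheory CategoryTheory.Limits AlgebraicGeometry Opposite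

noncomputable section

namespace Groth.Agent.Lib.ProEtDC.ClosedPushP

set_option backward.isDefEq.respectTransparency.types false

section General

variable {A : Type w} [CommRing A] {C : Type u₁} [Category.{v₁} C] [Abelian C] [Linear A C]
  {D : Type u₂} [Category.{v₂} D] [Abelian D] [Linear A D] {L : C ⥤ D} {R : D ⥤ C}

/-- An exact fully faithful right adjoint preserves quotients modulo ideals, provided morphisms out of its
image are detected by the unit. -/
theorem isQuot_map_right (adj : L ⊣ R) [R.Additive] [R.Linear A] [∀ F, IsIso (adj.counit.app F)]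
    (hdet : ∀ (K : D) (Y : C) (ψ : R.obj K ⟶ Y), ψ ≫ adj.unit.app Y = 0 → ψ = 0)
    {J : Ideal A} {F Q : D} {p : F ⟶ Q} [Epi (R.map p)] (hp : ARSys.IsQuot J p) :
    ARSys.IsQuot J (R.map p) := by
  haveI : L.Additive := adj.left_adjoint_additive
  haveI := QuotAdj.left_adjoint_linear (A := A) adj
  haveI : PreservesLimitsOfSize.{0, 0} R := adj.rightAdjoint_preservesLimits
  refine ⟨fun a ha => ?_, fun Y φ hφ => ?_⟩
  · rw [← R.map_id, ← R.map_smul, hp.1 a ha, R.map_zero]
  let χ : F ⟶ L.obj Y := inv (adj.counit.app F) ≫ L.map φ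
  have hχ : ARSys.HomKilledBy J χ := fun a ha => by
    change a • (inv (adj.counit.app F) ≫ L.map φ) = 0
    rw [← Linear.comp_smul, ← L.map_smul, hφ a ha, L.map_zero, comp_zero]
  obtain ⟨ψ, hψ, -⟩ := hp.2 _ χ hχ
  have hRχ : R.map χ = φ ≫ adj.unit.app Y := by
    have h1 : adj.unit.app (R.obj F) ≫ R.map (adj.counit.app F) = 𝟙 _ :=
      adj.right_triangle_components F
    have h2 : R.map (inv (adj.counit.app F)) = adj.unit.app (R.obj F) := by
      rw [Functor.map_inv, IsIso.inv_eq_of_inv_hom_id h1]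
    rw [R.map_comp, h2]
    exact (adj.unit.naturality φ).symm
  have hw : R.map (kernel.ι p) ≫ φ = 0 := hdet _ _ _ (by
    rw [Category.assoc, ← hRχ, ← R.map_comp]
    have h0 : kernel.ι p ≫ χ = 0 := by
      rw [← hψ]
      exact (Category.assoc _ _ _).symm.trans (by rw [kernel.condition, zero_comp])
    rw [h0, R.map_zero])
  have w : R.map (kernel.ι p) ≫ R.map p = 0 := by rw [← R.map_comp, kernel.condition, R.map_zero]
  let S := ShortComplex.mk (R.map (kernel.ι p)) (R.map p) w
  have hS : S.Exact := S.exact_of_f_is_kernel (isLimitOfHasKernelOfPreservesLimit R p)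
  haveI : Epi S.g := (inferInstance : Epi (R.map p))
  refine ⟨hS.desc φ hw, hS.g_desc φ hw, fun θ hθ => ?_⟩
  exact (cancel_epi (R.map p)).mp (hθ.trans (hS.g_desc φ hw).symm)

end General

/-- A morphism of abelian sheaves vanishing on weakly contractible affine objects vanishes. -/
theorem hom_eq_zero {X : Scheme.{u}} {F G : ProEtS.AbP X} (φ : F ⟶ G)
    (h : ∀ (W : X.ProEt) [IsAffine W.left], EtPBC.IsWContractible ↥Γ(W.left, ⊤) →
      ∀ s, φ.hom.app (op W) s = 0) : φ = 0 := by
  apply Sheaf.hom_ext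
  ext V s
  obtain ⟨P, g, hP, hwc, hcov, -, -⟩ := ProEt.Covers.exists_cover (unop V)
    (fun W : (unop V).left.affineOpens => W.1) (fun W => W.2) (iSup_affineOpens_eq_top (unop V).left)
  have hG : Presieve.IsSheaf (Scheme.ProEt.topology X) (G.obj ⋙ forget AddCommGrpCat.{u + 1}) :=
    (isSheaf_iff_isSheaf_of_type _ _).mp
      ((Presheaf.isSheaf_iff_isSheaf_forget _ G.obj (forget AddCommGrpCat.{u + 1})).mp G.property)
  refine (hG.isSeparated _ hcov).ext fun Z f hf => ?_
  obtain ⟨_, a, _, ⟨i⟩, rfl⟩ := hf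
  haveI := hP i
  have h1 : G.obj.map (g i).op (φ.hom.app V s) = 0 :=
    (ConcreteCategory.congr_hom (φ.hom.naturality (g i).op) s).symm.trans (h (P i) (hwc i) _)
  change G.obj.map (a ≫ g i).op (φ.hom.app V s) = G.obj.map (a ≫ g i).op 0
  rw [op_comp, Functor.map_comp, ConcreteCategory.comp_apply, h1, map_zero, map_zero]

variable {Z X : Scheme.{u}} (i : Z ⟶ X) [IsClosedImmersion i] [ProEtS.PCont i]

/-- Morphisms out of a direct image are detected by the unit. -/
theorem eq_zero_of_comp_unit (hret : IsRetrocompact (Set.range i.base)ᶜ) (K : ProEtS.AbP Z)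
    (Y : ProEtS.AbP X) (ψ : (ProEtS.pushP i).obj K ⟶ Y)
    (hψ : ψ ≫ (ProEtS.pullPushAdjP i).unit.app Y = 0) : ψ = 0 := by
  let O : X.Opens := ⟨(Set.range i.base)ᶜ, i.isClosedEmbedding.isClosed_range.isOpen_compl⟩
  have hc : Set.range O.ι.base = (Set.range i.base)ᶜ := O.range_ι
  haveI : QuasiCompact O.ι := quasiCompact_iff_isSpectralMap.mpr
    (IsRetrocompact_iff_isSpectralMap_subtypeVal.mp hret)
  haveI : ProEtS.JPCont O.ι := JCont.jpCont O.ι
  refine hom_eq_zero ψ fun W _ hW s => ?_
  obtain ⟨S⟩ := ProEt.Recollement.exists_splitting O.ι W hW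
  haveI := ProEt.RecollementSeq.subsingleton_over_open i O.ι hc K S.E₁
  have n1 := ConcreteCategory.congr_hom (ψ.hom.naturality S.e₁.op) s
  have n2 := ConcreteCategory.congr_hom (ψ.hom.naturality S.e₂.op) s
  refine (S.bijective Y).1 (Prod.ext ?_ ?_)
  · refine (n1.symm.trans ?_).trans (map_zero _).symm
    rw [ConcreteCategory.comp_apply]
    exact (congrArg _ (Subsingleton.elim _ 0)).trans (map_zero _)
  · refine Eq.trans ?_ (map_zero _).symm
    refine (ProEt.RecollementSeq.bijective_g_good i O.ι hc Y S).1 (Eq.trans ?_ (map_zero _).symm)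
    refine (congrArg _ n2.symm).trans ?_
    exact ConcreteCategory.congr_hom (congr_app (congrArg (fun t => t.hom) hψ) (op S.E₂)) _

variable (Λ : Type (u + 1)) [CommRing Λ]

/-- The direct image of modules. -/
abbrev pushM : EtModW.ModP Λ Z ⥤ EtModW.ModP Λ X :=
  (ProEtS.bcP i).sheafPushforwardContinuous (ModuleCat.{u + 1} Λ) (Scheme.ProEt.topology X)
    (Scheme.ProEt.topology Z)

omit [IsClosedImmersion i] in
instance additive_push : (pushM i Λ).Additive where
  map_add := rfl

omit [IsClosedImmersion i] in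
instance linear_push : (pushM i Λ).Linear Λ where
  map_smul := fun _ _ => rfl

open ModForget ProEt.EpsMod in
/-- Direct images preserve quotients modulo ideals. -/
theorem isQuot_map (hret : IsRetrocompact (Set.range i.base)ᶜ) {J : Ideal Λ} {F Q : EtModW.ModP Λ Z}
    {p : F ⟶ Q} (hp : ARSys.IsQuot J p) : ARSys.IsQuot J ((pushM i Λ).map p) := by
  let adj := adjM' Λ (ProEtS.bcP i) (Scheme.ProEt.topology X) (Scheme.ProEt.topology Z)
  haveI : ∀ G, IsIso (adj.counit.app G) := fun G =>
    haveI := ProEt.ClosedPullback.isIso_counit i ((uP Λ).obj G)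
    ModForget.isIso_counit_of_underlying Λ (ProEtS.bcP i) (Scheme.ProEt.topology X)
      (Scheme.ProEt.topology Z) G
  haveI : Epi p := AR.isQuot_epi hp
  haveI := (ProEt.FinitePush.exact_of_isWC i fun V _ hV =>
    ProEt.Retrocompact.isWC_bcP i hret V hV).2
  haveI : Epi ((uP Λ).map ((pushM i Λ).map p)) :=
    (inferInstance : Epi ((ProEtS.pushP i).map ((uP Λ).map p)))
  haveI : Epi ((pushM i Λ).map p) := (uP Λ).epi_of_epi_map inferInstance
  refine isQuot_map_right adj (fun K Y ψ hψ => (uP Λ).map_injective ?_) hp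
  have hz : (uP Λ).map (0 : (pushM i Λ).obj K ⟶ Y) = 0 := (uP Λ).map_zero _ _
  refine Eq.trans ?_ hz.symm
  refine eq_zero_of_comp_unit i hret ((uP Λ).obj K) ((uP Λ).obj Y) ((uP Λ).map ψ) ?_
  have h := congrArg ((uP Λ).map ψ ≫ ·)
    (unit_compat Λ (ProEtS.bcP i) (Scheme.ProEt.topology X) (Scheme.ProEt.topology Z) Y)
  refine h.symm.trans ?_
  change (uP Λ).map ψ ≫ (uP Λ).map (adj.unit.app Y) ≫ _ = 0
  rw [← Category.assoc, ← Functor.map_comp, hψ, Functor.map_zero, zero_comp]

end Groth.Agent.Lib.ProEtDC.ClosedPushP
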