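import Groth.Agent.Lib.ProEtDC.Thms

/-!
Sections of limits over weakly contractible affine objects, and detection of properties of morphisms.
-/

set_option autoImplicit false
set_option linter.style.haveILetI false

universe u

open CategoryTheory CategoryTheory.Limits AlgebraicGeometry Opposite

noncomputable section

namespace Groth.Agent.Lib.ProEtDC.LimSect

set_option backward.isDefEq.respectTransparency.types false

open Sections Crit Thms

variable {Λ : Type (u + 1)} [CommRing Λ] {X : Scheme.{u}}

section Limit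

variable {K : Type} [SmallCategory K] {D : K ⥤ EtModW.ModP Λ X} [HasLimit D] (W : WCAff X)

/-- Sections of a limit are determined by their projections. -/
theorem ext_sect (a b : (limit D).obj.obj (op W.1))
    (h : ∀ j, ((Γ Λ W.1).map (limit.π D j)).hom a = ((Γ Λ W.1).map (limit.π D j)).hom b) : a = b := by
  haveI : (Γ Λ W.1).IsRightAdjoint := (adj Λ W.1).isRightAdjoint
  have := (isLimitOfPreserves (Γ Λ W.1) (limit.isLimit D)).hom_ext
    (f := ModuleCat.ofHom (LinearMap.toSpanSingleton Λ _ a))
    (f' := ModuleCat.ofHom (LinearMap.toSpanSingleton Λ _ b)) fun j => by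
      refine ModuleCat.hom_ext (LinearMap.ext fun (r : Λ) => ?_)
      change ((Γ Λ W.1).map (limit.π D j)).hom (r • a) = ((Γ Λ W.1).map (limit.π D j)).hom (r • b)
      rw [map_smul, map_smul, h j]
  simpa using! congr($this (1 : Λ))

/-- Compatible families give sections of a limit. -/
theorem exists_sect (x : ∀ j, (D.obj j).obj.obj (op W.1))
    (hx : ∀ {i j : K} (t : i ⟶ j), ((Γ Λ W.1).map (D.map t)).hom (x i) = x j) :
    ∃ z : (limit D).obj.obj (op W.1), ∀ j, ((Γ Λ W.1).map (limit.π D j)).hom z = x j := by
  haveI : (Γ Λ W.1).IsRightAdjoint := (adj Λ W.1).isRightAdjoint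
  let L := isLimitOfPreserves (Γ Λ W.1) (limit.isLimit D)
  let c : Cone (D ⋙ Γ Λ W.1) :=
    { pt := ModuleCat.of Λ Λ
      π := { app := fun j => ModuleCat.ofHom (LinearMap.toSpanSingleton Λ _ (x j))
             naturality := fun i j t => ModuleCat.hom_ext (LinearMap.ext fun (r : Λ) => by
               change r • x j = ((Γ Λ W.1).map (D.map t)).hom (r • x i)
               rw [map_smul, hx t]) } }
  exact ⟨(L.lift c).hom (1 : Λ), fun j => (congr($(L.fac c j) (1 : Λ))).trans (one_smul Λ (x j))⟩

end Limit

lemma map_comp_apply {F G H : EtModW.ModP Λ X} (f : F ⟶ G) (g : G ⟶ H) (U : X.ProEt)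
    (x : F.obj.obj (op U)) :
    ((Γ Λ U).map (f ≫ g)).hom x = ((Γ Λ U).map g).hom (((Γ Λ U).map f).hom x) :=
  rfl

lemma map_id_apply {F : EtModW.ModP Λ X} (U : X.ProEt) (x : F.obj.obj (op U)) :
    ((Γ Λ U).map (𝟙 F)).hom x = x :=
  rfl

/-- Morphisms are determined on weakly contractible affine objects. -/
theorem hom_ext_sections {F G : EtModW.ModP Λ X} {f g : F ⟶ G}
    (h : ∀ (W : WCAff X) (x : F.obj.obj (op W.1)),
      ((Γ Λ W.1).map f).hom x = ((Γ Λ W.1).map g).hom x) : f = g := by
  refine isSeparating_free Λ _ _ ?_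
  rintro _ ⟨W⟩ k
  refine ((adj Λ W.1).homEquiv _ G).injective ?_
  rw [(adj Λ W.1).homEquiv_naturality_right, (adj Λ W.1).homEquiv_naturality_right]
  exact ModuleCat.hom_ext (LinearMap.ext fun (r : Λ) => h W _)

/-- A sheaf without sections on weakly contractible affine objects is zero. -/
theorem isZero_of_sections {F : EtModW.ModP Λ X} (h : ∀ W : WCAff X, Subsingleton (F.obj.obj (op W.1))) :
    IsZero F :=
  (IsZero.iff_id_eq_zero F).mpr (hom_ext_sections fun W _ => (h W).elim _ _)

/-- Epimorphisms are detected on weakly contractible affine objects. -/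
theorem epi_of_sections {F G : EtModW.ModP Λ X} (φ : F ⟶ G)
    (h : ∀ W : WCAff X, Function.Surjective ((Γ Λ W.1).map φ).hom) : Epi φ := by
  refine Abelian.epi_of_cokernel_π_eq_zero φ (hom_ext_sections fun W x => ?_)
  obtain ⟨y, rfl⟩ := h W x
  rw [← map_comp_apply, cokernel.condition, ← map_comp_apply, comp_zero]

/-- Monomorphisms are detected on weakly contractible affine objects. -/
theorem mono_of_sections {F G : EtModW.ModP Λ X} (φ : F ⟶ G)
    (h : ∀ W : WCAff X, Function.Injective ((Γ Λ W.1).map φ).hom) : Mono φ := by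
  refine Abelian.mono_of_kernel_ι_eq_zero φ (hom_ext_sections fun W x => h W ?_)
  rw [← map_comp_apply, ← map_comp_apply, kernel.condition, zero_comp]

/-- Isomorphisms are detected on weakly contractible affine objects. -/
theorem isIso_of_sections {F G : EtModW.ModP Λ X} (φ : F ⟶ G)
    (h : ∀ W : WCAff X, Function.Bijective ((Γ Λ W.1).map φ).hom) : IsIso φ := by
  haveI := mono_of_sections φ fun W => (h W).1
  haveI := epi_of_sections φ fun W => (h W).2
  exact isIso_of_mono_of_epi φ

end Groth.Agent.Lib.ProEtDC.LimSect
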