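import Groth.Agent.Lib.ProEtDC.ConstSect
import Groth.Agent.Lib.ProEtDC.LimSect

/-!
Sections of completed constant sheaves as sequences of sections of the constant sheaf.
-/

set_option autoImplicit false
set_option linter.style.haveILetI false

universe u

open CategoryTheory CategoryTheory.Limits AlgebraicGeometry Opposite

noncomputable section

namespace Groth.Agent.Lib.ProEtDC.Completion

set_option backward.isDefEq.respectTransparency.types false

open Sections Crit ConstSect LimSect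

variable {Λ : Type (u + 1)} [CommRing Λ] {X : Scheme.{u}}

/-- The tower of quotient sheaves. -/
abbrev T (J : Ideal Λ) : ℕᵒᵖ ⥤ EtModW.ModP Λ X :=
  _root_.ProEtDC.quotTower Λ J ⋙ constF

/-- The completed constant sheaf. -/
abbrev G (J : Ideal Λ) : EtModW.ModP Λ X := limit (T (X := X) J)

variable (Λ X) in
/-- The constant sheaf of scalars. -/
abbrev unitSheaf : EtModW.ModP Λ X := (constF (X := X)).obj (ModuleCat.of Λ Λ)

/-- The projection to a level. -/
abbrev lev (J : Ideal Λ) (n : ℕ) : G (X := X) J ⟶ (T (X := X) J).obj (op n) :=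
  limit.π (T (X := X) J) (op n)

/-- The reduction to a level, as a map to the tower. -/
def qT (J : Ideal Λ) (n : ℕ) : ModuleCat.of Λ Λ ⟶ (_root_.ProEtDC.quotTower Λ J).obj (op n) :=
  quot (J ^ n)

lemma quot_factor (J : Ideal Λ) {n m : ℕᵒᵖ} (t : n ⟶ m) :
    qT J n.unop ≫ (_root_.ProEtDC.quotTower Λ J).map t = qT J m.unop :=
  ModuleCat.hom_ext (LinearMap.ext fun _ => rfl)

/-- The canonical map to the completion. -/
def o (J : Ideal Λ) : unitSheaf Λ X ⟶ G (X := X) J :=
  limit.lift (T (X := X) J)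
    { pt := unitSheaf Λ X
      π := { app := fun n => constF.map (qT J n.unop)
             naturality := fun n m t => by
               change 𝟙 _ ≫ constF.map _ = constF.map _ ≫ constF.map _
               rw [Category.id_comp, ← Functor.map_comp, quot_factor] } }

@[reassoc]
lemma o_lev (J : Ideal Λ) (n : ℕ) : o (X := X) J ≫ lev J n = constF.map (qT J n) :=
  limit.lift_π _ (op n)

/-- The change of ideal on quotients. -/
abbrev fac {J J' : Ideal Λ} (h : J ≤ J') (n : ℕ) :
    (_root_.ProEtDC.quotTower Λ J).obj (op n) ⟶ (_root_.ProEtDC.quotTower Λ J').obj (op n) :=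
  ModuleCat.ofHom (Submodule.factor (Submodule.smul_mono (Ideal.pow_right_mono h n) le_rfl))

lemma quot_fac {J J' : Ideal Λ} (h : J ≤ J') (n : ℕ) : qT J n ≫ fac h n = qT J' n :=
  ModuleCat.hom_ext (LinearMap.ext fun _ => rfl)

lemma factor_square {A B B' D : Submodule Λ Λ} (h₁ : A ≤ B) (h₂ : B ≤ D) (h₃ : A ≤ B') (h₄ : B' ≤ D) :
    (Submodule.factor h₂).comp (Submodule.factor h₁) = (Submodule.factor h₄).comp (Submodule.factor h₃) :=
  (Submodule.factor_comp h₁ h₂).trans (Submodule.factor_comp h₃ h₄).symm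

lemma fac_naturality {J J' : Ideal Λ} (h : J ≤ J') {n m : ℕᵒᵖ} (t : n ⟶ m) :
    (_root_.ProEtDC.quotTower Λ J).map t ≫ fac h m.unop =
      fac h n.unop ≫ (_root_.ProEtDC.quotTower Λ J').map t :=
  ModuleCat.hom_ext (factor_square
    (Submodule.smul_mono (Ideal.pow_le_pow_right (leOfHom t.unop)) le_rfl)
    (Submodule.smul_mono (Ideal.pow_right_mono h m.unop) le_rfl)
    (Submodule.smul_mono (Ideal.pow_right_mono h n.unop) le_rfl)
    (Submodule.smul_mono (Ideal.pow_le_pow_right (leOfHom t.unop)) le_rfl))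

/-- The change of ideal on towers. -/
def facNat {J J' : Ideal Λ} (h : J ≤ J') :
    _root_.ProEtDC.quotTower Λ J ⟶ _root_.ProEtDC.quotTower Λ J' where
  app n := fac h n.unop
  naturality _ _ t := fac_naturality h t

/-- The change of ideal on completions. -/
def incl {J J' : Ideal Λ} (h : J ≤ J') : G (X := X) J ⟶ G (X := X) J' :=
  limMap (Functor.whiskerRight (facNat h) constF)

@[reassoc]
lemma incl_lev {J J' : Ideal Λ} (h : J ≤ J') (n : ℕ) :
    incl (X := X) h ≫ lev J' n = lev J n ≫ constF.map (fac h n) :=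
  limMap_π (F := T (X := X) J) (G := T (X := X) J')
    (Functor.whiskerRight (facNat h) (constF (X := X))) (op n)

lemma o_incl {J J' : Ideal Λ} (h : J ≤ J') : o (X := X) J ≫ incl h = o J' :=
  limit.hom_ext fun n => by
    obtain ⟨n⟩ := n
    refine (Category.assoc (o (X := X) J) (incl h) (lev J' n)).trans
      ((congrArg (fun k => o (X := X) J ≫ k) (incl_lev h n)).trans
        (((o_lev_assoc J n _).trans ?_).trans (o_lev J' n).symm))
    rw [← Functor.map_comp, quot_fac]

/-- For the zero ideal the canonical map has a retraction. -/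
theorem exists_retraction_bot :
    ∃ ρ : G (X := X) (⊥ : Ideal Λ) ⟶ unitSheaf Λ X, o ⊥ ≫ ρ = 𝟙 _ := by
  let back : (_root_.ProEtDC.quotTower Λ (⊥ : Ideal Λ)).obj (op 1) ⟶ ModuleCat.of Λ Λ :=
    ModuleCat.ofHom (Submodule.liftQ _ LinearMap.id (by simp))
  refine ⟨lev ⊥ 1 ≫ constF.map back, ?_⟩
  rw [o_lev_assoc, ← Functor.map_comp,
    show qT ⊥ 1 ≫ back = 𝟙 _ from ModuleCat.hom_ext (LinearMap.ext fun _ => rfl)]
  exact constF.map_id _

variable (W : WCAff X)

/-- Projections of sections. -/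
abbrev pr (J : Ideal Λ) (n : ℕ) :
    (G (X := X) J).obj.obj (op W.1) →ₗ[Λ] (E W).obj ((_root_.ProEtDC.quotTower Λ J).obj (op n)) :=
  ((Γ Λ W.1).map (lev J n)).hom

/-- Reduction of sections of the constant sheaf. -/
abbrev red (J : Ideal Λ) (n : ℕ) :
    C (Λ := Λ) W →ₗ[Λ] (E W).obj ((_root_.ProEtDC.quotTower Λ J).obj (op n)) :=
  ((E W).map (qT J n)).hom

lemma pr_o (J : Ideal Λ) (n : ℕ) (x : C (Λ := Λ) W) :
    pr W J n (((Γ Λ W.1).map (o J)).hom x) = red W J n x := by
  change ((Γ Λ W.1).map (lev J n)).hom _ = _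
  rw [← map_comp_apply, o_lev]
  rfl

lemma pr_incl {J J' : Ideal Λ} (h : J ≤ J') (n : ℕ) (g : (G (X := X) J).obj.obj (op W.1)) :
    pr W J' n (((Γ Λ W.1).map (incl h)).hom g) = ((E W).map (fac h n)).hom (pr W J n g) := by
  change ((Γ Λ W.1).map (lev J' n)).hom _ = _
  rw [← map_comp_apply, incl_lev]
  rfl

lemma fac_red {J J' : Ideal Λ} (h : J ≤ J') (n : ℕ) (x : C (Λ := Λ) W) :
    ((E W).map (fac h n)).hom (red W J n x) = red W J' n x := by
  change ((E W).map (qT J n) ≫ (E W).map (fac h n)).hom x = _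
  rw [← Functor.map_comp, quot_fac]

variable [IsNoetherianRing Λ]

lemma red_eq_iff (J : Ideal Λ) (n : ℕ) (a b : C (Λ := Λ) W) :
    red W J n a = red W J n b ↔ a - b ∈ J ^ n • (⊤ : Submodule Λ (C (Λ := Λ) W)) := by
  refine Iff.trans ?_ (quot_eq_zero_iff W (J ^ n) (a - b))
  exact ((sub_eq_zero (a := red W J n a)).symm.trans (by rw [← map_sub]; rfl))

omit [IsNoetherianRing Λ] in
lemma sub_mem_of_succ {M : Type (u + 1)} [AddCommGroup M] [Module Λ M] {J : Ideal Λ} {y : ℕ → M}
    (hy : ∀ n, y (n + 1) - y n ∈ J ^ n • (⊤ : Submodule Λ M)) {m n : ℕ} (h : m ≤ n) :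
    y n - y m ∈ J ^ m • (⊤ : Submodule Λ M) := by
  induction n, h using Nat.le_induction with
  | base => simp
  | succ k hk ih =>
    rw [← sub_add_sub_cancel (y (k + 1)) (y k) (y m)]
    exact add_mem (Submodule.smul_mono (Ideal.pow_le_pow_right hk) le_rfl (hy k)) ih

/-- Coherent sequences give sections. -/
theorem exists_of_seq (J : Ideal Λ) (y : ℕ → C (Λ := Λ) W)
    (hy : ∀ n, y (n + 1) - y n ∈ J ^ n • (⊤ : Submodule Λ (C (Λ := Λ) W))) :
    ∃ g : (G (X := X) J).obj.obj (op W.1), ∀ n, pr W J n g = red W J n (y n) := by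
  obtain ⟨g, hg⟩ := exists_sect (D := T (X := X) J) W (fun n => red W J n.unop (y n.unop))
    fun {i j} t => by
      change ((E W).map (qT J i.unop) ≫ (E W).map ((_root_.ProEtDC.quotTower Λ J).map t)).hom _ = _
      rw [← Functor.map_comp, quot_factor]
      exact (red_eq_iff W J _ _ _).2 (sub_mem_of_succ hy (leOfHom t.unop))
  exact ⟨g, fun n => hg (op n)⟩

/-- Sections are given by coherent sequences. -/
theorem exists_seq (J : Ideal Λ) (g : (G (X := X) J).obj.obj (op W.1)) :
    ∃ y : ℕ → C (Λ := Λ) W,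
      (∀ n, y (n + 1) - y n ∈ J ^ n • (⊤ : Submodule Λ (C (Λ := Λ) W))) ∧
      ∀ n, pr W J n g = red W J n (y n) := by
  choose y hy using fun n => surjective_E W (qT J n) (Submodule.mkQ_surjective _) (pr W J n g)
  refine ⟨y, fun n => (red_eq_iff W J n _ _).1 ?_, fun n => (hy n).symm⟩
  let t : op (n + 1) ⟶ op n := (homOfLE (Nat.le_add_right n 1)).op
  calc red W J n (y (n + 1))
      = ((E W).map ((_root_.ProEtDC.quotTower Λ J).map t)).hom (red W J (n + 1) (y (n + 1))) := by
        change _ = ((E W).map (qT J (n + 1)) ≫ (E W).map _).hom _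
        rw [← Functor.map_comp]
        exact congr(((E W).map $((quot_factor J t).symm)).hom (y (n + 1)))
    _ = ((Γ Λ W.1).map (lev J (n + 1) ≫ (T (X := X) J).map t)).hom g := by
        rw [map_comp_apply]
        exact congrArg _ (hy (n + 1))
    _ = red W J n (y n) := by
        rw [limit.w]
        exact (hy n).symm

/-- Sections divisible modulo every level are divisible. -/
theorem exists_div (J : Ideal Λ) (b : Λ) (g : (G (X := X) J).obj.obj (op W.1))
    (h : ∀ m, ∃ y : C (Λ := Λ) W, pr W J m g = red W J m (b • y)) :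
    ∃ d : (G (X := X) J).obj.obj (op W.1), g = b • d := by
  obtain ⟨Y, hY, hg⟩ := exists_seq W J g
  choose y hy using h
  obtain ⟨c, hc⟩ := exists_colon_le J b
  have hy' : ∀ m, Y m - b • y m ∈ J ^ m • (⊤ : Submodule Λ (C (Λ := Λ) W)) := fun m =>
    (red_eq_iff W J m _ _).1 ((hg m).symm.trans (hy m))
  have hstep : ∀ m, ∃ T : C (Λ := Λ) W, b • T = 0 ∧
      y (m + 1) - y m - T ∈ J ^ (m - c) • (⊤ : Submodule Λ (C (Λ := Λ) W)) := fun m => by
    have h1 : b • (y (m + 1) - y m) ∈ J ^ m • (⊤ : Submodule Λ (C (Λ := Λ) W)) := by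
      have : b • (y (m + 1) - y m) =
          (Y (m + 1) - Y m) - (Y (m + 1) - b • y (m + 1)) + (Y m - b • y m) := by
        rw [smul_sub]; abel
      rw [this]
      exact add_mem (sub_mem (hY m) (Submodule.smul_mono (Ideal.pow_le_pow_right m.le_succ) le_rfl
        (hy' (m + 1)))) (hy' m)
    have h2 := Submodule.smul_mono (hc m) le_rfl (mem_colon W (J ^ m) b _ h1)
    rw [Submodule.sup_smul, Submodule.mem_sup] at h2
    obtain ⟨T, hT, w, hw, hTw⟩ := h2
    exact ⟨T, smul_eq_zero_of_mem_colon W b T hT, by rwa [← hTw, add_sub_cancel_left]⟩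
  choose T hT0 hTm using hstep
  let z : ℕ → C (Λ := Λ) W := fun m => y m - ∑ k ∈ Finset.range m, T k
  have hz : ∀ m, b • z m = b • y m := fun m => by simp [z, smul_sub, Finset.smul_sum, hT0]
  obtain ⟨d, hd⟩ := exists_of_seq W J (fun m => z (m + c)) fun m => by
    have h1 := hTm (m + c)
    rw [Nat.add_sub_cancel] at h1
    have : z (m + 1 + c) - z (m + c) = y (m + c + 1) - y (m + c) - T (m + c) := by
      simp only [z, show m + 1 + c = m + c + 1 by omega, Finset.sum_range_succ]
      abel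
    rwa [this]
  refine ⟨d, ext_sect (D := Completion.T (X := X) J) W _ _ fun n => ?_⟩
  change pr W J n.unop g = pr W J n.unop (b • d)
  rw [map_smul, hd, hg, ← map_smul, red_eq_iff, hz]
  have : Y n.unop - b • y (n.unop + c) =
      (Y (n.unop + c) - b • y (n.unop + c)) - (Y (n.unop + c) - Y n.unop) := by abel
  rw [this]
  exact sub_mem (Submodule.smul_mono (Ideal.pow_le_pow_right (Nat.le_add_right _ _)) le_rfl (hy' _))
    (sub_mem_of_succ hY (Nat.le_add_right _ _))

/-- Torsion of sections with respect to powers of an element is bounded. -/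
theorem exists_torsion_bound_G (J : Ideal Λ) (a : Λ) : ∃ N : ℕ, ∀ (n : ℕ)
    (g : (G (X := X) J).obj.obj (op W.1)), a ^ n • g = 0 → a ^ N • g = 0 := by
  obtain ⟨N, hN⟩ := exists_torsion_bound a
  refine ⟨N, fun n g hg => ext_sect (D := T (X := X) J) W _ _ fun m => ?_⟩
  obtain ⟨Y, hY, hYg⟩ := exists_seq W J g
  obtain ⟨c, hc⟩ := exists_colon_le J (a ^ n)
  have h1 : Y (m.unop + c) ∈ (J ^ (m.unop + c)).colon {a ^ n} • (⊤ : Submodule Λ (C (Λ := Λ) W)) := by
    refine mem_colon W _ _ _ ?_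
    rw [← quot_eq_zero_iff]
    change red W J (m.unop + c) _ = 0
    rw [map_smul, ← hYg, ← map_smul, hg, map_zero]
  have h2 := Submodule.smul_mono (hc (m.unop + c)) le_rfl h1
  rw [Submodule.sup_smul, Submodule.mem_sup, Nat.add_sub_cancel] at h2
  obtain ⟨T, hT, w, hw, hTw⟩ := h2
  have hT' : a ^ N • T = 0 := by
    refine smul_eq_zero_of_mem_colon W _ T (Submodule.smul_mono (fun t ht => ?_) le_rfl hT)
    rw [Submodule.mem_colon_singleton, smul_eq_mul, Submodule.mem_bot] at ht ⊢
    exact hN n t ht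
  change pr W J m.unop (a ^ N • g) = pr W J m.unop 0
  rw [map_smul, hYg, ← map_smul, map_zero]
  refine (quot_eq_zero_iff W _ _).2 ?_
  have : a ^ N • Y m.unop = a ^ N • w - a ^ N • (Y (m.unop + c) - Y m.unop) := by
    rw [← hTw, smul_sub, smul_add, hT']; abel
  rw [this]
  exact sub_mem (Submodule.smul_mem _ _ hw)
    (Submodule.smul_mem _ _ (sub_mem_of_succ hY (Nat.le_add_right _ _)))

end Groth.Agent.Lib.ProEtDC.Completion
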