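import Groth.Agent.Lib.ProEtDC.Thms
import Mathlib.RingTheory.Filtration
import Mathlib.RingTheory.Ideal.Colon

/-!
Sections of constant sheaves over weakly contractible affine objects, and colon ideals.
-/

set_option autoImplicit false
set_option linter.style.haveILetI false

universe u

open CategoryTheory CategoryTheory.Limits AlgebraicGeometry Opposite

noncomputable section

namespace Groth.Agent.Lib.ProEtDC.ConstSect

set_option backward.isDefEq.respectTransparency.types false

open Sections Crit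

attribute [local instance] Abelian.hasFiniteBiproducts

variable {Λ : Type (u + 1)} [CommRing Λ] {X : Scheme.{u}}

/-- The constant sheaf functor. -/
abbrev constF : ModuleCat.{u + 1} Λ ⥤ EtModW.ModP Λ X :=
  constantSheaf (Scheme.ProEt.topology X) (ModuleCat.{u + 1} Λ)

/-- The adjunction to global sections. -/
def constAdj : constF (Λ := Λ) (X := X) ⊣ Γ Λ ((ProEtS.eps X).obj (EtCoh.top X)) :=
  constantSheafAdj (Scheme.ProEt.topology X) (ModuleCat.{u + 1} Λ) (ProEt.EpsCoh.topIsTerminal X)

instance : (constF (Λ := Λ) (X := X)).Additive :=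
  (constAdj (Λ := Λ) (X := X)).left_adjoint_additive

instance : (constF (Λ := Λ) (X := X)).Linear Λ where
  map_smul {M N} g r := ((constAdj (Λ := Λ) (X := X)).homEquiv M (constF.obj N)).injective (by
    have h := (constAdj (Λ := Λ) (X := X)).unit.naturality g
    rw [Adjunction.homEquiv_unit, Adjunction.homEquiv_unit,
      (Γ Λ ((ProEtS.eps X).obj (EtCoh.top X))).map_smul, Linear.comp_smul]
    have h' := (constAdj (Λ := Λ) (X := X)).unit.naturality (r • g)
    simp only [Functor.id_map, Functor.comp_map] at h h'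
    rw [← h', ← h, Linear.smul_comp])

variable (W : WCAff X)

/-- Sections of constant sheaves. -/
abbrev E : ModuleCat.{u + 1} Λ ⥤ ModuleCat.{u + 1} Λ := constF (X := X) ⋙ Γ Λ W.1

lemma exact_E {S : ShortComplex (ModuleCat.{u + 1} Λ)} (hS : S.Exact) :
    (∀ n, ((E W).map S.g).hom n = 0 → ∃ m, ((E W).map S.f).hom m = n) ∧
      ∀ m, ((E W).map S.g).hom (((E W).map S.f).hom m) = 0 := by
  haveI : (constF (Λ := Λ) (X := X)).IsLeftAdjoint := constAdj.isLeftAdjoint
  haveI : PreservesFiniteColimits (constF (Λ := Λ) (X := X)) := inferInstance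
  haveI : PreservesFiniteLimits (constF (Λ := Λ) (X := X)) :=
    inferInstanceAs (PreservesFiniteLimits (Functor.const _ ⋙ presheafToSheaf _ _))
  exact Thms.exact_Γ_map (hS.map (constF (X := X))) W

lemma surjective_E {M N : ModuleCat.{u + 1} Λ} (φ : M ⟶ N) (h : Function.Surjective φ.hom) :
    Function.Surjective ((E W).map φ).hom := by
  haveI : Epi φ := (ModuleCat.epi_iff_surjective φ).mpr h
  haveI : (constF (Λ := Λ) (X := X)).IsLeftAdjoint := constAdj.isLeftAdjoint
  exact Thms.surjective_Γ_map (constF.map φ) W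

/-- Sections of the constant sheaf of scalars. -/
abbrev C : ModuleCat.{u + 1} Λ := (E W).obj (ModuleCat.of Λ Λ)

variable [IsNoetherianRing Λ]

/-- The kernel on sections of a map out of the scalars. -/
theorem map_eq_zero_iff {M : ModuleCat.{u + 1} Λ} (h : ModuleCat.of Λ Λ ⟶ M) (x : C (Λ := Λ) W) :
    ((E W).map h).hom x = 0 ↔ x ∈ (LinearMap.ker h.hom : Ideal Λ) • (⊤ : Submodule Λ (C W)) := by
  let K : Ideal Λ := LinearMap.ker h.hom
  refine ⟨fun hx => ?_, fun hx => ?_⟩
  · obtain ⟨s, g, hg⟩ := Submodule.fg_iff_exists_fin_generating_family.mp (IsNoetherian.noetherian K)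
    let l : (⨁ fun _ : Fin s => ModuleCat.of Λ Λ) ⟶ ModuleCat.of Λ Λ :=
      biproduct.desc fun i => g i • 𝟙 _
    have hl : l = ∑ i, g i • biproduct.π (fun _ : Fin s => ModuleCat.of Λ Λ) i := by
      refine biproduct.hom_ext' _ _ fun i => ?_
      rw [biproduct.ι_desc, Preadditive.comp_sum, Finset.sum_eq_single i]
      · rw [Linear.comp_smul, biproduct.ι_π_self]
      · intro j _ hj
        rw [Linear.comp_smul, biproduct.ι_π_ne _ (Ne.symm hj), smul_zero]
      · simp
    have hmem : ∀ i, h.hom (g i) = 0 := fun i =>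
      (show g i ∈ K from hg ▸ Submodule.subset_span ⟨i, rfl⟩)
    have w : l ≫ h = 0 := by
      refine biproduct.hom_ext' _ _ fun i => ?_
      rw [biproduct.ι_desc_assoc, comp_zero]
      refine ModuleCat.hom_ext (LinearMap.ext fun (r : Λ) => ?_)
      change h.hom (g i • r) = 0
      rw [smul_eq_mul, mul_comm, ← smul_eq_mul, map_smul, hmem, smul_zero]
    have hex : (ShortComplex.mk l h w).Exact := by
      refine (ShortComplex.moduleCat_exact_iff _).mpr fun (r : Λ) (hr : h.hom r = 0) => ?_
      have hr' : r ∈ Submodule.span Λ (Set.range g) := hg.symm ▸ hr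
      obtain ⟨c, hc⟩ := (Submodule.mem_span_range_iff_exists_fun Λ).mp hr'
      refine ⟨(∑ i, c i • (biproduct.ι (fun _ : Fin s => ModuleCat.of Λ Λ) i).hom (1 : Λ)), ?_⟩
      change l.hom _ = r
      rw [map_sum, ← hc]
      refine Finset.sum_congr rfl fun i _ => ?_
      rw [map_smul]
      change c i • (biproduct.ι (fun _ : Fin s => ModuleCat.of Λ Λ) i ≫ l).hom (1 : Λ) = _
      rw [biproduct.ι_desc]
      change c i • g i • (1 : Λ) = _
      simp
    obtain ⟨z, rfl⟩ := (exact_E W hex).1 x hx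
    change ((E W).map l).hom z ∈ _
    rw [hl, Functor.map_sum, ModuleCat.hom_sum, LinearMap.sum_apply]
    refine Submodule.sum_mem _ fun i _ => ?_
    rw [Functor.map_smul]
    exact Submodule.smul_mem_smul (show g i ∈ K from hg ▸ Submodule.subset_span ⟨i, rfl⟩)
      (Submodule.mem_top (x := ((E W).map (biproduct.π (fun _ : Fin s => ModuleCat.of Λ Λ) i)).hom z))
  · refine Submodule.smul_induction_on hx (fun r hr y _ => ?_) fun y z hy hz => ?_
    · have h0 : r • h = 0 := ModuleCat.hom_ext (LinearMap.ext fun (t : Λ) => by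
        change r • h.hom t = 0
        rw [← map_smul, smul_eq_mul, mul_comm, ← smul_eq_mul, map_smul,
          show h.hom r = 0 from hr, smul_zero])
      rw [map_smul]
      change (r • (E W).map h).hom y = 0
      rw [← Functor.map_smul, h0, Functor.map_zero]
      rfl
    · rw [map_add, hy, hz, add_zero]

/-- The map to the quotient by an ideal. -/
abbrev quot (J : Ideal Λ) : ModuleCat.of Λ Λ ⟶ ModuleCat.of Λ (Λ ⧸ (J • ⊤ : Submodule Λ Λ)) :=
  ModuleCat.ofHom (J • ⊤ : Submodule Λ Λ).mkQ

/-- The kernel of the projection to sections of a quotient. -/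
theorem quot_eq_zero_iff (J : Ideal Λ) (x : C (Λ := Λ) W) :
    ((E W).map (quot J)).hom x = 0 ↔ x ∈ J • (⊤ : Submodule Λ (C W)) := by
  rw [map_eq_zero_iff]
  simp [quot, Submodule.ker_mkQ]

/-- Division in sections of constant sheaves. -/
theorem mem_colon (J : Ideal Λ) (b : Λ) (x : C (Λ := Λ) W) (h : b • x ∈ J • (⊤ : Submodule Λ (C W))) :
    x ∈ J.colon {b} • (⊤ : Submodule Λ (C W)) := by
  have h0 : ((E W).map (b • quot J)).hom x = 0 := by
    rw [Functor.map_smul]
    change b • ((E W).map (quot J)).hom x = 0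
    rw [← map_smul, quot_eq_zero_iff]
    exact h
  rw [map_eq_zero_iff] at h0
  have hk : LinearMap.ker (b • quot J).hom = J.colon {b} := by
    ext t
    change b • (Submodule.mkQ (J • ⊤ : Submodule Λ Λ)) t = 0 ↔ _
    rw [← map_smul, Submodule.mkQ_apply, Submodule.Quotient.mk_eq_zero, Submodule.mem_colon_singleton]
    simp [mul_comm]
  rwa [hk] at h0

/-- Artin-Rees for colon ideals. -/
theorem exists_colon_le (J : Ideal Λ) (b : Λ) :
    ∃ c : ℕ, ∀ m, (J ^ m).colon {b} ≤ (⊥ : Ideal Λ).colon {b} ⊔ J ^ (m - c) := by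
  obtain ⟨c, hc⟩ := J.exists_pow_inf_eq_pow_smul (Ideal.span {b} : Submodule Λ Λ)
  refine ⟨c, fun m t ht => ?_⟩
  rw [Submodule.mem_colon_singleton, smul_eq_mul] at ht
  by_cases hm : m < c
  · rw [Nat.sub_eq_zero_of_le hm.le, pow_zero, Ideal.one_eq_top, sup_top_eq]
    trivial
  · have h1 : t * b ∈ (J ^ m • ⊤ : Submodule Λ Λ) ⊓ Ideal.span {b} :=
      ⟨by simpa using ht, Ideal.mem_span_singleton'.mpr ⟨t, rfl⟩⟩
    rw [hc m (by omega)] at h1
    have h2 : t * b ∈ J ^ (m - c) • (Ideal.span {b} : Submodule Λ Λ) :=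
      Submodule.smul_mono le_rfl inf_le_right h1
    rw [smul_eq_mul, Ideal.mem_mul_span_singleton] at h2
    obtain ⟨y, hy, hyb⟩ := h2
    refine Submodule.mem_sup.mpr ⟨t - y, ?_, y, hy, sub_add_cancel t y⟩
    rw [Submodule.mem_colon_singleton, smul_eq_mul, sub_mul, hyb, sub_self]
    exact Submodule.zero_mem _

/-- Torsion with respect to powers of an element is bounded. -/
theorem exists_torsion_bound (a : Λ) :
    ∃ N : ℕ, ∀ n t, t * a ^ n = 0 → t * a ^ N = 0 := by
  let f : ℕ →o Submodule Λ Λ :=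
    ⟨fun n => (⊥ : Ideal Λ).colon {a ^ n}, fun m n hmn t ht => by
      rw [Submodule.mem_colon_singleton, smul_eq_mul, Submodule.mem_bot] at ht ⊢
      obtain ⟨k, rfl⟩ := Nat.exists_eq_add_of_le hmn
      rw [pow_add, ← mul_assoc, ht, zero_mul]⟩
  obtain ⟨N, hN⟩ := monotone_stabilizes_iff_noetherian.mpr inferInstance f
  refine ⟨N, fun n t ht => ?_⟩
  obtain hle | hle := le_total n N
  · obtain ⟨k, rfl⟩ := Nat.exists_eq_add_of_le hle
    rw [pow_add, ← mul_assoc, ht, zero_mul]
  · have : t ∈ f n := by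
      change t ∈ (⊥ : Ideal Λ).colon {a ^ n}
      rw [Submodule.mem_colon_singleton, smul_eq_mul, Submodule.mem_bot]
      exact ht
    rw [← hN n hle] at this
    change t ∈ (⊥ : Ideal Λ).colon {a ^ N} at this
    rwa [Submodule.mem_colon_singleton, smul_eq_mul, Submodule.mem_bot] at this

omit [IsNoetherianRing Λ] in
/-- Elements killed by colon ideals. -/
theorem smul_eq_zero_of_mem_colon (b : Λ) (x : C (Λ := Λ) W)
    (h : x ∈ (⊥ : Ideal Λ).colon {b} • (⊤ : Submodule Λ (C W))) : b • x = 0 := by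
  refine Submodule.smul_induction_on h (fun r hr y _ => ?_) fun y z hy hz => ?_
  · rw [Submodule.mem_colon_singleton, smul_eq_mul, Submodule.mem_bot] at hr
    rw [smul_smul, mul_comm, hr, zero_smul]
  · rw [smul_add, hy, hz, add_zero]

end Groth.Agent.Lib.ProEtDC.ConstSect
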