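import Groth.Agent.Lib.ProEtDC.Sections
import Groth.Agent.Lib.ProEtDC.SingleProj
import Groth.Agent.Lib.DerComp.Crit
import Mathlib.Algebra.Homology.DerivedCategory.Linear
import Mathlib.Algebra.Homology.DerivedCategory.TStructure
import Mathlib.CategoryTheory.Linear.FunctorCategory
import Mathlib.LinearAlgebra.Finsupp.LSum

/-!
Derived completeness on the pro-etale site through sections over weakly contractible affine objects.
-/

set_option autoImplicit false
set_option linter.style.haveILetI false

universe w u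

open CategoryTheory CategoryTheory.Limits AlgebraicGeometry Opposite
attribute [local instance] HasDerivedCategory.standard

noncomputable section

namespace Groth.Agent.Lib.ProEtDC.Crit

set_option backward.isDefEq.respectTransparency.types false

open Sections Groth.Agent.Lib.DerComp Groth.Agent.Lib.DerCat

variable (Λ : Type (u + 1)) [CommRing Λ] {X : Scheme.{u}}

instance linear : Linear Λ (EtModW.ModP Λ X) :=
  { homModule := fun F G =>
      letI : SMul Λ (F ⟶ G) := ⟨fun f φ => ⟨f • φ.hom⟩⟩
      Function.Injective.module Λ (M₂ := F ⟶ G)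
        { toFun := fun φ : F ⟶ G => φ.hom, map_zero' := rfl, map_add' := fun _ _ => rfl }
        (fun _ _ h => Sheaf.hom_ext h) (fun _ _ => rfl)
    smul_comp := fun _ _ _ r f g => Sheaf.hom_ext (Linear.smul_comp _ _ _ r f.hom g.hom)
    comp_smul := fun _ _ _ f r g => Sheaf.hom_ext (Linear.comp_smul _ _ _ f.hom r g.hom) }

instance linear_Γ (U : X.ProEt) : (Γ Λ U).Linear Λ where
  map_smul := fun _ _ => rfl

instance linear_L (U : X.ProEt) : (L Λ U).Linear Λ where
  map_smul {M N} g r := ((adj Λ U).homEquiv M ((L Λ U).obj N)).injective (by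
    have h := (adj Λ U).unit.naturality g
    rw [Adjunction.homEquiv_unit, Adjunction.homEquiv_unit, (Γ Λ U).map_smul, Linear.comp_smul]
    have h' := (adj Λ U).unit.naturality (r • g)
    simp only [Functor.id_map, Functor.comp_map] at h h'
    rw [← h', ← h, Linear.smul_comp])

variable {Λ}

section Telescope

variable (f : Λ)

/-- The free module on the naturals. -/
abbrev freeN : ModuleCat.{u + 1} Λ := ModuleCat.of Λ (ℕ →₀ Λ)

/-- The injections. -/
def inj (k : ℕ) : ModuleCat.of Λ Λ ⟶ freeN (Λ := Λ) := ModuleCat.ofHom (Finsupp.lsingle k)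

/-- The free module is the coproduct. -/
def isColimitCofan : IsColimit (Cofan.mk (freeN (Λ := Λ)) inj) :=
  Cofan.IsColimit.mk _
    (fun s => ModuleCat.ofHom (Finsupp.lsum Λ fun k => (s.inj k).hom))
    (fun s k => ModuleCat.hom_ext (LinearMap.ext fun (a : Λ) =>
      show (Finsupp.lsum Λ fun k => (s.inj k).hom) (Finsupp.single k a) = (s.inj k).hom a by
        rw [Finsupp.lsum_single]))
    (fun s m hm => ModuleCat.hom_ext (Finsupp.lhom_ext fun k (a : Λ) =>
      show m.hom (Finsupp.single k a) = (Finsupp.lsum Λ fun k => (s.inj k).hom) (Finsupp.single k a) by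
        rw [Finsupp.lsum_single, ← hm k]
        rfl))

/-- The telescope map. -/
def teleMap : freeN (Λ := Λ) ⟶ freeN (Λ := Λ) :=
  ModuleCat.ofHom (LinearMap.id - Finsupp.lsum Λ fun k : ℕ => f • Finsupp.lsingle (k + 1))

lemma teleMap_single (k : ℕ) (a : Λ) :
    (teleMap f).hom (Finsupp.single k a) = Finsupp.single k a - Finsupp.single (k + 1) (f * a) := by
  simp [teleMap]

lemma inj_teleMap (k : ℕ) : inj k ≫ teleMap f = inj k - f • inj (k + 1) := by
  refine ModuleCat.hom_ext (LinearMap.ext fun (a : Λ) => ?_)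
  refine (teleMap_single f k a).trans ?_
  rw [← smul_eq_mul, ← Finsupp.smul_single]
  rfl

/-- The augmentation to the localization. -/
def augMap : freeN (Λ := Λ) ⟶ ModuleCat.of Λ (Localization.Away f) :=
  ModuleCat.ofHom (Finsupp.lsum Λ fun k => LinearMap.toSpanSingleton Λ (Localization.Away f)
    (IsLocalization.mk' (Localization.Away f) 1 (⟨f ^ k, k, rfl⟩ : Submonoid.powers f)))

lemma augMap_single (k : ℕ) (a : Λ) : (augMap f).hom (Finsupp.single k a) =
    IsLocalization.mk' (Localization.Away f) a (⟨f ^ k, k, rfl⟩ : Submonoid.powers f) := by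
  simp [augMap, Algebra.smul_def, IsLocalization.mul_mk'_eq_mk'_of_mul]

lemma teleMap_apply (y : ℕ →₀ Λ) (k : ℕ) :
    (teleMap f).hom y k = y k - (if k = 0 then 0 else f * y (k - 1)) := by
  induction y using Finsupp.induction_linear with
  | zero => simp
  | add y z hy hz =>
    rw [map_add, Finsupp.add_apply, hy, hz, Finsupp.add_apply, Finsupp.add_apply]
    split_ifs <;> ring
  | single i a =>
    simp only [teleMap, ModuleCat.hom_ofHom, LinearMap.sub_apply, LinearMap.id_apply,
      Finsupp.lsum_single, LinearMap.smul_apply, Finsupp.lsingle_apply, Finsupp.sub_apply,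
      Finsupp.smul_apply, smul_eq_mul]
    rcases k with _ | k
    · simp
    · simp [Finsupp.single_apply]

/-- The telescope sequence. -/
def teleSeq : ShortComplex (ModuleCat.{u + 1} Λ) :=
  ShortComplex.mk (teleMap f) (augMap f) (by
    refine ModuleCat.hom_ext (Finsupp.lhom_ext fun k (a : Λ) => ?_)
    change (augMap f).hom ((teleMap f).hom (Finsupp.single k a)) = 0
    rw [teleMap_single, map_sub, augMap_single, augMap_single, sub_eq_zero,
      IsLocalization.mk'_eq_iff_eq]
    congr 1
    simp [pow_succ]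
    ring)

lemma single_mem_range (y : ℕ →₀ Λ) (N : ℕ) (h : ∀ k, N < k → y k = 0) :
    ∃ b : Λ, y - Finsupp.single N b ∈ LinearMap.range (teleMap f).hom := by
  induction N generalizing y with
  | zero =>
    refine ⟨y 0, ⟨0, ?_⟩⟩
    rw [map_zero]
    ext k
    rcases k with _ | k
    · simp
    · simp [h (k + 1) (by omega)]
  | succ N ih =>
    let y' : ℕ →₀ Λ := Finsupp.erase (N + 1) y
    obtain ⟨b, hb⟩ := ih y' fun k hk => by
      by_cases hk' : k = N + 1
      · subst hk'; exact Finsupp.erase_same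
      · rw [Finsupp.erase_ne hk']; exact h k (by omega)
    have h1 : Finsupp.single N b - Finsupp.single (N + 1) (f * b) ∈ LinearMap.range (teleMap f).hom :=
      ⟨Finsupp.single N b, teleMap_single f N b⟩
    refine ⟨y (N + 1) + f * b, ?_⟩
    have := Submodule.add_mem _ hb h1
    convert this using 1
    rw [Finsupp.single_add]
    simp only [y', Finsupp.erase_eq_sub_single]
    abel

theorem teleSeq_shortExact : (teleSeq f).ShortExact := by
  haveI : Mono (teleSeq f).f := ConcreteCategory.mono_of_injective _ <|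
    (injective_iff_map_eq_zero (teleMap f).hom).mpr fun (y : ℕ →₀ Λ) (hy : (teleMap f).hom y = 0) =>
      Finsupp.ext fun k => by
      induction k with
      | zero =>
        have h := teleMap_apply f y 0
        rw [hy, if_pos rfl, sub_zero] at h
        exact h.symm
      | succ k ih =>
        have h := teleMap_apply f y (k + 1)
        rw [hy, if_neg (Nat.succ_ne_zero k), Nat.add_sub_cancel, ih] at h
        simpa using h.symm
  haveI : Epi (teleSeq f).g := ConcreteCategory.epi_of_surjective _ <| by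
    intro (z : Localization.Away f)
    obtain ⟨a, ⟨_, k, rfl⟩, rfl⟩ := IsLocalization.exists_mk'_eq (Submonoid.powers f) z
    exact ⟨Finsupp.single k a, augMap_single f k a⟩
  refine { exact := (ShortComplex.moduleCat_exact_iff _).mpr fun y hy => ?_ }
  obtain ⟨b, x, hx⟩ := single_mem_range f y (y.support.sup id) fun k hk =>
    Finsupp.notMem_support_iff.mp fun hmem => (Finset.le_sup (f := id) hmem).not_gt hk
  set N := y.support.sup id
  have hb : (augMap f).hom (Finsupp.single N b) = 0 := by
    have h0 := congr($((teleSeq f).zero) x)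
    have h1 : (augMap f).hom ((teleMap f).hom x) = 0 := h0
    rw [hx, map_sub] at h1
    exact neg_eq_zero.mp (by simpa [show (augMap f).hom y = 0 from hy] using h1)
  rw [augMap_single, IsLocalization.mk'_eq_zero_iff] at hb
  obtain ⟨⟨_, j, rfl⟩, hj⟩ := hb
  obtain ⟨b', x', hx'⟩ : ∃ b', Finsupp.single N b - Finsupp.single (N + j) b' ∈
      LinearMap.range (teleMap f).hom ∧ b' = f ^ j * b := by
    refine ⟨f ^ j * b, ?_, rfl⟩
    clear hj hx hy
    induction j with
    | zero => simp
    | succ j ih =>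
      have h1 : Finsupp.single (N + j) (f ^ j * b) - Finsupp.single (N + j + 1) (f ^ (j + 1) * b) ∈
          LinearMap.range (teleMap f).hom := ⟨Finsupp.single (N + j) (f ^ j * b), by
        rw [teleMap_single, pow_succ', mul_assoc]⟩
      simpa [add_assoc] using Submodule.add_mem _ ih h1
  subst hx'
  rw [show f ^ j * b = 0 from hj, Finsupp.single_zero, sub_zero] at x'
  obtain ⟨w, hw⟩ := x'
  exact ⟨x + w, by
    change (teleMap f).hom (x + w) = y
    rw [map_add, hx, hw, sub_add_cancel]⟩

end Telescope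

section Good

variable (I : Ideal Λ)

/-- The telescope condition on a module. -/
def GoodM (f : Λ) (M : Type w) [AddCommGroup M] [Module Λ M] : Prop :=
  Function.Bijective (fun (x : ℕ → M) k => x k - f • x (k + 1))

/-- The telescope condition on morphisms from a free sheaf. -/
def Good (K : _root_.ProEtDC.DP Λ X) (U : X.ProEt) (f : Λ) : Prop :=
  ∀ n : ℤ, GoodM f ((DerivedCategory.singleFunctor (EtModW.ModP Λ X) 0).obj (free Λ U) ⟶ K⟦n⟧)

variable (K : _root_.ProEtDC.DP Λ X)

theorem van_iff_good (U : X.ProEt) (f : Λ) :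
    (∀ n : ℤ, Subsingleton
      ((DerivedCategory.singleFunctor (EtModW.ModP Λ X) 0).obj (_root_.ProEtDC.locExt Λ U f) ⟶ K⟦n⟧)) ↔
      Good K U f := by
  let F := DerivedCategory.singleFunctor (EtModW.ModP Λ X) 0
  have hS := shortExact_L Λ U (teleSeq_shortExact f)
  have hT := hS.singleTriangle_distinguished
  let e := F.mapIso (locIso Λ U f)
  refine Iff.trans ⟨fun h n => ?_, fun h n => ?_⟩
    ((TriVan.subsingleton_iff_bijective hT K).trans (forall_congr' fun n => ?_))
  · haveI := h n
    exact ⟨fun a b => (cancel_epi e.hom).1 (Subsingleton.elim _ _)⟩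
  · exact ⟨fun a b => (cancel_epi e.inv).1 ((h n).elim _ _)⟩
  let c : Cofan fun _ : ℕ => free Λ U :=
    Cofan.mk ((L Λ U).obj (freeN (Λ := Λ))) fun k => (L Λ U).map (inj k)
  have hc : IsColimit c := isColimitCofanMkObjOfIsColimit (L Λ U) _ _ isColimitCofan
  let E' := Equiv.ofBijective _ (DerComp.Crit.bijective_single_coprod c hc (K⟦n⟧))
  have sq : ∀ χ, E' (F.map ((L Λ U).map (teleMap f)) ≫ χ) = fun k => E' χ k - f • E' χ (k + 1) :=
    fun χ => funext fun k => by
      have h₁ : (L Λ U).map (inj k) ≫ (L Λ U).map (teleMap f) =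
          c.inj k - f • c.inj (k + 1) := by
        rw [← Functor.map_comp, inj_teleMap, Functor.map_sub, Functor.map_smul]
        rfl
      change F.map (c.inj k) ≫ F.map ((L Λ U).map (teleMap f)) ≫ χ =
        F.map (c.inj k) ≫ χ - f • (F.map (c.inj (k + 1)) ≫ χ)
      rw [← F.map_comp_assoc, show c.inj k ≫ (L Λ U).map (teleMap f) = _ from h₁,
        F.map_sub, F.map_smul, Preadditive.sub_comp, Linear.smul_comp]
  refine Iff.trans ?_ (Equiv.bijective_comp E' _)
  have hfun : ((fun (x : ℕ → (F.obj (free Λ U) ⟶ K⟦n⟧)) k => x k - f • x (k + 1)) ∘ E') =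
      E' ∘ fun χ => F.map ((L Λ U).map (teleMap f)) ≫ χ :=
    funext fun χ => (sq χ).symm
  rw [hfun, Equiv.comp_bijective]
  exact Iff.rfl

/-- Morphisms from the free sheaf on a weakly contractible object are sections of homology. -/
def homEquivSect (W : WCAff X) (n : ℤ) :
    ((DerivedCategory.singleFunctor (EtModW.ModP Λ X) 0).obj (free Λ W.1) ⟶ K⟦n⟧) ≃
      (_root_.ProEtDC.HDP K n).obj.obj (op W.1) :=
  haveI := projective_free Λ W
  (Equiv.ofBijective _ (SingleProj.bijective_H₀ (free Λ W.1) (K⟦n⟧))).trans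
    ((((DerivedCategory.homologyFunctor (EtModW.ModP Λ X) 0).shiftIso n 0 n (add_zero n)).app K).homToEquiv.trans
      (((adj Λ W.1).homEquiv _ _).trans
        ((ModuleCat.homEquiv).trans (LinearMap.ringLmapEquivSelf Λ Λ _).toEquiv)))

lemma homEquivSect_apply (W : WCAff X) (n : ℤ)
    (x : (DerivedCategory.singleFunctor (EtModW.ModP Λ X) 0).obj (free Λ W.1) ⟶ K⟦n⟧) :
    homEquivSect K W n x = ((adj Λ W.1).homEquiv _ _
      ((SingleProj.H₀ (free Λ W.1) ≫ (DerivedCategory.homologyFunctor (EtModW.ModP Λ X) 0).map x) ≫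
        ((DerivedCategory.homologyFunctor (EtModW.ModP Λ X) 0).shiftIso n 0 n (add_zero n)).hom.app K)).hom
          (1 : Λ) := rfl

lemma homEquivSect_smul (W : WCAff X) (n : ℤ) (f : Λ)
    (x : (DerivedCategory.singleFunctor (EtModW.ModP Λ X) 0).obj (free Λ W.1) ⟶ K⟦n⟧) :
    homEquivSect K W n (f • x) = f • homEquivSect K W n x := by
  let S := DerivedCategory.singleFunctor (EtModW.ModP Λ X) 0
  let a : ModuleCat.of Λ Λ ⟶ ModuleCat.of Λ Λ := f • 𝟙 _
  have hx : f • x = S.map ((L Λ W.1).map a) ≫ x := by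
    rw [(L Λ W.1).map_smul, (L Λ W.1).map_id, S.map_smul, S.map_id, Linear.smul_comp, Category.id_comp]
  rw [homEquivSect_apply, homEquivSect_apply, hx, Functor.map_comp, ← Category.assoc,
    SingleProj.H₀_naturality]
  simp only [Category.assoc]
  rw [Adjunction.homEquiv_naturality_left]
  set φ := (adj Λ W.1).homEquiv _ _ _
  change φ.hom (f • (1 : Λ)) = f • φ.hom (1 : Λ)
  exact map_smul _ _ _

lemma homEquivSect_sub (W : WCAff X) (n : ℤ)
    (x y : (DerivedCategory.singleFunctor (EtModW.ModP Λ X) 0).obj (free Λ W.1) ⟶ K⟦n⟧) :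
    homEquivSect K W n (x - y) = homEquivSect K W n x - homEquivSect K W n y := by
  rw [homEquivSect_apply, homEquivSect_apply, homEquivSect_apply, Functor.map_sub,
    Preadditive.comp_sub, Preadditive.sub_comp]
  rw [← Adjunction.homAddEquiv_apply, map_sub]
  rfl

theorem good_iff_sect (W : WCAff X) (f : Λ) :
    Good K W.1 f ↔ ∀ n : ℤ, GoodM f ((_root_.ProEtDC.HDP K n).obj.obj (op W.1)) := by
  refine forall_congr' fun n => ?_
  let E := Equiv.piCongrRight fun _ : ℕ => homEquivSect K W n
  have h : (fun (x : ℕ → (_root_.ProEtDC.HDP K n).obj.obj (op W.1)) k => x k - f • x (k + 1)) ∘ E =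
      E ∘ fun x k => x k - f • x (k + 1) := funext fun x => funext fun k => by
    change homEquivSect K W n (x k) - f • homEquivSect K W n (x (k + 1)) = homEquivSect K W n _
    rw [homEquivSect_sub, homEquivSect_smul]
  refine Iff.trans ?_ (Equiv.bijective_comp E _)
  rw [h, Equiv.comp_bijective]
  exact Iff.rfl

/-- The telescope condition on all weakly contractible affine objects suffices. -/
theorem good_of_wc {f : Λ} (h : ∀ W : WCAff X, Good K W.1 f) (U : X.ProEt) : Good K U f := by
  haveI : (DerivedCategory.Qh (C := EtModW.ModP Λ X)).IsLeftAdjoint := inferInstance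
  haveI : HasLimitsOfShape (Discrete ℕ) (DerivedCategory (EtModW.ModP Λ X)) :=
    HProd.hasLimitsOfShape_derivedCategory
  let P := ∏ᶜ fun _ : ℕ => K
  let d : P ⟶ P := Pi.lift fun k => Pi.π (fun _ : ℕ => K) k - f • Pi.π (fun _ : ℕ => K) (k + 1)
  have hP : ∀ (Z : DerivedCategory (EtModW.ModP Λ X)) (m : ℤ),
      Function.Bijective (fun (χ : Z ⟶ P⟦m⟧) (k : ℕ) => χ ≫ (Pi.π (fun _ : ℕ => K) k)⟦m⟧') := by
    intro Z m
    let hl := isLimitFanMkObjOfIsLimit (shiftFunctor (DerivedCategory (EtModW.ModP Λ X)) m)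
      (fun _ : ℕ => K) _ (productIsProduct fun _ : ℕ => K)
    exact ⟨fun a b e => Fan.IsLimit.hom_ext hl _ _ fun k => congrFun e k,
      fun y => ⟨Fan.IsLimit.lift hl y, funext fun k => Fan.IsLimit.fac hl y k⟩⟩
  have key : ∀ (Z : DerivedCategory (EtModW.ModP Λ X)) (m : ℤ),
      Function.Bijective (fun χ : Z ⟶ P⟦m⟧ => χ ≫ d⟦m⟧') ↔ GoodM f (Z ⟶ K⟦m⟧) := by
    intro Z m
    let E := Equiv.ofBijective _ (hP Z m)
    unfold GoodM
    rw [← Equiv.comp_bijective (e := E), ← Equiv.bijective_comp E
      (fun (x : ℕ → (Z ⟶ K⟦m⟧)) k => x k - f • x (k + 1))]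
    refine Iff.of_eq (congrArg Function.Bijective (funext fun χ => funext fun k => ?_))
    change (χ ≫ d⟦m⟧') ≫ (Pi.π (fun _ : ℕ => K) k)⟦m⟧' =
      χ ≫ (Pi.π (fun _ : ℕ => K) k)⟦m⟧' - f • (χ ≫ (Pi.π (fun _ : ℕ => K) (k + 1))⟦m⟧')
    rw [Category.assoc, ← Functor.map_comp, Pi.lift_π, Functor.map_sub, Preadditive.comp_sub,
      Functor.map_smul, Linear.comp_smul]
  obtain ⟨T, a, c, hT⟩ := Pretriangulated.distinguished_cocone_triangle₁ d
  have hL : IsZero T := TriVan.isZero_of_separating (fun W : WCAff X => free Λ W.1)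
    (isSeparating_free Λ) T fun W m =>
      TriVan.subsingleton_fibre hT _ (fun m => (key _ m).2 (h W m)) m
  haveI : IsIso d := (Pretriangulated.Triangle.isZero₁_iff_isIso₂ _ hT).1 hL
  intro n
  refine (key _ n).1 ⟨fun a b e => (cancel_mono (d⟦n⟧')).1 e, fun χ => ⟨χ ≫ inv (d⟦n⟧'), ?_⟩⟩
  simp

/-- Derived completeness through the sections of homology. -/
theorem isDC_iff : _root_.ProEtDC.IsDC Λ I K ↔
    ∀ f ∈ I, ∀ (W : WCAff X) (n : ℤ), GoodM f ((_root_.ProEtDC.HDP K n).obj.obj (op W.1)) := by
  refine ⟨fun h f hf W => (good_iff_sect K W f).1 ((van_iff_good K W.1 f).1 (h W.1 f hf)),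
    fun h U f hf => (van_iff_good K U f).2 (good_of_wc K (fun W => (good_iff_sect K W f).2 (h f hf W)) U)⟩

lemma goodM_congr (f : Λ) {M N : ModuleCat.{u + 1} Λ} (e : M ≅ N) : GoodM f M ↔ GoodM f N := by
  let E := Equiv.piCongrRight fun _ : ℕ => e.toLinearEquiv.toEquiv
  unfold GoodM
  rw [← Equiv.bijective_comp E (fun (x : ℕ → N) k => x k - f • x (k + 1)),
    ← Equiv.comp_bijective (e := E) (f := fun (x : ℕ → M) k => x k - f • x (k + 1))]
  refine Iff.of_eq (congrArg Function.Bijective (funext fun x => funext fun k => ?_))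
  change e.toLinearEquiv (x k - f • x (k + 1)) = e.toLinearEquiv (x k) - f • e.toLinearEquiv (x (k + 1))
  rw [map_sub, map_smul]

lemma goodM_subsingleton (f : Λ) (M : Type w) [AddCommGroup M] [Module Λ M] [Subsingleton M] :
    GoodM f M :=
  ⟨fun _ _ _ => Subsingleton.elim _ _, fun y => ⟨y, Subsingleton.elim _ _⟩⟩

variable {K} in
/-- Derived completeness of sheaves through sections over weakly contractible affine objects. -/
theorem isDCSheaf_iff (F : EtModW.ModP Λ X) : _root_.ProEtDC.IsDCSheaf Λ I F ↔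
    ∀ f ∈ I, ∀ W : WCAff X, GoodM f (F.obj.obj (op W.1)) := by
  let S := DerivedCategory.singleFunctor (EtModW.ModP Λ X) 0
  have h1 : _root_.ProEtDC.IsDCSheaf Λ I F ↔ _root_.ProEtDC.IsDC Λ I (S.obj F) := by
    refine forall_congr' fun U => forall_congr' fun f => forall_congr' fun hf => ⟨fun h n => ?_,
      fun h n => ?_⟩
    · obtain hn | hn := lt_or_ge n 0
      · refine ⟨fun a b => ?_⟩
        suffices key : ∀ a : S.obj (_root_.ProEtDC.locExt Λ U f) ⟶ (S.obj F)⟦n⟧, a = 0 from
          (key a).trans (key b).symm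
        intro a
        haveI := DerivedCategory.TStructure.t.isGE_shift (S.obj F) 0 n (-n) (by omega)
        exact DerivedCategory.TStructure.t.zero a 0 (-n) (by omega)
      · obtain ⟨m, rfl⟩ := Int.eq_ofNat_of_zero_le hn
        haveI := h m
        exact (Abelian.Ext.homEquiv (C := EtModW.ModP Λ X)).symm.subsingleton
    · haveI := h (n : ℤ)
      exact (Abelian.Ext.homEquiv (C := EtModW.ModP Λ X)).subsingleton
  rw [h1, isDC_iff]
  refine forall_congr' fun f => forall_congr' fun hf => forall_congr' fun W => ⟨fun h => ?_, fun h n => ?_⟩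
  · exact (goodM_congr f ((Γ Λ W.1).mapIso
      ((DerivedCategory.singleFunctorCompHomologyFunctorIso (EtModW.ModP Λ X) 0).app F))).1 (h 0)
  · by_cases hn : n = 0
    · subst hn
      exact (goodM_congr f ((Γ Λ W.1).mapIso
        ((DerivedCategory.singleFunctorCompHomologyFunctorIso (EtModW.ModP Λ X) 0).app F))).2 h
    · have hz : IsZero (_root_.ProEtDC.HDP (S.obj F) n) := by
        obtain hlt | hgt := lt_or_gt_of_ne hn
        · exact DerivedCategory.isZero_of_isGE (S.obj F) 0 n hlt
        · exact DerivedCategory.isZero_of_isLE (S.obj F) 0 n hgt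
      haveI : Subsingleton ((_root_.ProEtDC.HDP (S.obj F) n).obj.obj (op W.1)) :=
        ModuleCat.subsingleton_of_isZero ((Γ Λ W.1).map_isZero hz)
      exact goodM_subsingleton f _

end Good

end Groth.Agent.Lib.ProEtDC.Crit
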