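import Groth.Agent.Lib.ProEtDC.RecollementMod
import Groth.Agent.Lib.EtJ.Basic
import Groth.Agent.Lib.ProEt.Continuity
import Mathlib.CategoryTheory.Sites.LocallyBijective
import Mathlib.CategoryTheory.Adjunction.FullyFaithful

/-!
The essential image of the pullback from the etale site: functoriality and locality.
-/

set_option autoImplicit false
set_option linter.style.haveILetI false

universe u

open CategoryTheory CategoryTheory.Limits AlgebraicGeometry Opposite

noncomputable section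

namespace Groth.Agent.Lib.ProEtDC.EssLocal

set_option backward.isDefEq.respectTransparency.types false

open ProEt.EpsMod ClosedPushP ExtZeroP RecollementMod

attribute [local instance] ProEt.Continuity.epsCont ProEt.Continuity.pCont

local instance jpCont' {U X : Scheme.{u}} (j : U ⟶ X) [IsOpenImmersion j] : ProEtS.JPCont j :=
  JCont.jpCont j

variable (Λ : Type (u + 1)) [CommRing Λ]

/-- Membership in the essential image of the pullback from the etale site. -/
def Im {X : Scheme.{u}} (F : EtModW.ModP Λ X) : Prop := (EtModW.epsPullMod Λ X).essImage F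

variable {Λ} {X Y Z : Scheme.{u}}

lemma im_of_iso {F G : EtModW.ModP Λ X} (e : F ≅ G) (h : Im Λ F) : Im Λ G :=
  Functor.essImage.ofIso e h

lemma im_obj (E : EtModW.Mod Λ X) : Im Λ ((EtModW.epsPullMod Λ X).obj E) :=
  Functor.obj_mem_essImage _ _

/-- Inverse images preserve the essential image. -/
lemma im_pull (f : Y ⟶ X) {F : EtModW.ModP Λ X} (h : Im Λ F) : Im Λ ((pullBC Λ f).obj F) := by
  obtain ⟨E, ⟨e⟩⟩ := h
  exact ⟨(EtModW.pull Λ f).obj E, ⟨((EpsBC.pullIso f Λ).app E).symm ≪≫ (pullBC Λ f).mapIso e⟩⟩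

/-- Restrictions to open subschemes preserve the essential image. -/
lemma im_restr (j : Y ⟶ X) [IsOpenImmersion j] {F : EtModW.ModP Λ X} (h : Im Λ F) :
    Im Λ ((restrM j Λ).obj F) :=
  im_of_iso ((pullOpenIso j Λ).app F) (im_pull j h)

/-- Extensions by zero preserve the essential image. -/
lemma im_ext (j : Y ⟶ X) [IsOpenImmersion j] {F : EtModW.ModP Λ Y} (h : Im Λ F) :
    Im Λ ((extM j Λ).obj F) := by
  obtain ⟨E, ⟨e⟩⟩ := h
  haveI hje : Etale j := inferInstance
  haveI : (MorphismProperty.Over.map (P := EtCoh.etaleMP.{u}) ⊤ (f := j) hje).IsContinuous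
      Y.smallEtaleTopology X.smallEtaleTopology := EtJ.Basic.jCont j
  haveI : ((MorphismProperty.Over.map (P := EtCoh.etaleMP.{u}) ⊤ (f := j) hje).sheafPushforwardContinuous
      (ModuleCat.{u + 1} Λ) Y.smallEtaleTopology X.smallEtaleTopology).IsRightAdjoint :=
    inferInstanceAs (((EtShriek.compEtale j).sheafPushforwardContinuous
      (ModuleCat.{u + 1} Λ) Y.smallEtaleTopology X.smallEtaleTopology).IsRightAdjoint)
  exact ⟨_, ⟨((extIso j Λ).app E).symm ≪≫ (extM j Λ).mapIso e⟩⟩

/-- Direct images along quasi-compact quasi-separated morphisms preserve the essential image. -/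
lemma im_push (i : Y ⟶ X) [QuasiCompact i] [QuasiSeparated i] {F : EtModW.ModP Λ Y} (h : Im Λ F) :
    Im Λ ((pushM i Λ).obj F) := by
  obtain ⟨E, ⟨e⟩⟩ := h
  obtain ⟨e'⟩ := EpsImage.nonempty_push_iso i E
  exact ⟨_, ⟨e' ≪≫ (pushM i Λ).mapIso e⟩⟩

/-- Composite inverse images. -/
def pullCompIso (f : Z ⟶ Y) (g : Y ⟶ X) (h : Z ⟶ X) (w : h = f ≫ g) :
    pullBC Λ g ⋙ pullBC Λ f ≅ pullBC Λ h :=
  Adjunction.leftAdjointUniq
    (((ProEtS.bcP g).sheafAdjunctionContinuous (ModuleCat.{u + 1} Λ) (Scheme.ProEt.topology X)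
      (Scheme.ProEt.topology Y)).comp
      ((ProEtS.bcP f).sheafAdjunctionContinuous (ModuleCat.{u + 1} Λ) (Scheme.ProEt.topology Y)
        (Scheme.ProEt.topology Z)))
    (((ProEtS.bcP h).sheafAdjunctionContinuous (ModuleCat.{u + 1} Λ) (Scheme.ProEt.topology X)
        (Scheme.ProEt.topology Z)).ofNatIsoRight
      (Functor.sheafPushforwardContinuousComp' (F := ProEtS.bcP g) (G := ProEtS.bcP f) (FG := ProEtS.bcP h)
        (MorphismProperty.Over.pullbackComp (P := @WeaklyEtale) (Q := ⊤) f g h w).symm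
        (ModuleCat.{u + 1} Λ) (Scheme.ProEt.topology X) (Scheme.ProEt.topology Y)
        (Scheme.ProEt.topology Z)).symm)

/-- A morphism of abelian sheaves that is invertible on an open cover is invertible. -/
theorem isIso_of_restr {ι : Type*} (O : ι → X.Opens) (hO : ⨆ i, O i = ⊤) {F G : ProEtS.AbP X} (φ : F ⟶ G)
    (h : ∀ i, IsIso ((ProEtS.restrP (O i).ι).map φ)) : IsIso φ := by
  have key : ∀ V : X.ProEt, ∃ (E : ι → X.ProEt) (e : ∀ i, E i ⟶ V),
      Sieve.ofArrows E e ∈ Scheme.ProEt.topology X V ∧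
        ∀ i, Function.Bijective (φ.hom.app (op (E i))) := by
    intro V
    let l : ∀ i, ((V.hom ⁻¹ᵁ O i : V.left.Opens) : Scheme.{u}) ⟶ O i := fun i => V.hom ∣_ O i
    have hl : ∀ i, l i ≫ (O i).ι = (V.hom ⁻¹ᵁ O i).ι ≫ V.hom := fun i => morphismRestrict_ι V.hom (O i)
    haveI : WeaklyEtale V.hom := V.prop
    haveI : ∀ i, WeaklyEtale (l i) := fun i => by
      haveI : WeaklyEtale (l i ≫ (O i).ι) := by rw [hl]; infer_instance
      exact WeaklyEtale.of_comp (l i) (O i).ι
    let E : ∀ i, (O i : Scheme.{u}).ProEt := fun i => Scheme.ProEt.mk (l i)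
    let e : ∀ i, (ProEtS.compP (O i).ι).obj (E i) ⟶ V := fun i =>
      MorphismProperty.Over.homMk (V.hom ⁻¹ᵁ O i).ι (hl i).symm
    refine ⟨_, e, ProEt.Continuity.ofArrows_mem_of_isOpenMap e
      (fun i => (V.hom ⁻¹ᵁ O i).ι.isOpenEmbedding.isOpenMap) (Set.eq_univ_of_forall fun v => ?_), fun i => ?_⟩
    · obtain ⟨i, hi⟩ := TopologicalSpace.Opens.mem_iSup.mp (hO.ge (TopologicalSpace.Opens.mem_top (V.hom.base v)))
      exact Set.mem_iUnion.mpr ⟨i, ⟨v, hi⟩, rfl⟩
    · haveI := h i
      exact ConcreteCategory.bijective_of_isIso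
        ((ProEt.OpenJ.ev (E i)).map ((ProEtS.restrP (O i).ι).map φ))
  haveI : Mono φ := by
    haveI : Sheaf.IsLocallyInjective φ := ⟨fun {V} x y hxy => by
      obtain ⟨E, e, hcov, hbij⟩ := key V.unop
      refine GrothendieckTopology.superset_covering _ ?_ hcov
      rw [Sieve.ofArrows, Sieve.generate_le_iff]
      rintro _ _ ⟨i⟩
      refine (hbij i).1 ?_
      have n1 := ConcreteCategory.congr_hom (φ.hom.naturality (e i).op) x
      have n2 := ConcreteCategory.congr_hom (φ.hom.naturality (e i).op) y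
      exact n1.trans ((congrArg (G.obj.map (e i).op) hxy).trans n2.symm)⟩
    exact Sheaf.mono_of_isLocallyInjective φ
  haveI : Epi φ := (Sheaf.isLocallySurjective_iff_epi' (φ := φ)).mp ⟨fun {V} s => by
    obtain ⟨E, e, hcov, hbij⟩ := key V
    refine GrothendieckTopology.superset_covering _ ?_ hcov
    rw [Sieve.ofArrows, Sieve.generate_le_iff]
    rintro _ _ ⟨i⟩
    obtain ⟨t, ht⟩ := (hbij i).2 (G.obj.map (e i).op s)
    exact ⟨t, ht⟩⟩
  exact isIso_of_mono_of_epi φ

/-- The essential image is local for open covers. -/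
theorem im_of_openCover {ι : Type*} (O : ι → X.Opens) (hO : ⨆ i, O i = ⊤) (F : EtModW.ModP Λ X)
    (h : ∀ i, Im Λ ((restrM (O i).ι Λ).obj F)) : Im Λ F := by
  let L := EtModW.epsPullMod Λ X
  let c := (adjM Λ (X := X)).counit.app F
  suffices IsIso c from ⟨_, ⟨@asIso _ _ _ _ c this⟩⟩
  haveI : IsIso ((uP Λ).map c) := by
    refine isIso_of_restr O hO _ fun i => ?_
    let j := (O i).ι
    haveI hje : Etale j := inferInstance
    haveI hjc : (MorphismProperty.Over.map (P := EtCoh.etaleMP.{u}) ⊤ (f := j) hje).IsContinuous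
        (O i : Scheme.{u}).smallEtaleTopology X.smallEtaleTopology := EtJ.Basic.jCont j
    haveI hc' : (ProEtS.eps (O i : Scheme.{u}) ⋙ ProEtS.compP j).IsContinuous
        (O i : Scheme.{u}).smallEtaleTopology (Scheme.ProEt.topology X) :=
      Functor.isContinuous_comp (ProEtS.eps (O i : Scheme.{u})) (ProEtS.compP j)
        (O i : Scheme.{u}).smallEtaleTopology (Scheme.ProEt.topology (O i : Scheme.{u})) (Scheme.ProEt.topology X)
    haveI := isIso_unit Λ (X := X)
    haveI := isIso_unit Λ (X := (O i : Scheme.{u}))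
    haveI : (EtModW.epsPullMod Λ (O i : Scheme.{u})).Full := (adjM Λ).fullyFaithfulLOfIsIsoUnit.full
    haveI : (EtModW.epsPullMod Λ (O i : Scheme.{u})).Faithful := (adjM Λ).fullyFaithfulLOfIsIsoUnit.faithful
    let R := (ProEtS.eps (O i : Scheme.{u})).sheafPushforwardContinuous (ModuleCat.{u + 1} Λ)
      (O i : Scheme.{u}).smallEtaleTopology (Scheme.ProEt.topology (O i : Scheme.{u}))
    haveI h1 : IsIso (((ProEtS.eps X).sheafPushforwardContinuous (ModuleCat.{u + 1} Λ) X.smallEtaleTopology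
        (Scheme.ProEt.topology X)).map c) :=
      IsIso.of_isIso_fac_left ((adjM Λ (X := X)).right_triangle_components F)
    let σ : restrM j Λ ⋙ R ≅ (ProEtS.eps X).sheafPushforwardContinuous (ModuleCat.{u + 1} Λ)
        X.smallEtaleTopology (Scheme.ProEt.topology X) ⋙
        (MorphismProperty.Over.map (P := EtCoh.etaleMP.{u}) ⊤ (f := j) hje).sheafPushforwardContinuous
          (ModuleCat.{u + 1} Λ) (O i : Scheme.{u}).smallEtaleTopology X.smallEtaleTopology :=
      (Functor.sheafPushforwardContinuousComp' (F := ProEtS.eps (O i : Scheme.{u})) (G := ProEtS.compP j)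
        (FG := ProEtS.eps (O i : Scheme.{u}) ⋙ ProEtS.compP j) (Iso.refl _) (ModuleCat.{u + 1} Λ)
        (O i : Scheme.{u}).smallEtaleTopology (Scheme.ProEt.topology (O i : Scheme.{u}))
        (Scheme.ProEt.topology X)) ≪≫
      (@Functor.sheafPushforwardContinuousComp' (O i : Scheme.{u}).Etale _ X.Etale _ X.ProEt _
        (MorphismProperty.Over.map (P := EtCoh.etaleMP.{u}) ⊤ (f := j) hje) (ProEtS.eps X)
        (ProEtS.eps (O i : Scheme.{u}) ⋙ ProEtS.compP j) (siteIso j) (ModuleCat.{u + 1} Λ) _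
        (O i : Scheme.{u}).smallEtaleTopology X.smallEtaleTopology (Scheme.ProEt.topology X) hjc
        (ProEt.Continuity.epsCont X) hc').symm
    haveI h2 : IsIso (R.map ((restrM j Λ).map c)) :=
      (NatIso.isIso_map_iff σ c).2 (@Functor.map_isIso _ _ _ _ _ _
        ((MorphismProperty.Over.map (P := EtCoh.etaleMP.{u}) ⊤ (f := j) hje).sheafPushforwardContinuous
          (ModuleCat.{u + 1} Λ) (O i : Scheme.{u}).smallEtaleTopology X.smallEtaleTopology) _ h1)
    have hA := ((adjM Λ).isIso_counit_app_iff_mem_essImage).2 (im_restr j (im_obj (Λ := Λ) (((ProEtS.eps X).sheafPushforwardContinuous (ModuleCat.{u + 1} Λ)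
      X.smallEtaleTopology (Scheme.ProEt.topology X)).obj F)))
    haveI hB := ((adjM Λ).isIso_counit_app_iff_mem_essImage).2 (h i)
    haveI : IsIso ((restrM j Λ).map c) := by
      have hn := (adjM Λ (X := (O i : Scheme.{u}))).counit.naturality ((restrM j Λ).map c)
      have h3 : IsIso ((R ⋙ EtModW.epsPullMod Λ (O i : Scheme.{u})).map ((restrM j Λ).map c)) :=
        @Functor.map_isIso _ _ _ _ _ _ (EtModW.epsPullMod Λ (O i : Scheme.{u})) _ h2
      exact @IsIso.of_isIso_fac_left _ _ _ _ _ _ _ _ hA (@IsIso.comp_isIso' _ _ _ _ _ _ _ h3 hB) hn.symm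
    exact (inferInstance : IsIso ((uP Λ).map ((restrM j Λ).map c)))
  exact isIso_of_reflects_iso c (uP Λ)

/-- On an empty scheme everything is in the essential image. -/
lemma im_of_isEmpty [IsEmpty X] (F : EtModW.ModP Λ X) : Im Λ F :=
  im_of_openCover (ι := PEmpty.{1}) PEmpty.elim (TopologicalSpace.Opens.ext (Subsingleton.elim _ _)) F
    fun i => i.elim

end Groth.Agent.Lib.ProEtDC.EssLocal
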