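import Groth.Agent.Lib.ProEtDC.EssLocal
import Mathlib.AlgebraicGeometry.IdealSheaf.Functorial
import Mathlib.Topology.Constructible

/-!
The essential image of the pullback from the etale site is detected on finite constructible stratifications.
-/

set_option autoImplicit false
set_option linter.style.haveILetI false

universe u

open CategoryTheory CategoryTheory.Limits AlgebraicGeometry Opposite

noncomputable section

namespace Groth.Agent.Lib.ProEtDC.EssStrata

set_option backward.isDefEq.respectTransparency.types false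

open ProEt.EpsMod ClosedPushP ExtZeroP RecollementMod EssLocal

attribute [local instance] ProEt.Continuity.epsCont ProEt.Continuity.pCont

local instance jpCont' {U X : Scheme.{u}} (j : U ⟶ X) [IsOpenImmersion j] : ProEtS.JPCont j :=
  JCont.jpCont j

variable {Λ : Type (u + 1)} [CommRing Λ]

/-- A family of immersions over which a sheaf comes from the etale sites. -/
def Data {ι : Type} {X : Scheme.{u}} (F : EtModW.ModP Λ X) (T : ι → Scheme.{u}) (g : ∀ i, T i ⟶ X) : Prop :=
  (∀ i, IsImmersion (g i)) ∧ (∀ x, ∃ i, x ∈ Set.range (g i).base) ∧ ∀ i, Im Λ ((pullBC Λ (g i)).obj F)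

/-- Pulling back along any morphism into the union of the strata. -/
lemma data_pullback {ι : Type} {X Y : Scheme.{u}} {F : EtModW.ModP Λ X} {T : ι → Scheme.{u}}
    {g : ∀ i, T i ⟶ X} (h₁ : ∀ i, IsImmersion (g i)) (h₃ : ∀ i, Im Λ ((pullBC Λ (g i)).obj F)) (f : Y ⟶ X)
    (h₂ : ∀ y, ∃ i, f.base y ∈ Set.range (g i).base) :
    Data ((pullBC Λ f).obj F) (fun i => pullback f (g i)) (fun i => pullback.fst f (g i)) ∧
      ∀ i, Set.range (pullback.fst f (g i)).base = f.base ⁻¹' Set.range (g i).base := by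
  have hr : ∀ i, Set.range (pullback.fst f (g i)).base = f.base ⁻¹' Set.range (g i).base :=
    fun i => Scheme.Pullback.range_fst f (g i)
  haveI := h₁
  refine ⟨⟨fun i => inferInstance, fun y => ?_, fun i => ?_⟩, hr⟩
  · obtain ⟨i, hi⟩ := h₂ y
    exact ⟨i, (hr i).ge hi⟩
  · refine im_of_iso ?_ (im_pull (pullback.snd f (g i)) (h₃ i))
    exact (pullCompIso (Λ := Λ) (pullback.snd f (g i)) (g i) _ pullback.condition).app F ≪≫
      ((pullCompIso (Λ := Λ) (pullback.fst f (g i)) f (pullback.fst f (g i) ≫ f) rfl).app F).symm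

lemma quasiCompact_ι {X : Scheme.{u}} [QuasiSeparatedSpace X] (O : X.Opens) (hO : IsCompact (O : Set X)) :
    QuasiCompact O.ι :=
  quasiCompact_iff_isSpectralMap.mpr (IsRetrocompact_iff_isSpectralMap_subtypeVal.mp fun K hK hKo =>
    QuasiSeparatedSpace.inter_isCompact (O : Set X) K O.2 hO hKo hK)

/-- A sheaf in the essential image on a quasi-compact open and on its closed complement is in the essential
image. -/
theorem im_of_open_closed {X Z : Scheme.{u}} (O : X.Opens) [QuasiCompact O.ι] (i : Z ⟶ X)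
    [IsClosedImmersion i] (hc : (O : Set X) = (Set.range i.base)ᶜ) (F : EtModW.ModP Λ X)
    (h₁ : Im Λ ((pullBC Λ O.ι).obj F)) (h₃ : Im Λ ((pullBC Λ i).obj F)) : Im Λ F := by
  obtain ⟨S, hS, e₁, e₂, e₃⟩ := exists_shortExact i O.ι Λ (O.range_ι.trans hc) F
  have hA : Im Λ S.X₁ := by
    rw [e₁]
    exact im_ext O.ι (im_of_iso ((pullOpenIso O.ι Λ).app F) h₁)
  have hC : Im Λ S.X₃ := by
    rw [e₃]
    exact im_push i h₃
  have h := (essImage_weakSerre Λ).2 S hS hA hC
  rw [e₂] at h
  exact h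

/-- Induction on the number of quasi-compact opens cutting out the strata. -/
theorem im_of_strata (n : ℕ) : ∀ {X : Scheme.{u}} [CompactSpace X] [QuasiSeparatedSpace X]
    (O : Fin n → X.Opens), (∀ k, IsCompact (O k : Set X)) → ∀ (F : EtModW.ModP Λ X) {ι : Type}
    (T : ι → Scheme.{u}) (g : ∀ i, T i ⟶ X), Data F T g →
    (∀ i x y, (∀ k, x ∈ O k ↔ y ∈ O k) → x ∈ Set.range (g i).base → y ∈ Set.range (g i).base) →
    Im Λ F := by
  induction n with
  | zero =>
    intro X _ _ O _ F ι T g hd hinv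
    obtain ⟨h₁, h₂, h₃⟩ := hd
    rcases isEmpty_or_nonempty X with hX | ⟨⟨x⟩⟩
    · exact im_of_isEmpty F
    obtain ⟨i, hi⟩ := h₂ x
    have hu : Set.range (g i).base = Set.univ :=
      Set.eq_univ_of_forall fun y => hinv i x y (fun k => k.elim0) hi
    haveI := h₁ i
    haveI : IsClosedImmersion (g i) :=
      IsClosedImmersion.of_isPreimmersion (g i) (hu ▸ isClosed_univ)
    haveI : QuasiCompact (⊥ : X.Opens).ι := quasiCompact_ι ⊥ (by simp)
    haveI : IsEmpty ↥((⊥ : X.Opens) : Scheme.{u}) := ⟨fun z => z.2⟩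
    refine im_of_open_closed ⊥ (g i) ?_ F (im_of_isEmpty _) (h₃ i)
    rw [hu, Set.compl_univ, TopologicalSpace.Opens.coe_bot]
  | succ n ih =>
    intro X _ _ O hO F ι T g hd hinv
    obtain ⟨h₁, h₂, h₃⟩ := hd
    haveI : QuasiCompact (O 0).ι := quasiCompact_ι (O 0) (hO 0)
    let C : TopologicalSpace.Closeds X := (O 0).compl
    let i := (Scheme.IdealSheafData.vanishingIdeal C).subschemeι
    have hi : Set.range i.base = ((O 0 : Set X))ᶜ := by
      change Set.range (Scheme.IdealSheafData.vanishingIdeal C).subschemeι = _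
      rw [Scheme.IdealSheafData.range_subschemeι, Scheme.IdealSheafData.coe_support_vanishingIdeal]
      rfl
    have key : ∀ {Y : Scheme.{u}} [CompactSpace Y] [QuasiSeparatedSpace Y] (f : Y ⟶ X) [QuasiCompact f],
        (∀ x y : Y, f.base x ∈ O 0 ↔ f.base y ∈ O 0) → Im Λ ((pullBC Λ f).obj F) := by
      intro Y _ _ f _ hf
      obtain ⟨hd', hr⟩ := data_pullback h₁ h₃ f fun y => h₂ _
      refine ih (fun k => f ⁻¹ᵁ O k.succ)
        (fun k => f.isCompact_preimage (hO k.succ)) _ _ _ hd' fun a x y hxy hx => ?_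
      rw [hr] at hx ⊢
      exact hinv a _ _ (Fin.forall_fin_succ.2 ⟨hf x y, hxy⟩) hx
    haveI : CompactSpace ↥((O 0 : X.Opens) : Scheme.{u}) := isCompact_iff_compactSpace.mp (hO 0)
    haveI : QuasiSeparatedSpace ↥((O 0 : X.Opens) : Scheme.{u}) := quasiSeparatedSpace_of_quasiSeparated (O 0).ι
    haveI : CompactSpace ↥(Scheme.IdealSheafData.vanishingIdeal C).subscheme :=
      QuasiCompact.compactSpace_of_compactSpace i
    haveI : QuasiSeparatedSpace ↥(Scheme.IdealSheafData.vanishingIdeal C).subscheme :=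
      quasiSeparatedSpace_of_quasiSeparated i
    refine im_of_open_closed (O 0) i ?_ F (key (O 0).ι fun x y => iff_of_true x.2 y.2)
      (key i fun x y => iff_of_false (hi.le ⟨x, rfl⟩) (hi.le ⟨y, rfl⟩))
    rw [hi, compl_compl]

/-- Constructible sets of a quasi-compact space are cut out by finitely many quasi-compact opens. -/
lemma exists_opens {X : Scheme.{u}} [CompactSpace X] {s : Set X} (hs : Topology.IsConstructible s) :
    ∃ S : Finset X.Opens, (∀ O ∈ S, IsCompact (O : Set X)) ∧
      ∀ x y, (∀ O ∈ S, x ∈ O ↔ y ∈ O) → x ∈ s → y ∈ s := by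
  classical
  induction hs using Topology.IsConstructible.empty_union_induction with
  | open_retrocompact U hUo hUr =>
    refine ⟨{⟨U, hUo⟩}, fun O hO => ?_, fun x y h => ?_⟩
    · rw [Finset.mem_singleton] at hO
      rw [hO]
      exact hUr.isCompact
    · exact (h _ (Finset.mem_singleton_self _)).1
  | union s hs t ht h h' =>
    obtain ⟨S, hS, hS'⟩ := h
    obtain ⟨R, hR, hR'⟩ := h'
    refine ⟨S ∪ R, fun O hO => (Finset.mem_union.mp hO).elim (hS O) (hR O), fun x y hxy => ?_⟩
    exact Or.imp (hS' x y fun O hO => hxy O (Finset.mem_union_left _ hO))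
      (hR' x y fun O hO => hxy O (Finset.mem_union_right _ hO))
  | compl s hs h =>
    obtain ⟨S, hS, hS'⟩ := h
    exact ⟨S, hS, fun x y hxy hx hy => hx (hS' y x (fun O hO => (hxy O hO).symm) hy)⟩

/-- Affine-local constructible stratifications with strata in the essential image. -/
theorem im_of_affineStrata {X : Scheme.{u}} (F : EtModW.ModP Λ X)
    (h : ∀ U : X.Opens, IsAffineOpen U → ∃ (m : ℕ) (T : Fin m → Scheme.{u}) (g : ∀ i, T i ⟶ X),
      (∀ i, IsImmersion (g i)) ∧
      (∀ i, Topology.IsConstructible ((Subtype.val : ↥(U : Set X) → X) ⁻¹' Set.range (fun t => (g i).base t))) ∧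
      (⋃ i, Set.range (fun t => (g i).base t)) = (U : Set X) ∧
      ∀ i, Im Λ ((pullBC Λ (g i)).obj F)) : Im Λ F := by
  classical
  refine im_of_openCover (fun U : X.affineOpens => U.1) (iSup_affineOpens_eq_top X) F fun U => ?_
  obtain ⟨m, T, g, h1, h2, h4, h5⟩ := h U.1 U.2
  haveI : IsAffine (U.1 : Scheme.{u}) := U.2
  refine im_of_iso ((pullOpenIso U.1.ι Λ).app F) ?_
  obtain ⟨hd, hr⟩ := data_pullback h1 h5 U.1.ι fun y => Set.mem_iUnion.mp (h4.ge y.2)
  choose S hS hS' using fun i => exists_opens (X := (U.1 : Scheme.{u})) (h2 i)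
  let R := Finset.univ.biUnion S
  have hR : ∀ O ∈ R, IsCompact (O : Set ↥(U.1 : Scheme.{u})) := fun O hO => by
    obtain ⟨i, -, hi⟩ := Finset.mem_biUnion.mp hO
    exact hS i O hi
  refine im_of_strata R.card (fun k => (R.equivFin.symm k).1) (fun k => hR _ (R.equivFin.symm k).2)
    _ _ _ hd fun i x y hxy hx => ?_
  rw [hr] at hx ⊢
  refine hS' i x y (fun O hO => ?_) hx
  have := hxy (R.equivFin ⟨O, Finset.mem_biUnion.mpr ⟨i, Finset.mem_univ i, hO⟩⟩)
  simpa using this

end Groth.Agent.Lib.ProEtDC.EssStrata
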