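import Groth.Agent.Lib.ProEtDC.ModForget
import Groth.Agent.Lib.ProEtDC.AdicP
import Groth.Agent.Lib.ProEt.OpenJ

/-!
Extension by zero of pro-etale sheaves of modules along a quasi-compact open immersion.
-/

set_option autoImplicit false
set_option linter.style.haveILetI false

universe u

open CategoryTheory CategoryTheory.Limits AlgebraicGeometry Opposite

noncomputable section

namespace Groth.Agent.Lib.ProEtDC.ExtZeroP

set_option backward.isDefEq.respectTransparency.types false

open ProEt.EpsMod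

variable {U X : Scheme.{u}} (j : U ⟶ X) [WeaklyEtale j] [ProEtS.JPCont j] (Λ : Type (u + 1)) [CommRing Λ]

/-- The extension by zero of modules. -/
abbrev extM : EtModW.ModP Λ U ⥤ EtModW.ModP Λ X :=
  (ProEtS.compP j).sheafPullback (ModuleCat.{u + 1} Λ) (Scheme.ProEt.topology U) (Scheme.ProEt.topology X)

/-- The extension by zero is left adjoint to restriction. -/
abbrev adj : extM j Λ ⊣ (ProEtS.compP j).sheafPushforwardContinuous (ModuleCat.{u + 1} Λ)
    (Scheme.ProEt.topology U) (Scheme.ProEt.topology X) :=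
  (ProEtS.compP j).sheafAdjunctionContinuous (ModuleCat.{u + 1} Λ) (Scheme.ProEt.topology U)
    (Scheme.ProEt.topology X)

instance linear_restr : ((ProEtS.compP j).sheafPushforwardContinuous (ModuleCat.{u + 1} Λ)
    (Scheme.ProEt.topology U) (Scheme.ProEt.topology X)).Linear Λ where
  map_smul := fun _ _ => rfl

instance additive_restr : ((ProEtS.compP j).sheafPushforwardContinuous (ModuleCat.{u + 1} Λ)
    (Scheme.ProEt.topology U) (Scheme.ProEt.topology X)).Additive where
  map_add := rfl

/-- Quotients modulo ideals are preserved. -/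
theorem isQuot_map {J : Ideal Λ} {F Q : EtModW.ModP Λ U} {p : F ⟶ Q} (hp : ARSys.IsQuot J p) :
    ARSys.IsQuot J ((extM j Λ).map p) :=
  haveI : (extM j Λ).Additive := (adj j Λ).left_adjoint_additive
  QuotAdj.isQuot_map (adj j Λ) hp

/-- Sequential limits are preserved. -/
theorem preservesLimitsOfShape [IsOpenImmersion j] [QuasiCompact j] :
    PreservesLimitsOfShape ℕᵒᵖ (extM j Λ) := by
  haveI := ProEt.OpenJ.preservesLimitsOfShape j (AsSmall.{u} ℕᵒᵖ)
  haveI : PreservesLimitsOfShape ℕᵒᵖ (ProEtS.extZeroP j) :=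
    preservesLimitsOfShape_of_equiv (AsSmall.equiv (C := ℕᵒᵖ)).symm _
  haveI : HasLimitsOfShape ℕᵒᵖ AddCommGrpCat.{u + 1} := inferInstance
  haveI : PreservesLimitsOfShape ℕᵒᵖ (uP Λ (X := U)) :=
    haveI : PreservesLimitsOfShape ℕᵒᵖ (uP Λ (X := U) ⋙ sheafToPresheaf _ _) :=
      inferInstanceAs (PreservesLimitsOfShape ℕᵒᵖ (sheafToPresheaf (Scheme.ProEt.topology U) _ ⋙
        (Functor.whiskeringRight _ _ _).obj (ProEt.EpsMod.U Λ)))
    preservesLimitsOfShape_of_reflects_of_preserves _ (sheafToPresheaf (Scheme.ProEt.topology U) _)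
  haveI : PreservesLimitsOfShape ℕᵒᵖ (extM j Λ ⋙ uP Λ) :=
    preservesLimitsOfShape_of_natIso
      (ModForget.pullForget Λ (ProEtS.compP j) (Scheme.ProEt.topology U) (Scheme.ProEt.topology X)).symm
  haveI : PreservesLimitsOfShape ℕᵒᵖ (uP Λ (X := X)) :=
    haveI : PreservesLimitsOfShape ℕᵒᵖ (uP Λ (X := X) ⋙ sheafToPresheaf _ _) :=
      inferInstanceAs (PreservesLimitsOfShape ℕᵒᵖ (sheafToPresheaf (Scheme.ProEt.topology X) _ ⋙
        (Functor.whiskeringRight _ _ _).obj (ProEt.EpsMod.U Λ)))
    preservesLimitsOfShape_of_reflects_of_preserves _ (sheafToPresheaf (Scheme.ProEt.topology X) _)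
  haveI : ReflectsLimitsOfShape ℕᵒᵖ (uP Λ (X := X)) := reflectsLimitsOfShape_of_reflectsIsomorphisms
  exact preservesLimitsOfShape_of_reflects_of_preserves (extM j Λ) (uP Λ)

/-- Composition with `j` commutes with the inclusions of the etale sites. -/
def siteIso [hje : Etale j] :
    MorphismProperty.Over.map (P := EtCoh.etaleMP.{u}) ⊤ (f := j) hje ⋙ ProEtS.eps X ≅
      ProEtS.eps U ⋙ ProEtS.compP j :=
  NatIso.ofComponents (fun V => MorphismProperty.Over.isoMk (Iso.refl _) (Category.id_comp _))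
    (fun {V W} g => MorphismProperty.Over.Hom.ext
      ((Category.comp_id _).trans (Category.id_comp _).symm))

/-- The extension by zero commutes with the pullback from the etale site. -/
def extIso [hje : Etale j] [ProEtS.EpsCont U] [ProEtS.EpsCont X]
    [hjc : (MorphismProperty.Over.map (P := EtCoh.etaleMP.{u}) ⊤ (f := j) hje).IsContinuous
      U.smallEtaleTopology X.smallEtaleTopology]
    [((MorphismProperty.Over.map (P := EtCoh.etaleMP.{u}) ⊤ (f := j) hje).sheafPushforwardContinuous
      (ModuleCat.{u + 1} Λ) U.smallEtaleTopology X.smallEtaleTopology).IsRightAdjoint] :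
    EtModW.epsPullMod Λ U ⋙ extM j Λ ≅
      (MorphismProperty.Over.map (P := EtCoh.etaleMP.{u}) ⊤ (f := j) hje).sheafPullback
        (ModuleCat.{u + 1} Λ) U.smallEtaleTopology X.smallEtaleTopology ⋙ EtModW.epsPullMod Λ X :=
  haveI : (ProEtS.eps X).IsContinuous X.smallEtaleTopology (Scheme.ProEt.topology X) := ‹ProEtS.EpsCont X›
  haveI : (ProEtS.eps U).IsContinuous U.smallEtaleTopology (Scheme.ProEt.topology U) := ‹ProEtS.EpsCont U›
  haveI hc' : (ProEtS.eps U ⋙ ProEtS.compP j).IsContinuous U.smallEtaleTopology (Scheme.ProEt.topology X) :=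
    Functor.isContinuous_comp (ProEtS.eps U) (ProEtS.compP j) U.smallEtaleTopology
      (Scheme.ProEt.topology U) (Scheme.ProEt.topology X)
  Adjunction.leftAdjointUniq
    ((adjM Λ (X := U)).comp (adj j Λ))
    ((((MorphismProperty.Over.map (P := EtCoh.etaleMP.{u}) ⊤ (f := j) hje).sheafAdjunctionContinuous
        (ModuleCat.{u + 1} Λ) U.smallEtaleTopology X.smallEtaleTopology).comp
      (adjM Λ (X := X))).ofNatIsoRight
      ((@Functor.sheafPushforwardContinuousComp' U.Etale _ X.Etale _ X.ProEt _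
        (MorphismProperty.Over.map (P := EtCoh.etaleMP.{u}) ⊤ (f := j) hje) (ProEtS.eps X)
        (ProEtS.eps U ⋙ ProEtS.compP j) (siteIso j) (ModuleCat.{u + 1} Λ) _ U.smallEtaleTopology
        X.smallEtaleTopology (Scheme.ProEt.topology X) hjc ‹ProEtS.EpsCont X› hc') ≪≫
      (Functor.sheafPushforwardContinuousComp' (F := ProEtS.eps U) (G := ProEtS.compP j)
        (FG := ProEtS.eps U ⋙ ProEtS.compP j) (Iso.refl _) (ModuleCat.{u + 1} Λ) U.smallEtaleTopology
        (Scheme.ProEt.topology U) (Scheme.ProEt.topology X)).symm))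

end Groth.Agent.Lib.ProEtDC.ExtZeroP
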