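import Groth.Agent.Lib.ProEtDC.Adjoin
import Groth.Agent.Lib.ProEt.Decomp
import Groth.Prelude.Def_EtModW

/-!
Derived complete sheaves with finitely generated reduction are quotients of powers of the completed
constant sheaf.
-/

set_option autoImplicit false
set_option linter.style.haveILetI false

universe u

open CategoryTheory CategoryTheory.Limits AlgebraicGeometry Opposite

noncomputable section

namespace Groth.Agent.Lib.ProEtDC.Generated

set_option backward.isDefEq.respectTransparency.types false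

open Sections Crit ConstSect LimSect

variable {Λ : Type (u + 1)} [CommRing Λ] {X : Scheme.{u}}

/-- Derived completeness is invariant under isomorphisms. -/
theorem isDCSheaf_of_iso {I : Ideal Λ} {F F' : EtModW.ModP Λ X} (e : F ≅ F')
    (hF : _root_.ProEtDC.IsDCSheaf Λ I F) : _root_.ProEtDC.IsDCSheaf Λ I F' := by
  rw [isDCSheaf_iff] at hF ⊢
  exact fun f hf W => (goodM_congr f ((Γ Λ W.1).mapIso e)).1 (hF f hf W)

/-- Finite sums of derived complete sheaves are derived complete. -/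
theorem isDCSheaf_biproduct {I : Ideal Λ} {t : ℕ} (F : Fin t → EtModW.ModP Λ X)
    (hF : ∀ i, _root_.ProEtDC.IsDCSheaf Λ I (F i)) : _root_.ProEtDC.IsDCSheaf Λ I (⨁ F) :=
  isDCSheaf_of_iso (biproduct.isoProduct F).symm
    (Thms.limit_tower I (Discrete.functor F) fun i => hF i.as)

section Lift

variable [IsNoetherianRing Λ]

/-- Morphisms from the constant sheaf extend to the completion. -/
theorem exists_lift {I : Ideal Λ} {F : EtModW.ModP Λ X} (hF : _root_.ProEtDC.IsDCSheaf Λ I F)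
    (x : Completion.unitSheaf Λ X ⟶ F) : ∃ ψ : Completion.G (X := X) I ⟶ F, Completion.o I ≫ ψ = x := by
  classical
  rw [isDCSheaf_iff] at hF
  obtain ⟨s, hs⟩ := (IsNoetherian.noetherian I : I.FG)
  suffices key : ∀ s : Finset Λ, (∀ b ∈ s, b ∈ I) → ∀ J : Ideal Λ, J = Ideal.span (s : Set Λ) →
      ∃ ψ : Completion.G (X := X) J ⟶ F, Completion.o J ≫ ψ = x from
    key s (fun b hb => hs ▸ Submodule.subset_span hb) I hs.symm
  intro s
  induction s using Finset.induction with
  | empty =>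
    intro _ J hJ
    obtain rfl : J = ⊥ := by simpa using hJ
    obtain ⟨ρ, hρ⟩ := Completion.exists_retraction_bot (Λ := Λ) (X := X)
    exact ⟨ρ ≫ x, by rw [← Category.assoc, hρ, Category.id_comp]⟩
  | insert b s _ ih =>
    intro hsub J hJ
    obtain ⟨ψ, hψ⟩ := ih (fun c hc => hsub c (Finset.mem_insert_of_mem hc)) _ rfl
    rw [Finset.coe_insert, Ideal.span_insert] at hJ
    have h : Ideal.span (s : Set Λ) ≤ J := hJ.symm ▸ le_sup_right
    have hb : b ∈ J := hJ.symm ▸ Ideal.mem_sup_left (Ideal.mem_span_singleton_self b)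
    obtain ⟨ψ', hψ'⟩ := Adjoin.exists_extend h b hb (hJ.le.trans (le_of_eq (sup_comm _ _))) ψ
      fun W => hF b (hsub b (Finset.mem_insert_self b s)) W
    exact ⟨ψ', by rw [← Completion.o_incl h, Category.assoc, hψ', hψ]⟩

end Lift

/-- Constant sheaves with finitely generated value are locally spanned by finitely many sections. -/
theorem exists_gens {U : X.ProEt} (F : EtModW.ModP Λ X) (M : Type (u + 1)) [AddCommGroup M]
    [Module Λ M] [Module.Finite Λ M]
    (e : F.over U ≅ (constantSheaf ((Scheme.ProEt.topology X).over U) (ModuleCat.{u + 1} Λ)).obj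
      (ModuleCat.of Λ M)) :
    ∃ (n : ℕ) (γ : Fin n → F.obj.obj (op U)), ∀ {V : X.ProEt} (g : V ⟶ U) (σ : F.obj.obj (op V)),
      ∃ S ∈ Scheme.ProEt.topology X V, ∀ {V' : X.ProEt} (f : V' ⟶ V), S.arrows f →
        (F.obj.map f.op).hom σ ∈
          Submodule.span Λ (Set.range fun l => (F.obj.map (f ≫ g).op).hom (γ l)) := by
  obtain ⟨n, b, hb⟩ := Module.Finite.exists_fin (R := Λ) (M := M)
  let P : (Over U)ᵒᵖ ⥤ ModuleCat.{u + 1} Λ := (Functor.const _).obj (ModuleCat.of Λ M)
  let η := toSheafify ((Scheme.ProEt.topology X).over U) P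
  let Ψ : ∀ Z : Over U, M →ₗ[Λ] F.obj.obj (op Z.left) := fun Z =>
    (η.app (op Z) ≫ e.inv.hom.app (op Z)).hom
  have hΨ : ∀ {Z Z' : Over U} (t : Z' ⟶ Z) (m : M),
      (F.obj.map t.left.op).hom (Ψ Z m) = Ψ Z' m := fun {Z Z'} t m => by
    have h1 := (η ≫ e.inv.hom).naturality t.op
    exact (congr(($h1).hom m)).symm
  refine ⟨n, fun l => Ψ (Over.mk (𝟙 U)) (b l), fun {V} g σ => ?_⟩
  haveI : Presheaf.IsLocallySurjective ((Scheme.ProEt.topology X).over U) η := inferInstance
  refine ⟨Sieve.overEquiv (Over.mk g) (Presheaf.imageSieve η (U := Over.mk g)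
      ((e.hom.hom.app (op (Over.mk g))).hom σ)),
    (GrothendieckTopology.mem_over_iff _ _).1
      (Presheaf.imageSieve_mem ((Scheme.ProEt.topology X).over U) η (U := op (Over.mk g)) _), fun {V'} f hf => ?_⟩
  rw [Sieve.overEquiv_iff] at hf
  obtain ⟨m, hm⟩ := hf
  let t : Over.mk (f ≫ g) ⟶ Over.mk g := Over.homMk f
  have h2 : Ψ (Over.mk (f ≫ g)) m = (F.obj.map f.op).hom σ := by
    have h3 := congr(($(e.hom.hom.naturality t.op)).hom σ)
    have h4 : (e.inv.hom.app (op (Over.mk (f ≫ g)))).hom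
        ((e.hom.hom.app (op (Over.mk (f ≫ g)))).hom ((F.obj.map f.op).hom σ)) =
          (F.obj.map f.op).hom σ := by
      have h5 := congrArg (fun k : F.over U ⟶ F.over U => k.hom.app (op (Over.mk (f ≫ g)))) e.hom_inv_id
      exact congr(($h5).hom ((F.obj.map f.op).hom σ))
    refine Eq.trans ?_ h4
    exact congrArg (e.inv.hom.app (op (Over.mk (f ≫ g)))).hom (hm.trans h3.symm)
  rw [← h2]
  obtain ⟨c, rfl⟩ := (Submodule.mem_span_range_iff_exists_fun Λ).1
    (hb.ge (Submodule.mem_top (x := m)))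
  rw [map_sum]
  refine Submodule.sum_mem _ fun l _ => ?_
  rw [map_smul]
  refine Submodule.smul_mem _ _ (Submodule.subset_span ⟨l, ?_⟩)
  exact hΨ (Over.homMk (U := Over.mk (f ≫ g)) (V := Over.mk (𝟙 U)) (f ≫ g)) (b l)

lemma smulHom_naturality {F G : EtModW.ModP Λ X} (p : F ⟶ G) (b : Λ) :
    _root_.ProEtDC.smulHom Λ F b ≫ p = p ≫ _root_.ProEtDC.smulHom Λ G b := by
  refine Sheaf.hom_ext (NatTrans.ext (funext fun U => ModuleCat.hom_ext (LinearMap.ext fun x => ?_)))
  exact map_smul (p.hom.app U).hom b x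

/-- A map into a derived complete sheaf which is onto modulo the ideal is an epimorphism. -/
theorem epi_of_epi_comp {r : ℕ} (a : Fin r → Λ) {P F : EtModW.ModP Λ X} (φ : P ⟶ F)
    (hP : _root_.ProEtDC.IsDCSheaf Λ (Ideal.span (Set.range a)) P)
    (hF : _root_.ProEtDC.IsDCSheaf Λ (Ideal.span (Set.range a)) F)
    (h : Epi (φ ≫ cokernel.π (_root_.ProEtDC.gensMap Λ a F))) : Epi φ := by
  have hz : IsZero (cokernel φ) := by
    refine Thms.isZero_of_gens a _ (Thms.kernel_cokernel _ φ hP hF).2 ?_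
    change Epi (_root_.ProEtDC.gensMap Λ a (cokernel φ))
    refine Preadditive.epi_of_cancel_zero _ fun {Z} h' hh => ?_
    have h1 : _root_.ProEtDC.gensMap Λ a F ≫ cokernel.π φ ≫ h' = 0 := by
      refine biproduct.hom_ext' _ _ fun k => ?_
      have hk := congrArg (fun m => biproduct.ι (fun _ : Fin r => cokernel φ) k ≫ m) hh
      simp only [biproduct.ι_desc_assoc, comp_zero] at hk
      rw [biproduct.ι_desc_assoc, comp_zero, ← Category.assoc, smulHom_naturality, Category.assoc, hk,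
        comp_zero]
    have h2 : cokernel.desc _ _ h1 = 0 := by
      refine (cancel_epi (φ ≫ cokernel.π (_root_.ProEtDC.gensMap Λ a F))).1 ?_
      rw [Category.assoc, cokernel.π_desc, cokernel.condition_assoc, zero_comp, comp_zero]
    refine (cancel_epi (cokernel.π φ)).1 ?_
    rw [← cokernel.π_desc (_root_.ProEtDC.gensMap Λ a F) _ h1, h2, comp_zero, comp_zero]
  exact Abelian.epi_of_cokernel_π_eq_zero φ (hz.eq_of_tgt _ _)

/-- The global object. -/
def topT : IsTerminal (ProEtS.topP X) := ProEt.EpsCoh.topIsTerminal X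

variable [IsAffine X]

/-- A locally constant sheaf of finite type on a weakly contractible affine scheme is locally spanned by
finitely many global sections. -/
theorem exists_global_gens (hX : EtPBC.IsWContractible ↥(Γ(X, ⊤))) (Q : EtModW.ModP Λ X)
    (hQ : EtModW.IsFPLocConstP Λ Q) :
    ∃ (t : ℕ) (s : Fin t → Q.obj.obj (op (ProEtS.topP X))), ∀ {T : EtModW.ModP Λ X} (D : Q ⟶ T),
      (∀ j, (D.hom.app (op (ProEtS.topP X))).hom (s j) = 0) → D = 0 := by
  obtain ⟨ι, U, hcov, hloc⟩ := hQ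
  choose M hMa hMm hMfp he using hloc
  haveI : IsAffine (ProEtS.topP X).left := ‹IsAffine X›
  obtain ⟨n, W, hW, hd, hu, hR⟩ := ProEt.Decomp.exists_decomposition (U := ProEtS.topP X) hX hcov
  choose i c hc using fun k => Sieve.mem_ofArrows_iff _ _ _ |>.1 (hR k)
  choose N γ hγ using fun k : Fin n =>
    letI := hMa (i k)
    letI := hMm (i k)
    haveI := hMfp (i k)
    exists_gens Q (M (i k)) (he (i k)).some
  let Qt := (sheafCompose (Scheme.ProEt.topology X) (forget (ModuleCat.{u + 1} Λ))).obj Q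
  choose σ hσ _ using fun p : Σ k, Fin (N k) =>
    ProEt.Decomp.existsUnique_glue Qt W hW hd hu
      fun k' => if h : p.1 = k' then (Q.obj.map (c k').op).hom (h ▸ γ p.1 p.2) else
        (0 : Q.obj.obj (op (ProEt.Decomp.piece (ProEtS.topP X) (W k'))))
  let eN := Fintype.equivFin (Σ k, Fin (N k))
  refine ⟨_, fun j => σ (eN.symm j), fun {T} D hD => ?_⟩
  have hσ' : ∀ k l, (Q.obj.map (ProEt.Decomp.incl (ProEtS.topP X) (W k)).op).hom (σ ⟨k, l⟩) =
      (Q.obj.map (c k).op).hom (γ k l) := fun k l => by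
    have h1 := hσ ⟨k, l⟩ k
    rw [dif_pos rfl] at h1
    exact h1
  have hT : Presieve.IsSheaf (Scheme.ProEt.topology X) (T.obj ⋙ forget (ModuleCat.{u + 1} Λ)) :=
    (isSheaf_iff_isSheaf_of_type _ _).mp
      ((Presheaf.isSheaf_iff_isSheaf_forget _ T.obj (forget (ModuleCat.{u + 1} Λ))).mp T.property)
  refine Sheaf.hom_ext (NatTrans.ext (funext fun V => ModuleCat.hom_ext (LinearMap.ext fun q => ?_)))
  obtain ⟨V⟩ := V
  change (D.hom.app (op V)).hom q = (0 : T.obj.obj (op V))
  have : ∀ k, QuasiCompact (ProEt.Decomp.incl (ProEtS.topP X) (W k)).left := fun k => by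
    refine quasiCompact_iff_isSpectralMap.mpr ⟨(W k).ι.continuous, fun S hSo hSc => ?_⟩
    exact (hW k).isClosed.isClosedEmbedding_subtypeVal.isCompact_preimage hSc
  have hdec : Sieve.ofArrows _ (fun k => ProEt.Decomp.incl (ProEtS.topP X) (W k)) ∈
      Scheme.ProEt.topology X (ProEtS.topP X) :=
    ProEt.Basic.ofArrows_mem _ (by
      refine Set.eq_univ_of_forall fun x => ?_
      obtain ⟨k, hk⟩ := Set.mem_iUnion.mp (hu.ge (Set.mem_univ x))
      exact Set.mem_iUnion.mpr ⟨k, ⟨x, hk⟩, rfl⟩)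
  refine (hT.isSeparated _ ((Scheme.ProEt.topology X).pullback_stable (topT.from V) hdec)).ext
    fun V' f hf => ?_
  obtain ⟨k, g, hg⟩ := (Sieve.mem_ofArrows_iff _ _ _).1 hf
  obtain ⟨S, hS, hspan⟩ := hγ k (g ≫ c k) ((Q.obj.map f.op).hom q)
  refine (hT.isSeparated _ hS).ext fun V'' f' hf' => ?_
  change (T.obj.map f'.op).hom ((T.obj.map f.op).hom ((D.hom.app (op V)).hom q)) =
    (T.obj.map f'.op).hom ((T.obj.map f.op).hom 0)
  rw [map_zero, map_zero]
  have n1 : (T.obj.map f'.op).hom ((T.obj.map f.op).hom ((D.hom.app (op V)).hom q)) =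
      (D.hom.app (op V'')).hom ((Q.obj.map f'.op).hom ((Q.obj.map f.op).hom q)) := by
    have e1 := congr(($(D.hom.naturality f.op)).hom q)
    have e2 := congr(($(D.hom.naturality f'.op)).hom ((Q.obj.map f.op).hom q))
    exact ((congrArg (T.obj.map f'.op).hom e1.symm).trans e2.symm)
  refine n1.trans ?_
  refine LinearMap.mem_ker.1 (Submodule.span_le.2 ?_ (hspan f' hf'))
  rintro _ ⟨l, rfl⟩
  refine LinearMap.mem_ker.2 ?_
  have h3 : (Q.obj.map (f' ≫ g ≫ c k).op).hom (γ k l) =
      (Q.obj.map (f' ≫ g ≫ ProEt.Decomp.incl (ProEtS.topP X) (W k)).op).hom (σ ⟨k, l⟩) := by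
    simp only [op_comp, Functor.map_comp, ModuleCat.hom_comp, LinearMap.comp_apply, hσ']
  change (D.hom.app (op V'')).hom ((Q.obj.map (f' ≫ g ≫ c k).op).hom (γ k l)) = 0
  rw [h3]
  have h4 := congr(($(D.hom.naturality
    (f' ≫ g ≫ ProEt.Decomp.incl (ProEtS.topP X) (W k)).op)).hom (σ ⟨k, l⟩))
  refine h4.trans ?_
  have h5 := hD (eN ⟨k, l⟩)
  simp only [Equiv.symm_apply_apply] at h5
  exact (congrArg (T.obj.map _).hom h5).trans (LinearMap.map_zero _)

/-- Finitely generated reduction gives a surjection from a power of the completion. -/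
theorem exists_epi [IsNoetherianRing Λ] (hX : EtPBC.IsWContractible ↥(Γ(X, ⊤))) {r : ℕ} (a : Fin r → Λ)
    (F : EtModW.ModP Λ X) (hF : _root_.ProEtDC.IsDCSheaf Λ (Ideal.span (Set.range a)) F)
    (hq : EtModW.IsFPLocConstP Λ (cokernel (_root_.ProEtDC.gensMap Λ a F))) :
    ∃ (t : ℕ) (φ : (⨁ fun _ : Fin t => _root_.ProEtDC.lambdaHat Λ X (Ideal.span (Set.range a))) ⟶ F),
      Epi φ := by
  haveI : IsAffine (ProEtS.topP X).left := ‹IsAffine X›
  let π := cokernel.π (_root_.ProEtDC.gensMap Λ a F)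
  obtain ⟨t, s, hs⟩ := exists_global_gens hX _ hq
  let W₀ : WCAff X := ⟨ProEtS.topP X, inferInstance, hX⟩
  choose x hx using fun j => Thms.surjective_Γ_map π W₀ (s j)
  let A := constantSheafAdj (Scheme.ProEt.topology X) (ModuleCat.{u + 1} Λ) (topT (X := X))
  let xh : Fin t → (Completion.unitSheaf Λ X ⟶ F) := fun j =>
    (A.homEquiv (ModuleCat.of Λ Λ) F).symm (ModuleCat.ofHom (LinearMap.toSpanSingleton Λ _ (x j)))
  choose ψ hψ using fun j => exists_lift hF (xh j)
  refine ⟨t, biproduct.desc ψ, epi_of_epi_comp a _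
    (isDCSheaf_biproduct _ fun _ => Thms.lambdaHat_isDC _) hF ?_⟩
  refine Preadditive.epi_of_cancel_zero _ fun {T} D hD => hs D fun j => ?_
  have h1 : xh j ≫ π ≫ D = 0 := by
    have := congrArg (fun m => Completion.o (Ideal.span (Set.range a)) ≫
      biproduct.ι (fun _ : Fin t => Completion.G (X := X) (Ideal.span (Set.range a))) j ≫ m) hD
    simp only [Category.assoc, comp_zero, biproduct.ι_desc_assoc] at this
    rw [← hψ j, Category.assoc]
    exact this
  have h2 : A.homEquiv (ModuleCat.of Λ Λ) T (xh j ≫ π ≫ D) =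
      ModuleCat.ofHom (LinearMap.toSpanSingleton Λ _ (x j)) ≫ (Γ Λ (ProEtS.topP X)).map (π ≫ D) := by
    rw [A.homEquiv_naturality_right, Equiv.apply_symm_apply]
  rw [h1, A.homEquiv_unit, Functor.map_zero, comp_zero] at h2
  have h3 := (congr(($h2).hom (1 : Λ))).symm
  rw [← hx j]
  simpa using! h3

end Groth.Agent.Lib.ProEtDC.Generated
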