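import Groth.Agent.Lib.ProEt.OpenJ

/-!
Composition with a weakly etale monomorphism is a continuous functor between pro-etale sites.
-/

set_option autoImplicit false
set_option linter.style.haveILetI false

universe u

open CategoryTheory CategoryTheory.Limits AlgebraicGeometry Opposite

namespace Groth.Agent.Lib.ProEtDC.JCont

set_option backward.isDefEq.respectTransparency.types false

theorem jpCont {U X : Scheme.{u}} (j : U ⟶ X) [WeaklyEtale j] [Mono j] : ProEtS.JPCont j := by
  haveI := ProEt.OpenJ.compP_full j
  haveI := ProEt.OpenJ.compP_faithful j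
  refine Functor.isContinuous_of_coverPreserving
    (compatiblePreservingOfDownwardsClosed (Scheme.ProEt.topology X) (ProEtS.compP j) fun {c d} f => ?_)
    ⟨fun {W S} hS => ?_⟩
  · let g : d.left ⟶ U := f.left ≫ c.hom
    have hg : g ≫ j = d.hom := (Category.assoc _ _ _).trans (MorphismProperty.Over.w f)
    haveI : WeaklyEtale d.hom := d.prop
    haveI : WeaklyEtale (g ≫ j) := by rw [hg]; infer_instance
    haveI : WeaklyEtale g := WeaklyEtale.of_comp g j
    exact ⟨Scheme.ProEt.mk g, MorphismProperty.Over.isoMk (Iso.refl _)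
      ((Category.id_comp _).trans hg.symm)⟩
  · obtain ⟨T, hT, hTS⟩ := ProEt.Basic.mem_topology_iff.mp hS
    obtain ⟨ι, Z, g, rfl⟩ := T.exists_eq_ofArrows
    have h1 : (Presieve.ofArrows Z g).map (Scheme.ProEt.forget U ⋙ Over.forget U) ∈
      Scheme.proetalePrecoverage _ := hT
    have hmem : (Presieve.ofArrows (fun i => (ProEtS.compP j).obj (Z i))
        fun i => (ProEtS.compP j).map (g i)).map (Scheme.ProEt.forget X ⋙ Over.forget X) ∈
        Scheme.proetalePrecoverage ((Scheme.ProEt.forget X ⋙ Over.forget X).obj
          ((ProEtS.compP j).obj W)) := by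
      rw [Presieve.map_ofArrows] at h1 ⊢
      exact h1
    refine GrothendieckTopology.superset_covering _ ?_ (Precoverage.generate_mem_toGrothendieck
      (J := Scheme.ProEt.precoverage X) hmem)
    rw [Sieve.generate_le_iff]
    rintro _ _ ⟨i⟩
    exact Sieve.image_mem_functorPushforward _ _ (hTS _ _ (Presieve.ofArrows.mk i))

end Groth.Agent.Lib.ProEtDC.JCont
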