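import Groth.Agent.Lib.ProEtDC.EpsBC
import Groth.Agent.Lib.ProEtDC.LisseSpread
import Groth.Agent.H88.EtMod.Constructible

/-!
Adic pro-etale sheaves are lisse on a dense open and on the strata of a finite partition.
-/

set_option autoImplicit false
set_option linter.style.haveILetI false

universe u

open CategoryTheory CategoryTheory.Limits AlgebraicGeometry Opposite

noncomputable section

namespace Groth.Agent.Lib.ProEtDC.LisseP

set_option backward.isDefEq.respectTransparency.types false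

open AdicP H88.EtMod

variable {Λ : Type (u + 1)} [CommRing Λ] [IsNoetherianRing Λ] {I : Ideal Λ} {X : Scheme.{u}}
  [ProEtS.EpsCont X]

/-- Two quotients modulo the same ideal are isomorphic. -/
theorem nonempty_quotIso {F Q Q' : EtModW.ModP Λ X} {J : Ideal Λ} {p : F ⟶ Q} {p' : F ⟶ Q'}
    (hp : ARSys.IsQuot J p) (hp' : ARSys.IsQuot J p') : Nonempty (Q ≅ Q') := by
  haveI := AR.isQuot_epi hp
  haveI := AR.isQuot_epi hp'
  refine ⟨{ hom := AR.quotDesc hp p' (AR.killedBy_hom_to hp'.1 _)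
            inv := AR.quotDesc hp' p (AR.killedBy_hom_to hp.1 _)
            hom_inv_id := ?_
            inv_hom_id := ?_ }⟩
  · rw [← cancel_epi p, ← Category.assoc, AR.quotDesc_fac, AR.quotDesc_fac, Category.comp_id]
  · rw [← cancel_epi p', ← Category.assoc, AR.quotDesc_fac, AR.quotDesc_fac, Category.comp_id]

/-- The tower of an adic pro-etale sheaf comes from an adic system of constructible sheaves. -/
theorem exists_tower {F : EtModW.ModP Λ X} (Q : ℕᵒᵖ ⥤ EtModW.ModP Λ X)
    (p : (Functor.const ℕᵒᵖ).obj F ⟶ Q) (hQ : ∀ n : ℕ, ARSys.IsQuot (I ^ (n + 1)) (p.app (op n)))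
    (hc : ∀ n : ℕ, ∃ E : EtModW.Mod Λ X, EtModW.IsConstructible Λ E ∧
      Nonempty ((EtModW.epsPullMod Λ X).obj E ≅ Q.obj (op n)))
    (hlim : IsIso (limit.lift Q (Cone.mk F p))) :
    ∃ G : ARSys.PS (EtModW.Mod Λ X), ARSys.IsAdic I G ∧
      (∀ n : ℕ, EtModW.IsConstructible Λ (G.obj (op n))) ∧
      ∀ n : ℕ, Nonempty ((EtModW.epsPullMod Λ X).obj (G.obj (op n)) ≅ Q.obj (op n)) := by
  obtain ⟨G, hG, hGc, ⟨e⟩⟩ := exists_adic_of_isP (fun e h => Constructible.isConstructible_of_iso e h)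
    (⟨Q, p, hQ, hc, hlim⟩ : IsP I F)
  exact ⟨G, hG, hGc, fun n => nonempty_quotIso
    (AR.isQuot_of_isIso_comp e.inv (isQuot_limit_π_pull (IsNoetherian.noetherian I) hG n)) (hQ n)⟩

end Groth.Agent.Lib.ProEtDC.LisseP
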