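import Groth.Agent.Lib.ProEtDC.StalkSystems
import Groth.Agent.Lib.ProEtDC.AdicEpi
import Mathlib.RingTheory.Artinian.Module
import Mathlib.Algebra.Module.Torsion.Basic

/-!
The Mittag-Leffler condition for systems of locally constant sheaves with artinian stalks.
-/

set_option autoImplicit false
set_option linter.style.haveILetI false

universe u

open CategoryTheory CategoryTheory.Limits AlgebraicGeometry Opposite

noncomputable section

namespace Groth.Agent.Lib.ProEtDC.MLArt

open Groth.Agent.Lib.EtSite Groth.Agent.Lib.EtSite.Basic H88.EtMod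

variable {Λ : Type (u + 1)} [CommRing Λ] {X : Scheme.{u}}

/-- A finite module killed by an ideal with artinian quotient is artinian. -/
theorem isArtinian_of_killed {M : Type (u + 1)} [AddCommGroup M] [Module Λ M] [Module.Finite Λ M]
    (J : Ideal Λ) [IsArtinianRing (Λ ⧸ J)] (h : ∀ a ∈ J, ∀ m : M, a • m = 0) : IsArtinian Λ M := by
  have hJ : Module.IsTorsionBySet Λ M (J : Set Λ) := fun m a => h a.1 a.2 m
  letI := hJ.module
  haveI : IsScalarTower Λ (Λ ⧸ J) M := hJ.isScalarTower
  haveI : Module.Finite (Λ ⧸ J) M := Module.Finite.of_restrictScalars_finite Λ (Λ ⧸ J) M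
  haveI : IsArtinian (Λ ⧸ J) M := inferInstance
  exact isArtinian_of_surjective_algebraMap (Ideal.Quotient.mk_surjective (I := J))

theorem moduleCat_imLE {P Q Y : ModuleCat.{u + 1} Λ} {f : P ⟶ Y} {g : Q ⟶ Y}
    (h : LinearMap.range f.hom ≤ LinearMap.range g.hom) : AR.ImLE f g := by
  refine ModuleCat.hom_ext (LinearMap.ext fun a => ?_)
  obtain ⟨b, hb⟩ := h ⟨a, rfl⟩
  change (cokernel.π g).hom (f.hom a) = 0
  rw [← hb]
  exact ConcreteCategory.congr_hom (cokernel.condition g) b

/-- Stabilization of images of transition maps of a system of modules with artinian terms. -/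
theorem exists_imLE (M : ℕᵒᵖ ⥤ ModuleCat.{u + 1} Λ) (n : ℕ) [IsArtinian Λ (M.obj (op n))] :
    ∃ r, ∀ s, r ≤ s → AR.ImLE (ARSys.shiftMap M r n) (ARSys.shiftMap M s n) := by
  let f : ℕ →o (Submodule Λ (M.obj (op n)))ᵒᵈ :=
    { toFun := fun s => OrderDual.toDual (LinearMap.range (ARSys.tr M (Nat.le_add_right n s)).hom)
      monotone' := fun a b hab => by
        change LinearMap.range (ARSys.tr M (Nat.le_add_right n b)).hom ≤
          LinearMap.range (ARSys.tr M (Nat.le_add_right n a)).hom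
        rw [← AR.tr_comp M (Nat.le_add_right n a) (Nat.add_le_add_left hab n), ModuleCat.hom_comp]
        exact LinearMap.range_comp_le_range _ _ }
  obtain ⟨r, hr⟩ := monotone_stabilizes_iff_artinian.2 ‹_› f
  exact ⟨r, fun s hs => moduleCat_imLE (le_of_eq (congrArg OrderDual.ofDual (hr s hs)))⟩

/-- Systems of locally constant sheaves with artinian stalks are Mittag-Leffler. -/
theorem isML [IsNoetherian X] (F : ARSys.PS (EtModW.Mod Λ X))
    (hF : ∀ n : ℕ, EtModW.IsFTLocConst Λ (F.obj (op n)))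
    (hart : ∀ (n : ℕ) (x : X), IsArtinian Λ ↥((EtModW.stalk Λ (geomPoint X x)).obj (F.obj (op n)))) :
    ∀ n : ℕ, ∃ r, ∀ s, r ≤ s → AR.ImLE (ARSys.shiftMap F r n) (ARSys.shiftMap F s n) := by
  intro n
  have hfin : Finite (irreducibleComponents X) :=
    TopologicalSpace.NoetherianSpace.finite_irreducibleComponents.to_subtype
  choose η hη using fun Z : irreducibleComponents X =>
    QuasiSober.sober Z.2.1 (isClosed_of_mem_irreducibleComponents Z.1 Z.2)
  have hr₀ : ∀ Z, ∃ r, ∀ s, r ≤ s →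
      AR.ImLE (ARSys.shiftMap (F ⋙ EtModW.stalk Λ (geomPoint X (η Z))) r n)
        (ARSys.shiftMap (F ⋙ EtModW.stalk Λ (geomPoint X (η Z))) s n) := fun Z => by
    haveI : IsArtinian Λ ((F ⋙ EtModW.stalk Λ (geomPoint X (η Z))).obj (op n)) := hart n (η Z)
    exact exists_imLE _ n
  choose r hr using hr₀
  obtain ⟨R, hR⟩ := Finite.exists_le r
  refine ⟨R, fun s hs => ?_⟩
  refine ARPoints.eq_zero_of_enoughPts _ (Stalk.enoughPts_pt fun x => ?_)
  haveI := ARPoints.additive_stalk (Λ := Λ) (geomPoint X x)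
  refine AR.map_eq_zero_of_imLE (EtModW.stalk Λ (geomPoint X x)) ?_
  let Z : irreducibleComponents X := ⟨_, irreducibleComponent_mem_irreducibleComponents x⟩
  have hc : closure (Z : Set X) = (Z : Set X) :=
    (isClosed_of_mem_irreducibleComponents _ Z.2).closure_eq
  have hspec : η Z ⤳ x := (hη Z).specializes mem_irreducibleComponent
  obtain ⟨e⟩ := StalkSystems.nonempty_iso_of_specializes (geomPoint X x) (geomPoint X (η Z))
    (by rw [geomPoint_apply, geomPoint_apply]; exact hspec) hF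
  let M := F ⋙ EtModW.stalk Λ (geomPoint X x)
  let M' := F ⋙ EtModW.stalk Λ (geomPoint X (η Z))
  have h1 : ∀ k, ARSys.shiftMap M k n =
      e.hom.app (op (n + k)) ≫ ARSys.shiftMap M' k n ≫ e.inv.app (op n) := fun k => by
    change _ = _ ≫ ARSys.tr M' _ ≫ _
    rw [← AR.tr_app]
    erw [e.hom_inv_id_app_assoc]
    rfl
  have h2 : AR.ImLE (ARSys.shiftMap M' R n) (ARSys.shiftMap M' s n) := by
    refine AR.ImLE.trans ?_ (hr Z s ((hR Z).trans hs))
    exact AR.ImLE.of_eq _ (AR.tr_comp M' (Nat.le_add_right n (r Z))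
      (Nat.add_le_add_left (hR Z) n)).symm
  change AR.ImLE (ARSys.shiftMap M R n) (ARSys.shiftMap M s n)
  rw [h1 R]
  refine ((h2.comp (e.inv.app (op n))).comp_left _).trans ?_
  rw [h1 s]
  refine AR.ImLE.of_eq (e.inv.app (op (n + s))) ?_
  erw [e.inv_hom_id_app_assoc]
  rfl

/-- The condition is preserved by functors preserving epimorphisms. -/
theorem isML_comp {C : Type*} [Category C] [Abelian C] {D : Type*} [Category D] [Abelian D]
    (L : C ⥤ D) [L.PreservesEpimorphisms] (F : ARSys.PS C)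
    (h : ∀ n : ℕ, ∃ r, ∀ s, r ≤ s → AR.ImLE (ARSys.shiftMap F r n) (ARSys.shiftMap F s n)) :
    ARSys.IsML (F ⋙ L) := by
  have hL : ∀ {P Q Y : C} {f : P ⟶ Y} {g : Q ⟶ Y}, AR.ImLE f g → AR.ImLE (L.map f) (L.map g) := by
    intro P Q Y f g hfg
    obtain ⟨T, π, hπ, z, hz⟩ := hfg.exists_refinement
    exact AR.ImLE.of_refinement (L.map π) (L.map z) (by rw [← L.map_comp, ← L.map_comp, hz])
  intro n
  obtain ⟨r, hr⟩ := h n
  refine ⟨r, fun s hs => (AR.imageSubobject_eq_iff _ _).2 ⟨?_, hL (hr s hs)⟩⟩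
  refine hL (AR.ImLE.of_eq _ (AR.tr_comp F (Nat.le_add_right n r) (Nat.add_le_add_left hs n)).symm)

end Groth.Agent.Lib.ProEtDC.MLArt
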