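import Groth.Agent.Lib.ProEt.EpsMod
import Mathlib.CategoryTheory.Adjunction.Unique

/-!
Inverse images of sheaves of modules and of the underlying abelian sheaves.
-/

set_option autoImplicit false
set_option linter.style.haveILetI false

universe u

open CategoryTheory CategoryTheory.Limits AlgebraicGeometry Opposite

noncomputable section

namespace Groth.Agent.Lib.ProEtDC.ModForget

set_option backward.isDefEq.respectTransparency.types false

open ProEt.EpsMod

variable (Λ : Type (u + 1)) [CommRing Λ] {C D : Type (u + 1)} [Category.{u} C] [Category.{u} D]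
  (F : C ⥤ D) (J : GrothendieckTopology C) (K : GrothendieckTopology D) [F.IsContinuous J K]
  [(F.sheafPushforwardContinuous (ModuleCat.{u + 1} Λ) J K).IsRightAdjoint]
  [(F.sheafPushforwardContinuous AddCommGrpCat.{u + 1} J K).IsRightAdjoint]

/-- The underlying group sheaf. -/
abbrev un {C' : Type (u + 1)} [Category.{u} C'] (J' : GrothendieckTopology C') :
    Sheaf J' (ModuleCat.{u + 1} Λ) ⥤ Sheaf J' AddCommGrpCat.{u + 1} :=
  sheafCompose J' (U Λ)

/-- The inverse image of modules. -/
abbrev pullM : Sheaf J (ModuleCat.{u + 1} Λ) ⥤ Sheaf K (ModuleCat.{u + 1} Λ) :=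
  F.sheafPullback (ModuleCat.{u + 1} Λ) J K

/-- The inverse image of groups. -/
abbrev pullA : Sheaf J AddCommGrpCat.{u + 1} ⥤ Sheaf K AddCommGrpCat.{u + 1} :=
  F.sheafPullback AddCommGrpCat.{u + 1} J K

/-- The adjunction for modules. -/
abbrev adjM' : pullM Λ F J K ⊣ F.sheafPushforwardContinuous (ModuleCat.{u + 1} Λ) J K :=
  F.sheafAdjunctionContinuous (ModuleCat.{u + 1} Λ) J K

/-- The adjunction for groups. -/
abbrev adjA : pullA F J K ⊣ F.sheafPushforwardContinuous AddCommGrpCat.{u + 1} J K :=
  F.sheafAdjunctionContinuous AddCommGrpCat.{u + 1} J K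

/-- The composite adjunction. -/
def adjTwo : un Λ J ⋙ pullA F J K ⊣ sheafCompose K (co Λ) ⋙
    F.sheafPushforwardContinuous (ModuleCat.{u + 1} Λ) J K :=
  ((coAdjSheaf Λ J).comp (adjA F J K)).ofNatIsoRight
    (NatIso.ofComponents (fun _ => Iso.refl _) fun _ => rfl)

/-- The underlying sheaf of an inverse image. -/
def pullForget : pullM Λ F J K ⋙ un Λ K ≅ un Λ J ⋙ pullA F J K :=
  ((adjM' Λ F J K).comp (coAdjSheaf Λ K)).leftAdjointUniq (adjTwo Λ F J K)

lemma unit_compat (G : Sheaf J (ModuleCat.{u + 1} Λ)) :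
    (un Λ J).map ((adjM' Λ F J K).unit.app G) ≫
        (F.sheafPushforwardContinuous AddCommGrpCat.{u + 1} J K).map ((pullForget Λ F J K).hom.app G) =
      (adjA F J K).unit.app ((un Λ J).obj G) := by
  have h := Adjunction.unit_leftAdjointUniq_hom_app
    ((adjM' Λ F J K).comp (coAdjSheaf Λ K)) (adjTwo Λ F J K) G
  have hη := (coAdjSheaf Λ J).unit.naturality ((adjM' Λ F J K).unit.app G)
  apply ((coAdjSheaf Λ J).homEquiv _ _).injective
  rw [Adjunction.homEquiv_unit, Adjunction.homEquiv_unit, Functor.map_comp, ← Category.assoc]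
  refine (congrArg (· ≫ _) hη.symm).trans ?_
  refine Eq.trans ?_ ((h.trans ?_))
  · exact Category.assoc _ _ _
  · exact Category.comp_id _

lemma counit_compat (G : Sheaf K (ModuleCat.{u + 1} Λ)) :
    (un Λ K).map ((adjM' Λ F J K).counit.app G) =
      (pullForget Λ F J K).hom.app ((F.sheafPushforwardContinuous (ModuleCat.{u + 1} Λ) J K).obj G) ≫
        (adjA F J K).counit.app ((un Λ K).obj G) := by
  let φ := pullForget Λ F J K
  let RM := F.sheafPushforwardContinuous (ModuleCat.{u + 1} Λ) J K
  let RA := F.sheafPushforwardContinuous AddCommGrpCat.{u + 1} J K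
  suffices h : φ.inv.app (RM.obj G) ≫ (un Λ K).map ((adjM' Λ F J K).counit.app G) =
      (adjA F J K).counit.app ((un Λ K).obj G) by
    rw [← h]
    exact (φ.hom_inv_id_app_assoc _ _).symm
  apply ((adjA F J K).homEquiv _ _).injective
  rw [Adjunction.homEquiv_unit, Adjunction.homEquiv_unit]
  refine Eq.trans ?_ ((adjA F J K).right_triangle_components ((un Λ K).obj G)).symm
  change (adjA F J K).unit.app ((un Λ J).obj (RM.obj G)) ≫
    RA.map (φ.inv.app (RM.obj G) ≫ (un Λ K).map ((adjM' Λ F J K).counit.app G)) = 𝟙 ((un Λ J).obj (RM.obj G))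
  rw [← unit_compat Λ F J K, Category.assoc]
  have h := congrArg (un Λ J).map ((adjM' Λ F J K).right_triangle_components G)
  rw [Functor.map_comp, CategoryTheory.Functor.map_id] at h
  refine Eq.trans (congrArg (_ ≫ ·) ((RA.map_comp _ _).symm.trans
    (congrArg RA.map (φ.hom_inv_id_app_assoc (RM.obj G) _)))) h

/-- An object whose underlying group sheaf is fixed by the comonad is fixed. -/
lemma isIso_counit_of_underlying (G : Sheaf K (ModuleCat.{u + 1} Λ))
    [IsIso ((adjA F J K).counit.app ((un Λ K).obj G))] :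
    IsIso ((adjM' Λ F J K).counit.app G) := by
  haveI : IsIso ((un Λ K).map ((adjM' Λ F J K).counit.app G)) := by
    rw [counit_compat]
    exact IsIso.comp_isIso' ((pullForget Λ F J K).app _).isIso_hom ‹_›
  exact isIso_of_reflects_iso _ (un Λ K)

end Groth.Agent.Lib.ProEtDC.ModForget
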