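import Groth.Agent.Lib.ProEtDC.ClosedPushP
import Groth.Agent.Lib.ProEtDC.ExtZeroP

/-!
The recollement sequence for pro-etale sheaves of modules.
-/

set_option autoImplicit false
set_option linter.style.haveILetI false

universe u

open CategoryTheory CategoryTheory.Limits AlgebraicGeometry Opposite

noncomputable section

namespace Groth.Agent.Lib.ProEtDC.RecollementMod

set_option backward.isDefEq.respectTransparency.types false

open ProEt.EpsMod ModForget

variable {X Z U : Scheme.{u}} (i : Z ⟶ X) [IsClosedImmersion i] (j : U ⟶ X) [IsOpenImmersion j]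
  [QuasiCompact j] [WeaklyEtale j] [ProEtS.JPCont j] [ProEtS.PCont i] [ProEtS.PCont j]
  (Λ : Type (u + 1)) [CommRing Λ]

/-- Restriction along composition. -/
abbrev restrM : EtModW.ModP Λ X ⥤ EtModW.ModP Λ U :=
  (ProEtS.compP j).sheafPushforwardContinuous (ModuleCat.{u + 1} Λ) (Scheme.ProEt.topology U)
    (Scheme.ProEt.topology X)

/-- Inverse image by base change. -/
abbrev pullBC {Y : Scheme.{u}} (f : Y ⟶ X) [ProEtS.PCont f] : EtModW.ModP Λ X ⥤ EtModW.ModP Λ Y :=
  (ProEtS.bcP f).sheafPullback (ModuleCat.{u + 1} Λ) (Scheme.ProEt.topology X) (Scheme.ProEt.topology Y)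

/-- The inverse image along an open immersion is the restriction. -/
def pullOpenIso : pullBC Λ j ≅ restrM j Λ :=
  ((ProEtS.bcP j).sheafAdjunctionContinuous (ModuleCat.{u + 1} Λ) (Scheme.ProEt.topology X)
    (Scheme.ProEt.topology U)).leftAdjointUniq
    ((show ProEtS.compP j ⊣ ProEtS.bcP j from
      haveI hm : MorphismProperty.IsStableUnderComposition @WeaklyEtale :=
        inferInstanceAs (MorphismProperty.IsStableUnderComposition (@WeaklyEtale.{u}))
      MorphismProperty.Over.mapPullbackAdj @WeaklyEtale ⊤ j (inferInstance : WeaklyEtale j) trivial).sheafPushforwardContinuous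
        (E := ModuleCat.{u + 1} Λ) (Scheme.ProEt.topology U) (Scheme.ProEt.topology X))

/-- The recollement sequence of modules is short exact. -/
theorem exists_shortExact (hc : Set.range j.base = (Set.range i.base)ᶜ) (F : EtModW.ModP Λ X) :
    ∃ S : ShortComplex (EtModW.ModP Λ X), S.ShortExact ∧
      S.X₁ = (ExtZeroP.extM j Λ).obj ((restrM j Λ).obj F) ∧ S.X₂ = F ∧
      S.X₃ = (ClosedPushP.pushM i Λ).obj ((pullBC Λ i).obj F) := by
  let f : (ExtZeroP.extM j Λ).obj ((restrM j Λ).obj F) ⟶ F := (ExtZeroP.adj j Λ).counit.app F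
  let g : F ⟶ (ClosedPushP.pushM i Λ).obj ((pullBC Λ i).obj F) := (adjM' Λ (ProEtS.bcP i) (Scheme.ProEt.topology X) (Scheme.ProEt.topology Z)).unit.app F
  let α : (uP Λ).obj ((ExtZeroP.extM j Λ).obj ((restrM j Λ).obj F)) ≅
      (ProEtS.extZeroP j).obj ((ProEtS.restrP j).obj ((uP Λ).obj F)) := (pullForget Λ (ProEtS.compP j) (Scheme.ProEt.topology U) (Scheme.ProEt.topology X)).app
    ((restrM j Λ).obj F)
  let β : (uP Λ).obj ((ClosedPushP.pushM i Λ).obj ((pullBC Λ i).obj F)) ≅
      (ProEtS.pushP i).obj ((ProEtS.pullP i).obj ((uP Λ).obj F)) := (ProEtS.pushP i).mapIso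
    ((pullForget Λ (ProEtS.bcP i) (Scheme.ProEt.topology X) (Scheme.ProEt.topology Z)).app F)
  have hf : (uP Λ).map f = α.hom ≫ ProEt.RecollementSeq.f j ((uP Λ).obj F) :=
    counit_compat Λ (ProEtS.compP j) (Scheme.ProEt.topology U) (Scheme.ProEt.topology X) F
  have hg : (uP Λ).map g ≫ β.hom = ProEt.RecollementSeq.g i ((uP Λ).obj F) :=
    unit_compat Λ (ProEtS.bcP i) (Scheme.ProEt.topology X) (Scheme.ProEt.topology Z) F
  obtain ⟨h, hS⟩ := ProEt.RecollementSeq.shortExact i j hc ((uP Λ).obj F)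
  have h3 : ((uP Λ).map f ≫ (uP Λ).map g) ≫ β.hom = 0 :=
    ((Category.assoc _ _ _).trans ((congrArg ((uP Λ).map f ≫ ·) hg).trans
      ((congrArg (· ≫ _) hf).trans ((Category.assoc _ _ _).trans
        ((congrArg (α.hom ≫ ·) h).trans comp_zero)))))
  have w : f ≫ g = 0 := (uP Λ).map_injective
    (((uP Λ).map_comp f g).trans ((zero_of_comp_mono β.hom h3).trans ((uP Λ).map_zero _ _).symm))
  let S := ShortComplex.mk f g w
  have e : S.map (uP Λ) ≅ ShortComplex.mk _ _ h :=
    ShortComplex.isoMk α (Iso.refl _) β (hf.symm.trans (Category.comp_id _).symm)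
      ((Category.id_comp _).trans hg.symm)
  have hS' := ShortComplex.shortExact_of_iso e.symm hS
  haveI := hS'.mono_f
  haveI := hS'.epi_g
  exact ⟨S, ShortComplex.ShortExact.mk' ((S.exact_map_iff_of_faithful (uP Λ)).1 hS'.exact)
    ((uP Λ).mono_of_mono_map hS'.mono_f) ((uP Λ).epi_of_epi_map hS'.epi_g), rfl, rfl, rfl⟩

end Groth.Agent.Lib.ProEtDC.RecollementMod
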