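import Groth.Agent.Lib.ProEt.EpsMod
import Groth.Prelude.Def_ProEtDC
import Mathlib.CategoryTheory.Adjunction.Evaluation
import Mathlib.Algebra.Category.ModuleCat.AB
import Mathlib.CategoryTheory.Preadditive.Projective.Preserves
import Mathlib.Algebra.Category.ModuleCat.Projective

/-!
Sections of sheaves of modules on the pro-etale site and their left adjoints.
-/

set_option autoImplicit false

universe u

open CategoryTheory CategoryTheory.Limits AlgebraicGeometry Opposite

noncomputable section

namespace Groth.Agent.Lib.ProEtDC.Sections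

set_option backward.isDefEq.respectTransparency.types false

variable (Λ : Type (u + 1)) [CommRing Λ] {X : Scheme.{u}} (U : X.ProEt)

/-- Sections. -/
abbrev Γ : EtModW.ModP Λ X ⥤ ModuleCat.{u + 1} Λ :=
  (sheafSections (Scheme.ProEt.topology X) (ModuleCat.{u + 1} Λ)).obj (op U)

/-- Free sheaves on an object. -/
def L : ModuleCat.{u + 1} Λ ⥤ EtModW.ModP Λ X :=
  evaluationLeftAdjoint (ModuleCat.{u + 1} Λ) (op U) ⋙
    presheafToSheaf (Scheme.ProEt.topology X) (ModuleCat.{u + 1} Λ)

/-- Free sheaves are left adjoint to sections. -/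
def adj : L Λ U ⊣ Γ Λ U :=
  ((evaluationAdjunctionRight (ModuleCat.{u + 1} Λ) (op U)).comp
    (sheafificationAdjunction (Scheme.ProEt.topology X) (ModuleCat.{u + 1} Λ))).ofNatIsoRight
      (NatIso.ofComponents (fun _ => Iso.refl _) fun _ => rfl)

instance : (Γ Λ U).Additive where
  map_add := rfl

instance : (L Λ U).IsLeftAdjoint := (adj Λ U).isLeftAdjoint

instance : (L Λ U).Additive := (adj Λ U).left_adjoint_additive

instance : (L Λ U).PreservesMonomorphisms where
  preserves {M N} f _ := by
    haveI : ∀ t, Mono (((evaluationLeftAdjoint (ModuleCat.{u + 1} Λ) (op U)).map f).app t) := fun t => by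
      have e : ((evaluationLeftAdjoint (ModuleCat.{u + 1} Λ) (op U)).map f).app t =
          colim.map (Discrete.natTrans fun _ : Discrete (op U ⟶ t) => f) :=
        Sigma.hom_ext _ _ fun h => by
          simp
          rfl
      rw [e]
      haveI : ∀ j, Mono ((Discrete.natTrans (F := Discrete.functor fun _ : op U ⟶ t => M)
          (G := Discrete.functor fun _ : op U ⟶ t => N) fun _ : Discrete (op U ⟶ t) => f).app j) :=
        fun _ => (inferInstance : Mono f)
      haveI := NatTrans.mono_of_mono_app (Discrete.natTrans (F := Discrete.functor fun _ : op U ⟶ t => M)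
          (G := Discrete.functor fun _ : op U ⟶ t => N) fun _ : Discrete (op U ⟶ t) => f)
      haveI : AB4OfSize.{u} (ModuleCat.{u + 1} Λ) := AB4OfSize_shrink.{u, u + 1} (ModuleCat.{u + 1} Λ)
      haveI : PreservesFiniteLimits (colim (J := Discrete (op U ⟶ t)) (C := ModuleCat.{u + 1} Λ)) :=
        (AB4OfSize.ofShape (C := ModuleCat.{u + 1} Λ) (op U ⟶ t)).preservesFiniteLimits
      exact colim.map_mono _
    haveI : Mono ((evaluationLeftAdjoint (ModuleCat.{u + 1} Λ) (op U)).map f) :=
      NatTrans.mono_of_mono_app _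
    exact (presheafToSheaf (Scheme.ProEt.topology X) (ModuleCat.{u + 1} Λ)).map_mono
      ((evaluationLeftAdjoint (ModuleCat.{u + 1} Λ) (op U)).map f)

lemma shortExact_L {S : ShortComplex (ModuleCat.{u + 1} Λ)} (hS : S.ShortExact) :
    (S.map (L Λ U)).ShortExact := by
  haveI : PreservesFiniteColimits (L Λ U) := inferInstance
  haveI := hS.mono_f
  haveI := hS.epi_g
  exact
    { exact := hS.exact.map_of_epi_of_preservesCokernel _ hS.epi_g inferInstance
      mono_f := (L Λ U).map_mono S.f
      epi_g := (L Λ U).map_epi S.g }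

/-- The test objects of derived completeness. -/
def locIso (f : Λ) :
    _root_.ProEtDC.locExt Λ U f ≅ (L Λ U).obj (ModuleCat.of Λ (Localization.Away f)) :=
  let a₁ := constantSheafAdj ((Scheme.ProEt.topology X).over U) (ModuleCat.{u + 1} Λ)
    (Over.mkIdTerminal (X := U))
  let a₂ := (Over.forget U).sheafAdjunctionContinuous (ModuleCat.{u + 1} Λ)
    ((Scheme.ProEt.topology X).over U) (Scheme.ProEt.topology X)
  (((a₁.comp a₂).ofNatIsoRight
    (NatIso.ofComponents (fun _ => Iso.refl _) fun _ => rfl)).leftAdjointUniq (adj Λ U)).app _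

variable {Λ U}

/-- Sections over weakly contractible affine objects are exact. -/
theorem surjective_app_of_epi {F G : EtModW.ModP Λ X} (φ : F ⟶ G) [Epi φ] {W : X.ProEt}
    (hW : ProEtS.IsWC W) : Function.Surjective (φ.hom.app (op W)).hom := by
  haveI : Epi ((ProEt.EpsMod.uP Λ).map φ) := inferInstance
  exact ProEt.Exact.surjective_of_epi ((ProEt.EpsMod.uP Λ).map φ) hW

theorem preservesEpimorphisms_Γ {W : X.ProEt} (hW : ProEtS.IsWC W) :
    (Γ Λ W).PreservesEpimorphisms :=
  ⟨fun φ _ => ConcreteCategory.epi_of_surjective _ (surjective_app_of_epi φ hW)⟩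

theorem preservesFiniteColimits_Γ {W : X.ProEt} (hW : ProEtS.IsWC W) :
    PreservesFiniteColimits (Γ Λ W) := by
  haveI := preservesEpimorphisms_Γ (Λ := Λ) hW
  haveI : (Γ Λ W).IsRightAdjoint := (adj Λ W).isRightAdjoint
  rw [Functor.preservesFiniteColimits_iff_forall_exact_map_and_epi]
  intro S hS
  haveI := hS.mono_f
  haveI := hS.epi_g
  exact ⟨hS.exact.map_of_mono_of_preservesKernel (Γ Λ W) hS.mono_f inferInstance,
    (Γ Λ W).map_epi S.g⟩

theorem projective_L {W : X.ProEt} (hW : ProEtS.IsWC W) (P : ModuleCat.{u + 1} Λ) [Projective P] :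
    Projective ((L Λ W).obj P) := by
  haveI := preservesEpimorphisms_Γ (Λ := Λ) hW
  exact (adj Λ W).map_projective P inferInstance

variable (Λ X)

/-- The weakly contractible affine objects. -/
abbrev WCAff : Type (u + 1) :=
  {W : X.ProEt // IsAffine W.left ∧ EtPBC.IsWContractible ↥Γ(W.left, ⊤)}

variable {X}

lemma isWC (W : WCAff X) : ProEtS.IsWC W.1 :=
  haveI := W.2.1
  (ProEt.Criterion.isWContractible_iff_isWC _).mp W.2.2

/-- The free module sheaf on an object. -/
abbrev free (W : X.ProEt) : EtModW.ModP Λ X := (L Λ W).obj (ModuleCat.of Λ Λ)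

lemma projective_free (W : WCAff X) : Projective (free Λ W.1) :=
  haveI : Projective (ModuleCat.of Λ Λ) :=
    (IsProjective.iff_projective (R := Λ) Λ).mp inferInstance
  projective_L (isWC W) _

/-- The free sheaves on weakly contractible affine objects separate. -/
theorem isSeparating_free : ObjectProperty.IsSeparating
    (ObjectProperty.ofObj fun W : WCAff X => free Λ W.1) := by
  intro F G φ ψ h
  apply (ProEt.EpsMod.uP Λ).map_injective
  rw [← sub_eq_zero]
  set χ := (ProEt.EpsMod.uP Λ).map φ - (ProEt.EpsMod.uP Λ).map ψ with hχ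
  have h0 : ∀ (W : WCAff X) (s : F.obj.obj (op W.1)),
      (φ.hom.app (op W.1)).hom s = (ψ.hom.app (op W.1)).hom s := fun W s => by
    let t := ((adj Λ W.1).homEquiv _ F).symm (ModuleCat.ofHom (LinearMap.toSpanSingleton Λ _ s))
    have e := congrArg ((adj Λ W.1).homEquiv _ G) (h _ (ObjectProperty.ofObj_apply _ W) t)
    rw [Adjunction.homEquiv_naturality_right, Adjunction.homEquiv_naturality_right] at e
    simp only [t, Equiv.apply_symm_apply] at e
    have e1 := ConcreteCategory.congr_hom e (1 : Λ)
    simpa using! e1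
  haveI : Mono (𝟙 ((ProEt.EpsMod.uP Λ).obj F)) := inferInstance
  have hk : Epi (kernel.ι χ) := by
    refine ProEt.Exact.epi_of_surjective _ fun W _ hW s => ?_
    refine ProEt.CechCrit.exists_sections_preimage (S := ShortComplex.mk (kernel.ι χ) χ (kernel.condition χ))
      (ShortComplex.exact_of_f_is_kernel _ (kernelIsKernel χ)) W s ?_
    have := h0 ⟨W, inferInstance, hW⟩ s
    exact sub_eq_zero.mpr this
  exact (cancel_epi (kernel.ι χ)).mp (by rw [kernel.condition, comp_zero])

end Groth.Agent.Lib.ProEtDC.Sections
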