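import Groth.Agent.Lib.ProEtDC.Crit
import Groth.Agent.Lib.ProEt.EpsCoh

/-!
Consequences of the criterion for derived completeness on the pro-etale site.
-/

set_option autoImplicit false
set_option linter.style.haveILetI false

universe w u

open CategoryTheory CategoryTheory.Limits AlgebraicGeometry Opposite
attribute [local instance] HasDerivedCategory.standard

noncomputable section

namespace Groth.Agent.Lib.ProEtDC.Thms

set_option backward.isDefEq.respectTransparency.types false

open Sections Crit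

variable {Λ : Type (u + 1)} [CommRing Λ]

section Modules

variable {A M N C : Type w} [AddCommGroup A] [Module Λ A] [AddCommGroup M] [Module Λ M]
  [AddCommGroup N] [Module Λ N] [AddCommGroup C] [Module Λ C] {f : Λ}

lemma goodM_ker (i : A →ₗ[Λ] M) (g : M →ₗ[Λ] N) (hi : Function.Injective i)
    (hex : ∀ m, g m = 0 → ∃ a, i a = m) (hgi : ∀ a, g (i a) = 0)
    (hM : GoodM f M) (hN : GoodM f N) : GoodM f A := by
  refine ⟨fun x y h => funext fun k => hi ?_, fun b => ?_⟩
  · refine congrFun (hM.1 (a₁ := fun k => i (x k)) (a₂ := fun k => i (y k)) (funext fun k => ?_)) k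
    simpa [map_sub, map_smul] using congrArg i (congrFun h k)
  · obtain ⟨x, hx⟩ := hM.2 fun k => i (b k)
    have h0 : (fun k => g (x k)) = fun _ => 0 := hN.1 (funext fun k => by
      simpa [hgi, sub_eq_zero] using congrArg g (congrFun hx k))
    choose a ha using fun k => hex (x k) (congrFun h0 k)
    exact ⟨a, funext fun k => hi (by simpa [map_sub, map_smul, ha] using congrFun hx k)⟩

lemma goodM_coker (g : M →ₗ[Λ] N) (p : N →ₗ[Λ] C) (hp : Function.Surjective p)
    (hex : ∀ n, p n = 0 → ∃ m, g m = n) (hpg : ∀ m, p (g m) = 0)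
    (hM : GoodM f M) (hN : GoodM f N) : GoodM f C := by
  refine ⟨fun x y h => ?_, fun c => ?_⟩
  · choose z hz using fun k => hp (x k - y k)
    have hker : ∀ k, p (z k - f • z (k + 1)) = 0 := fun k => by
      rw [map_sub, map_smul, hz, hz, smul_sub, sub_sub_sub_comm]
      exact sub_eq_zero.mpr (congrFun h k)
    choose m hm using fun k => hex _ (hker k)
    obtain ⟨m', hm'⟩ := hM.2 m
    have hz' : z = fun k => g (m' k) := hN.1 (funext fun k => by
      change z k - f • z (k + 1) = g (m' k) - f • g (m' (k + 1))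
      rw [← hm k, ← congrFun hm' k]
      simp [map_sub, map_smul])
    funext k
    rw [← sub_eq_zero, ← hz, hz', hpg]
  · choose b hb using fun k => hp (c k)
    obtain ⟨x, hx⟩ := hN.2 b
    exact ⟨fun k => p (x k), funext fun k => by
      simpa [map_sub, map_smul, hb] using congrArg p (congrFun hx k)⟩

lemma goodM_extension (g : M →ₗ[Λ] N) (p : N →ₗ[Λ] C) (hg : Function.Injective g)
    (hp : Function.Surjective p) (hex : ∀ n, p n = 0 → ∃ m, g m = n) (hpg : ∀ m, p (g m) = 0)
    (hM : GoodM f M) (hC : GoodM f C) : GoodM f N := by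
  refine ⟨fun x y h => ?_, fun b => ?_⟩
  · have h0 : (fun k => p (x k - y k)) = fun _ => 0 := hC.1 (funext fun k => by
      simp only [map_sub, smul_sub, smul_zero, sub_zero]
      rw [sub_sub_sub_comm, ← map_smul, ← map_smul, ← map_sub, ← map_sub, ← map_sub,
        sub_eq_zero.mpr (congrFun h k), map_zero])
    choose m hm using fun k => hex _ (congrFun h0 k)
    have hm0 : m = fun _ => 0 := hM.1 (funext fun k => hg (by
      simp only [map_sub, map_smul, hm, map_zero, smul_zero, sub_zero, smul_sub]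
      rw [sub_sub_sub_comm]
      exact sub_eq_zero.mpr (congrFun h k)))
    funext k
    rw [← sub_eq_zero, ← hm, hm0, map_zero]
  · obtain ⟨c, hc⟩ := hC.2 fun k => p (b k)
    choose x hx using fun k => hp (c k)
    have hker : ∀ k, p (b k - (x k - f • x (k + 1))) = 0 := fun k => by
      rw [map_sub, map_sub, map_smul, hx, hx, sub_eq_zero]
      exact (congrFun hc k).symm
    choose m hm using fun k => hex _ (hker k)
    obtain ⟨m', hm'⟩ := hM.2 m
    refine ⟨fun k => x k + g (m' k), funext fun k => ?_⟩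
    have := congrArg g (congrFun hm' k)
    rw [map_sub, map_smul, hm] at this
    change x k + g (m' k) - f • (x (k + 1) + g (m' (k + 1))) = b k
    rw [smul_add, add_sub_add_comm, this, add_sub_cancel]

lemma goodM_of_pow_smul (n : ℕ) (h : ∀ m : M, f ^ n • m = 0) : GoodM f M := by
  have key : ∀ (x : ℕ → M) k j, x k = (∑ i ∈ Finset.range j, f ^ i • (x (k + i) - f • x (k + i + 1))) +
      f ^ j • x (k + j) := fun x k j => by
    induction j with
    | zero => simp
    | succ j ih =>
      rw [Finset.sum_range_succ, smul_sub, smul_smul, ← pow_succ, ← add_assoc k j 1, add_assoc,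
        sub_add_cancel]
      exact ih
  refine ⟨fun x y e => funext fun k => ?_, fun y => ⟨fun k => ∑ i ∈ Finset.range n, f ^ i • y (k + i), funext fun k => ?_⟩⟩
  · rw [key x k n, key y k n, h, h]
    congr 1
    exact Finset.sum_congr rfl fun i _ => congrArg (f ^ i • ·) (congrFun e (k + i))
  · change (∑ i ∈ Finset.range n, f ^ i • y (k + i)) -
      f • ∑ i ∈ Finset.range n, f ^ i • y (k + 1 + i) = y k
    rw [Finset.smul_sum, ← Finset.sum_sub_distrib]
    have e : ∀ i, f ^ i • y (k + i) - f • f ^ i • y (k + 1 + i) =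
        f ^ i • y (k + i) - f ^ (i + 1) • y (k + (i + 1)) := fun i => by
      rw [smul_smul, ← pow_succ', add_right_comm k 1 i, add_assoc]
    simp only [e]
    rw [Finset.sum_range_sub' (fun i => f ^ i • y (k + i)), h, pow_zero, one_smul, add_zero,
      sub_zero]

end Modules

/-- Modules generated by elements along which they are derived complete vanish. -/
theorem subsingleton_of_gens : ∀ (r : ℕ) (a : Fin r → Λ) (M : Type w) [AddCommGroup M] [Module Λ M],
    (∀ k, GoodM (a k) M) → (∀ m : M, ∃ x : Fin r → M, ∑ k, a k • x k = m) → Subsingleton M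
  | 0, _, M, _, _, _, hgen => ⟨fun m m' => by
      obtain ⟨x, rfl⟩ := hgen m
      obtain ⟨x', rfl⟩ := hgen m'
      simp⟩
  | r + 1, a, M, _, _, hgood, hgen => by
    let g : M →ₗ[Λ] M := a 0 • LinearMap.id
    let p := (LinearMap.range g).mkQ
    haveI : Subsingleton (M ⧸ LinearMap.range g) :=
      subsingleton_of_gens r (fun k => a k.succ) _
        (fun k => goodM_coker g p (Submodule.mkQ_surjective _)
          (fun n hn => (Submodule.Quotient.mk_eq_zero _).mp hn)
          (fun m => (Submodule.Quotient.mk_eq_zero _).mpr ⟨m, rfl⟩) (hgood _) (hgood _))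
        (fun c => by
          obtain ⟨m, rfl⟩ := Submodule.mkQ_surjective _ c
          obtain ⟨x, rfl⟩ := hgen m
          refine ⟨fun k => p (x k.succ), ?_⟩
          rw [Fin.sum_univ_succ, map_add, map_sum,
            show (LinearMap.range g).mkQ (a 0 • x 0) = 0 from
              (Submodule.Quotient.mk_eq_zero _).mpr ⟨x 0, rfl⟩, zero_add]
          exact Finset.sum_congr rfl fun k _ => (map_smul p _ _).symm)
    have hsurj : ∀ m : M, ∃ m', a 0 • m' = m := fun m =>
      (Submodule.Quotient.mk_eq_zero (LinearMap.range g)).mp (Subsingleton.elim _ _)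
    choose d hd using hsurj
    refine ⟨fun m m' => ?_⟩
    suffices key : ∀ m : M, m = 0 from (key m).trans (key m').symm
    intro m
    let x : ℕ → M := fun k => d^[k] m
    have h0 : x = fun _ => 0 := (hgood 0).1 (funext fun k => by
      simp only [x, Function.iterate_succ_apply', hd, sub_self, smul_zero])
    exact congrFun h0 0

variable {X : Scheme.{u}} (I : Ideal Λ)

lemma surjective_Γ_map {F G : EtModW.ModP Λ X} (φ : F ⟶ G) [Epi φ] (W : WCAff X) :
    Function.Surjective ((Γ Λ W.1).map φ).hom :=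
  surjective_app_of_epi φ (isWC W)

lemma injective_Γ_map {F G : EtModW.ModP Λ X} (φ : F ⟶ G) [Mono φ] (W : WCAff X) :
    Function.Injective ((Γ Λ W.1).map φ).hom := by
  haveI : (Γ Λ W.1).IsRightAdjoint := (adj Λ W.1).isRightAdjoint
  exact (ModuleCat.mono_iff_injective _).mp inferInstance

lemma exact_Γ_map {S : ShortComplex (EtModW.ModP Λ X)} (hS : S.Exact) (W : WCAff X) :
    (∀ n, ((Γ Λ W.1).map S.g).hom n = 0 → ∃ m, ((Γ Λ W.1).map S.f).hom m = n) ∧
      ∀ m, ((Γ Λ W.1).map S.g).hom (((Γ Λ W.1).map S.f).hom m) = 0 := by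
  haveI := preservesFiniteColimits_Γ (Λ := Λ) (isWC W)
  haveI : (Γ Λ W.1).IsRightAdjoint := (adj Λ W.1).isRightAdjoint
  haveI : PreservesFiniteLimits (Γ Λ W.1) := inferInstance
  have h := hS.map (Γ Λ W.1)
  exact ⟨(ShortComplex.moduleCat_exact_iff _).mp h,
    fun m => congr($((S.map (Γ Λ W.1)).zero) m)⟩

theorem kernel_cokernel {F G : EtModW.ModP Λ X} (φ : F ⟶ G)
    (hF : _root_.ProEtDC.IsDCSheaf Λ I F) (hG : _root_.ProEtDC.IsDCSheaf Λ I G) :
    _root_.ProEtDC.IsDCSheaf Λ I (kernel φ) ∧ _root_.ProEtDC.IsDCSheaf Λ I (cokernel φ) := by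
  rw [isDCSheaf_iff] at hF hG
  rw [isDCSheaf_iff, isDCSheaf_iff]
  refine ⟨fun f hf W => ?_, fun f hf W => ?_⟩
  · obtain ⟨h1, h2⟩ := exact_Γ_map (S := ShortComplex.mk (kernel.ι φ) φ (kernel.condition φ))
      (ShortComplex.exact_of_f_is_kernel _ (kernelIsKernel φ)) W
    exact goodM_ker _ _ (injective_Γ_map (kernel.ι φ) W) h1 h2 (hF f hf W) (hG f hf W)
  · obtain ⟨h1, h2⟩ := exact_Γ_map (S := ShortComplex.mk φ (cokernel.π φ) (cokernel.condition φ))
      (ShortComplex.exact_of_g_is_cokernel _ (cokernelIsCokernel φ)) W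
    exact goodM_coker _ _ (surjective_Γ_map (cokernel.π φ) W) h1 h2 (hF f hf W) (hG f hf W)

theorem extension {S : ShortComplex (EtModW.ModP Λ X)} (hS : S.ShortExact)
    (h₁ : _root_.ProEtDC.IsDCSheaf Λ I S.X₁) (h₃ : _root_.ProEtDC.IsDCSheaf Λ I S.X₃) :
    _root_.ProEtDC.IsDCSheaf Λ I S.X₂ := by
  rw [isDCSheaf_iff] at h₁ h₃ ⊢
  intro f hf W
  haveI := hS.mono_f
  haveI := hS.epi_g
  obtain ⟨h1, h2⟩ := exact_Γ_map hS.exact W
  exact goodM_extension _ _ (injective_Γ_map S.f W) (surjective_Γ_map S.g W) h1 h2 (h₁ f hf W) (h₃ f hf W)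

theorem limit_tower {J : Type} [SmallCategory J] (D : J ⥤ EtModW.ModP Λ X)
    (hD : ∀ j, _root_.ProEtDC.IsDCSheaf Λ I (D.obj j)) [HasLimit D] :
    _root_.ProEtDC.IsDCSheaf Λ I (limit D) := by
  simp only [isDCSheaf_iff] at hD ⊢
  intro f hf W
  haveI : (Γ Λ W.1).IsRightAdjoint := (adj Λ W.1).isRightAdjoint
  let L := isLimitOfPreserves (Γ Λ W.1) (limit.isLimit D)
  have hext : ∀ a b : (limit D).obj.obj (op W.1),
      (∀ j, ((Γ Λ W.1).map (limit.π D j)).hom a = ((Γ Λ W.1).map (limit.π D j)).hom b) → a = b := by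
    intro a b h
    have := L.hom_ext (f := ModuleCat.ofHom (LinearMap.toSpanSingleton Λ _ a))
      (f' := ModuleCat.ofHom (LinearMap.toSpanSingleton Λ _ b)) fun j => by
        refine ModuleCat.hom_ext (LinearMap.ext fun (r : Λ) => ?_)
        change ((Γ Λ W.1).map (limit.π D j)).hom (r • a) = ((Γ Λ W.1).map (limit.π D j)).hom (r • b)
        rw [map_smul, map_smul, h j]
    simpa using! congr($this (1 : Λ))
  refine ⟨fun x y e => funext fun k => hext _ _ fun j => ?_, fun b => ?_⟩
  · refine congrFun ((hD j f hf W).1 (a₁ := fun k => ((Γ Λ W.1).map (limit.π D j)).hom (x k))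
      (a₂ := fun k => ((Γ Λ W.1).map (limit.π D j)).hom (y k)) (funext fun k => ?_)) k
    have := congrArg ((Γ Λ W.1).map (limit.π D j)).hom (congrFun e k)
    simpa only [map_sub, map_smul] using this
  · choose x hx using fun j => (hD j f hf W).2 fun k => ((Γ Λ W.1).map (limit.π D j)).hom (b k)
    have hcomp : ∀ {i j : J} (t : i ⟶ j) (k : ℕ), ((Γ Λ W.1).map (D.map t)).hom (x i k) = x j k :=
      fun {i j} t k => congrFun ((hD j f hf W).1
        (a₁ := fun k => ((Γ Λ W.1).map (D.map t)).hom (x i k)) (a₂ := x j) (funext fun k => by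
          rw [congrFun (hx j) k, ← limit.w D t]
          have := congrArg ((Γ Λ W.1).map (D.map t)).hom (congrFun (hx i) k)
          simpa only [map_sub, map_smul] using! this)) k
    let c : ℕ → Cone (D ⋙ Γ Λ W.1) := fun k =>
      { pt := ModuleCat.of Λ Λ
        π := { app := fun j => ModuleCat.ofHom (LinearMap.toSpanSingleton Λ _ (x j k))
               naturality := fun i j t => ModuleCat.hom_ext (LinearMap.ext fun (r : Λ) => by
                 change r • x j k = ((Γ Λ W.1).map (D.map t)).hom (r • x i k)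
                 rw [map_smul, hcomp t k]) } }
    let z : ℕ → (limit D).obj.obj (op W.1) := fun k => (L.lift (c k)).hom (1 : Λ)
    have hz : ∀ j k, ((Γ Λ W.1).map (limit.π D j)).hom (z k) = x j k := fun j k =>
      (congr($(L.fac (c k) j) (1 : Λ))).trans (one_smul Λ (x j k))
    refine ⟨z, funext fun k => hext _ _ fun j => ?_⟩
    rw [map_sub, map_smul, hz, hz]
    exact congrFun (hx j) k

theorem isZero_of_gens {r : ℕ} (a : Fin r → Λ) (F : EtModW.ModP Λ X)
    (hF : _root_.ProEtDC.IsDCSheaf Λ (Ideal.span (Set.range a)) F)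
    (h0 : _root_.ProEtDC.ModGensIsZero Λ a F) : IsZero F := by
  rw [isDCSheaf_iff] at hF
  haveI : Epi (_root_.ProEtDC.gensMap Λ a F) := h0
  have hsub : ∀ W : WCAff X, Subsingleton (F.obj.obj (op W.1)) := fun W =>
    subsingleton_of_gens r a _ (fun k => hF _ (Ideal.subset_span ⟨k, rfl⟩) W) fun m => by
      obtain ⟨z, hz⟩ := surjective_Γ_map (_root_.ProEtDC.gensMap Λ a F) W m
      refine ⟨fun k => ((Γ Λ W.1).map (biproduct.π (fun _ : Fin r => F) k)).hom z, ?_⟩
      rw [← hz]
      have ht : (𝟙 (⨁ fun _ : Fin r => F)) ≫ _root_.ProEtDC.gensMap Λ a F =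
          ∑ k, biproduct.π (fun _ : Fin r => F) k ≫ _root_.ProEtDC.smulHom Λ F (a k) := by
        rw [← biproduct.total, Preadditive.sum_comp]
        simp
      rw [← Category.id_comp (_root_.ProEtDC.gensMap Λ a F), ht, Functor.map_sum, ModuleCat.hom_sum,
        LinearMap.sum_apply]
      rfl
  refine (IsZero.iff_id_eq_zero F).mpr (isSeparating_free Λ _ _ ?_)
  rintro _ ⟨W⟩ h
  haveI := hsub W
  exact ((adj Λ W.1).homEquiv _ F).injective
    (ModuleCat.hom_ext (LinearMap.ext fun _ => Subsingleton.elim (α := F.obj.obj (op W.1)) _ _))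

theorem constantSheaf_isDC (M : ModuleCat.{u + 1} Λ) (h : ∀ f ∈ I, ∃ n : ℕ, ∀ m : M, f ^ n • m = 0) :
    _root_.ProEtDC.IsDCSheaf Λ I
      ((constantSheaf (Scheme.ProEt.topology X) (ModuleCat.{u + 1} Λ)).obj M) := by
  rw [isDCSheaf_iff]
  intro f hf W
  obtain ⟨n, hn⟩ := h f hf
  set C := (constantSheaf (Scheme.ProEt.topology X) (ModuleCat.{u + 1} Λ)).obj M
  let T : IsTerminal ((ProEtS.eps X).obj (EtCoh.top X)) := ProEt.EpsCoh.topIsTerminal X
  let A := constantSheafAdj (Scheme.ProEt.topology X) (ModuleCat.{u + 1} Λ) T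
  have h0 : (f ^ n) • (𝟙 C) = 0 := (A.homEquiv M C).injective (by
    rw [A.homEquiv_unit, A.homEquiv_unit, Functor.map_zero, comp_zero]
    refine ModuleCat.hom_ext (LinearMap.ext fun m => ?_)
    change f ^ n • (A.unit.app M).hom m = 0
    rw [← map_smul, hn, map_zero])
  refine goodM_of_pow_smul n fun m => ?_
  exact congr(($(congrArg (fun φ : C ⟶ C => φ.hom.app (op W.1)) h0)).hom m)

theorem lambdaHat_isDC : _root_.ProEtDC.IsDCSheaf Λ I (_root_.ProEtDC.lambdaHat Λ X I) :=
  limit_tower I _ fun n => constantSheaf_isDC I _ fun f hf => ⟨n.unop, fun m => by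
    obtain ⟨l, rfl⟩ := Submodule.mkQ_surjective _ m
    exact (Submodule.Quotient.mk_eq_zero _).mpr
      (Submodule.smul_mem_smul (Ideal.pow_mem_pow hf _) Submodule.mem_top)⟩

theorem isDC_iff_cohomology (K : _root_.ProEtDC.DP Λ X) :
    _root_.ProEtDC.IsDC Λ I K ↔ ∀ p : ℤ, _root_.ProEtDC.IsDCSheaf Λ I (_root_.ProEtDC.HDP K p) := by
  simp only [isDCSheaf_iff, isDC_iff]
  exact ⟨fun h p f hf W => h f hf W p, fun h f hf W p => h p f hf W⟩

end Groth.Agent.Lib.ProEtDC.Thms
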